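import Cfsg.Agent.Lib.RootSubgroups.RootSet

/-!
Connectivity of the rank one graph and the structure of a class of abstract root subgroups.
-/

set_option autoImplicit false
set_option linter.unusedSectionVars false
open Cfsg

namespace Cfsg.Agent.RootSubgroups

variable {G : Type*} [Group G] {A A' B B' C D E : Subgroup G} {S : Set (Subgroup G)}

/-- Members joined in the rank one graph. -/
def Linked (S : Set (Subgroup G)) (A B : Subgroup G) : Prop := Relation.ReflTransGen (FAdj S) A B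

theorem Linked.refl (A : Subgroup G) : Linked S A A := Relation.ReflTransGen.refl

theorem Linked.trans (h : Linked S A B) (h' : Linked S B C) : Linked S A C :=
  Relation.ReflTransGen.trans h h'

theorem Linked.symm (h : Linked S A B) : Linked S B A := by
  have : Relation.ReflTransGen (Function.swap (FAdj S)) B A := Relation.reflTransGen_swap.2 h
  exact Relation.ReflTransGen.mono (fun _ _ h => ⟨h.2.1, h.1, pair_symm h.2.2⟩) _ _ this

theorem Linked.of_adj (hA : A ∈ S) (hB : B ∈ S) (h : IsRankOnePair A B) : Linked S A B :=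
  Relation.ReflTransGen.single ⟨hA, hB, h⟩

theorem exists_partner_of_not_isolated (hA : A ∈ S) (h : ¬ IsIsolatedIn (FAdj S) S A) :
    ∃ A' ∈ S, IsRankOnePair A A' := by
  by_contra hne
  push Not at hne
  exact h ⟨hA, fun B => ⟨fun h1 => hne B h1.2.1 h1.2.2, fun h1 => hne B h1.1 (pair_symm h1.2.2)⟩⟩

theorem not_isolated_of_pair (hA : A ∈ S) (hB : B ∈ S) (h : IsRankOnePair A B) :
    ¬ IsIsolatedIn (FAdj S) S A := fun h1 => (h1.2 B).1 ⟨hA, hB, h⟩

section
variable (hS : IsRootSubgroupSet S)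
include hS

theorem linked_of_line (hA : A ∈ S) (hA' : A' ∈ S) (hp : IsRankOnePair A A') (hB : B ∈ S)
    (hB' : B' ∈ S) (hp' : IsRankOnePair B B') (hAB : ⁅A, B⁆ = ⊥)
    (hroot : ∀ a ∈ A, ∀ b ∈ B, a * b ≠ 1 → a * b ∈ rootElements S) : Linked S A B := by
  by_cases hne : A = B
  · exact hne ▸ Linked.refl A
  have hroot' : ∀ b ∈ B, ∀ a ∈ A, b * a ≠ 1 → b * a ∈ rootElements S := fun b hb a ha h => by
    rw [← commute_of_commutator_eq_bot hAB ha hb] at h ⊢
    exact hroot a ha b hb h
  have hnotz : ∀ {P P' Q : Subgroup G}, P ∈ S → P' ∈ S → Q ∈ S → IsRankOnePair P P' → P ≠ Q →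
      ⁅P, Q⁆ = ⊥ → (∀ x ∈ Q, ∀ p ∈ P, x * p ≠ 1 → x * p ∈ rootElements S) → ⁅Q, P'⁆ ≠ ⊥ := by
    intro P P' Q hP hP' hQ hPP' hPQ hc hr h
    obtain ⟨p, hp0, hp1⟩ := exists_ne_one hPP'
    obtain ⟨x, hx, hx1⟩ := exists_mem_ne_one hS hQ
    refine za_not_root hS hP hP' hPP' (z := x)
      (fun u hu => (commute_of_commutator_eq_bot hc hu hx).symm)
      (fun u hu => commute_of_commutator_eq_bot h hx hu) hx1 hp0 hp1
      (hr x hx p hp0 fun e => hPQ ?_)
    exact eq_of_inter hS hP hP' hPP' hQ hp0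
      (by rw [eq_inv_of_mul_eq_one_right e]; exact inv_mem hx) hp1
  rcases hS.pair B hB A' hA' with h | h | hC
  · exact absurd h (hnotz hA hA' hB hp hne hAB hroot')
  · exact (Linked.of_adj hA hA' hp).trans (Linked.of_adj hB hA' h).symm
  rcases hS.pair A hA B' hB' with h | h | hC'
  · exact absurd h (hnotz hB hB' hA hp' (Ne.symm hne) (bot_symm hAB)
      (fun x hx p hpb => hroot x hx p hpb))
  · exact (Linked.of_adj hA hB' h).trans (Linked.of_adj hB hB' hp').symm
  have hAC := line_back hS hA hA' hp hB hAB hroot hC.1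
  have hBC := line_back hS hB hB' hp' hA (bot_symm hAB) hroot' hC'.1
  obtain ⟨a, ha, ha1⟩ := exists_ne_one hp
  obtain ⟨b, hb, hb1⟩ := exists_ne_one hp'
  have hx1 : a * b ≠ 1 := fun e => hne (eq_of_inter hS hA hA' hp hB ha
    (by rw [eq_inv_of_mul_eq_one_left e]; exact inv_mem hb) ha1)
  have hcov1 : ∃ c ∈ ⁅B, A'⁆, a * b ∈ conjBy A c := by
    rcases line_cover hS hA hA' hp hC.1 (hAC.symm ▸ hB) (x := a * b)
      (by rw [hAC]; exact mul_mem (Subgroup.mem_sup_left ha) (Subgroup.mem_sup_right hb)) with h | h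
    · rw [hAC] at h
      exact absurd (eq_of_inter hS hA hA' hp hB ha (by simpa using mul_mem h (inv_mem hb)) ha1) hne
    · exact h
  have hcov2 : ∃ c ∈ ⁅A, B'⁆, a * b ∈ conjBy B c := by
    rcases line_cover hS hB hB' hp' hC'.1 (hBC.symm ▸ hA) (x := a * b)
      (by rw [hBC]; exact mul_mem (Subgroup.mem_sup_right ha) (Subgroup.mem_sup_left hb)) with h | h
    · rw [hBC] at h
      exact absurd (eq_of_inter hS hB hB' hp' hA hb
        (by simpa using mul_mem (inv_mem ha) h) hb1) (Ne.symm hne)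
    · exact h
  obtain ⟨c, hc, h1⟩ := hcov1
  obtain ⟨c', hc', h2⟩ := hcov2
  have hfix : conjBy A' c = A' := conjBy_of_commute fun x hx =>
    cc_central hC hc (Subgroup.mem_sup_right hx)
  have hfix' : conjBy B' c' = B' := conjBy_of_commute fun x hx =>
    cc_central hC' hc' (Subgroup.mem_sup_right hx)
  have heq := eq_of_inter hS (hS.conj_mem A hA c) hA' (hfix ▸ pair_conj hp c)
    (hS.conj_mem B hB c') h1 h2 hx1
  have l1 : Linked S A (conjBy A c) := (Linked.of_adj hA hA' hp).trans
    (Linked.of_adj (hS.conj_mem A hA c) hA' (hfix ▸ pair_conj hp c)).symm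
  have l2 : Linked S B (conjBy B c') := (Linked.of_adj hB hB' hp').trans
    (Linked.of_adj (hS.conj_mem B hB c') hB' (hfix' ▸ pair_conj hp' c')).symm
  exact l1.trans (heq ▸ l2.symm)

theorem linked_conj_member (hA : A ∈ S) (hA' : A' ∈ S) (hp : IsRankOnePair A A') (hD : D ∈ S)
    {d : G} (hd : d ∈ D) : Linked S A (conjBy A d) := by
  rcases hS.pair A hA D hD with h | h | h
  · rw [conjBy_of_commute fun a ha => (commute_of_commutator_eq_bot h ha hd).symm]
    exact Linked.refl A
  · by_cases hne : A = conjBy A d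
    · rw [← hne]; exact Linked.refl A
    · exact Linked.of_adj hA (hS.conj_mem A hA d)
        (pair_of_mem h (left_mem A D)
          (conjBy_mem_unipotent (left_mem A D) (Subgroup.mem_sup_right hd)) hne).1
  · have hle := line_le hS hA hA' hp hD h.1 hd
    have hAL : ∀ x ∈ A ⊔ ⁅A, D⁆, ∀ a ∈ A, a * x = x * a := by
      intro x hx a ha
      have hs : A ⊔ ⁅A, D⁆ ≤ Subgroup.centralizer {a} := sup_le
        (fun u hu => Subgroup.mem_centralizer_iff.2 fun v hv => by
          rw [Set.mem_singleton_iff.1 hv]; exact comm hS hA ha hu)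
        (fun u hu => Subgroup.mem_centralizer_iff.2 fun v hv => by
          rw [Set.mem_singleton_iff.1 hv]
          exact (cc_central h hu (Subgroup.mem_sup_left ha)).symm)
      exact Subgroup.mem_centralizer_iff.1 (hs hx) a rfl
    refine linked_of_line hS hA hA' hp (hS.conj_mem A hA d) (hS.conj_mem A' hA' d) (pair_conj hp d)
      (commutator_eq_bot_of_commute fun a ha x hx => hAL x (hle hx) a ha) ?_
    intro a ha x hx h1
    refine ⟨h1, ?_⟩
    rcases line_cover hS hA hA' hp hD h.1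
      (mul_mem (Subgroup.mem_sup_left ha) (hle hx)) with h2 | ⟨b, _, h2⟩
    · exact ⟨_, h.1, h2⟩
    · exact ⟨_, hS.conj_mem A hA b, h2⟩

theorem linked_conj (hA : A ∈ S) (hA' : A' ∈ S) (hp : IsRankOnePair A A') (g : G) :
    Linked S A (conjBy A g) := by
  have hg : g ∈ ⨆ P ∈ S, P := hS.generates ▸ Subgroup.mem_top g
  rw [iSup_subtype'] at hg
  revert A A'
  induction hg using Subgroup.iSup_induction' with
  | hp i x hx => exact fun hA hA' hp => linked_conj_member hS hA hA' hp i.2 hx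
  | h1 => intro A A' _ _ _; rw [conjBy_one]; exact Linked.refl A
  | hmul x y _ _ ihx ihy =>
    intro A A' hA hA' hp
    rw [← conjBy_conjBy]
    exact (ihy hA hA' hp).trans
      (ihx (hS.conj_mem A hA y) (hS.conj_mem A' hA' y) (pair_conj hp y))

theorem class_of_connected (hne : S.Nonempty) (hc : IsConnectedFamily (FAdj S) S) :
    IsConjClassOfSubgroups S := by
  refine ⟨hne, fun A hA B hB => ?_⟩
  have h := hc A hA B hB
  clear hB
  induction h with
  | refl => exact ⟨1, (conjBy_one A).symm⟩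
  | tail _ h2 ih =>
    obtain ⟨g, rfl⟩ := ih
    obtain ⟨x, -, hx⟩ := exists_conj_right h2.2.2
    exact ⟨x * g, by rw [← conjBy_conjBy, hx]⟩

theorem partner_of_class (hcl : IsConjClassOfSubgroups S) (hP : A ∈ S) (hP' : A' ∈ S)
    (hp : IsRankOnePair A A') (hB : B ∈ S) : ∃ B' ∈ S, IsRankOnePair B B' := by
  obtain ⟨g, rfl⟩ := hcl.2 A hP B hB
  exact ⟨_, hS.conj_mem A' hP' g, pair_conj hp g⟩

theorem connected_of_class (hcl : IsConjClassOfSubgroups S) (hP : A ∈ S) (hP' : A' ∈ S)
    (hp : IsRankOnePair A A') : IsConnectedFamily (FAdj S) S := by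
  intro B hB C hC
  obtain ⟨B', hB', hpB⟩ := partner_of_class hS hcl hP hP' hp hB
  obtain ⟨g, rfl⟩ := hcl.2 B hB C hC
  exact linked_conj hS hB hB' hpB g

end

end Cfsg.Agent.RootSubgroups
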