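import Mathlib
import Cfsg.Prelude.Def_RootSubgroups

/-!
Basic theory of rank one pairs: conjugates, the action on the unipotent subgroups,
double transitivity, trivial intersections and the normal subgroup dichotomy.
-/

set_option autoImplicit false
open Cfsg

namespace Cfsg.Agent.RootSubgroups

variable {G : Type*} [Group G] {A B C D : Subgroup G}

/-! ### Conjugates -/

theorem mem_conjBy {g x : G} : x ∈ conjBy A g ↔ g⁻¹ * x * g ∈ A := by
  constructor
  · rintro ⟨a, ha, rfl⟩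
    simpa [MulAut.conj_apply, mul_assoc] using ha
  · intro hx
    exact ⟨g⁻¹ * x * g, hx, by simp [MulAut.conj_apply, mul_assoc]⟩

theorem conj_mem_conjBy {g a : G} (ha : a ∈ A) : g * a * g⁻¹ ∈ conjBy A g :=
  mem_conjBy.2 (by simpa [mul_assoc] using ha)

theorem conjBy_one (A : Subgroup G) : conjBy A 1 = A := by
  ext x; simp

theorem conjBy_conjBy (A : Subgroup G) (g h : G) : conjBy (conjBy A h) g = conjBy A (g * h) := by
  ext x; simp only [mem_conjBy, mul_inv_rev, mul_assoc]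

theorem conjBy_inv_cancel (A : Subgroup G) (g : G) : conjBy (conjBy A g) g⁻¹ = A := by
  rw [conjBy_conjBy, inv_mul_cancel, conjBy_one]

theorem conjBy_cancel_inv (A : Subgroup G) (g : G) : conjBy (conjBy A g⁻¹) g = A := by
  rw [conjBy_conjBy, mul_inv_cancel, conjBy_one]

theorem conjBy_inj {g : G} (h : conjBy A g = conjBy B g) : A = B := by
  rw [← conjBy_inv_cancel A g, h, conjBy_inv_cancel]

theorem conjBy_eq_iff {g : G} : conjBy A g = B ↔ A = conjBy B g⁻¹ := by
  constructor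
  · rintro rfl; rw [conjBy_inv_cancel]
  · rintro rfl; rw [conjBy_cancel_inv]

theorem conjBy_mono {g : G} (h : A ≤ B) : conjBy A g ≤ conjBy B g := Subgroup.map_mono h

theorem conjBy_sup (A B : Subgroup G) (g : G) : conjBy (A ⊔ B) g = conjBy A g ⊔ conjBy B g :=
  Subgroup.map_sup _ _ _

theorem conjBy_commutator (A B : Subgroup G) (g : G) :
    conjBy ⁅A, B⁆ g = ⁅conjBy A g, conjBy B g⁆ := Subgroup.map_commutator _ _ _

theorem conjBy_bot (g : G) : conjBy (⊥ : Subgroup G) g = ⊥ := Subgroup.map_bot _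

theorem conjBy_eq_bot {g : G} : conjBy A g = ⊥ ↔ A = ⊥ :=
  Subgroup.map_eq_bot_iff_of_injective _ (MulAut.conj g).injective

theorem mem_normalizer_iff_conjBy {g : G} :
    g ∈ Subgroup.normalizer (A : Set G) ↔ conjBy A g = A := by
  rw [Subgroup.mem_normalizer_iff]
  constructor
  · intro h; ext x; rw [mem_conjBy, h (g⁻¹ * x * g)]; simp [mul_assoc]
  · intro h x
    refine ⟨fun hx => h ▸ conj_mem_conjBy hx, fun hx => ?_⟩
    have h' := mem_conjBy.1 (h.symm ▸ hx : g * x * g⁻¹ ∈ conjBy A g)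
    simpa [mul_assoc] using h'

theorem conjBy_of_mem_normalizer {g : G} (h : g ∈ Subgroup.normalizer (A : Set G)) :
    conjBy A g = A := mem_normalizer_iff_conjBy.1 h

theorem conjBy_of_mem {g : G} (h : g ∈ A) : conjBy A g = A :=
  conjBy_of_mem_normalizer (Subgroup.le_normalizer h)

theorem conjBy_le {g : G} (hA : A ≤ C) (hg : g ∈ C) : conjBy A g ≤ C :=
  conjBy_of_mem hg ▸ conjBy_mono hA

theorem conjBy_of_commute {g : G} (h : ∀ a ∈ A, g * a = a * g) : conjBy A g = A := by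
  apply conjBy_of_mem_normalizer
  apply Subgroup.centralizer_le_normalizer
  rw [Subgroup.mem_centralizer_iff]
  exact fun a ha => (h a ha).symm

/-- Elementwise commutation from a trivial commutator subgroup. -/
theorem commute_of_commutator_eq_bot (h : ⁅A, B⁆ = ⊥) {a b : G} (ha : a ∈ A) (hb : b ∈ B) :
    a * b = b * a :=
  Subgroup.mem_centralizer_iff.1 (Subgroup.commutator_eq_bot_iff_le_centralizer.1 h ha) b hb |>.symm

theorem commutator_eq_bot_of_commute (h : ∀ a ∈ A, ∀ b ∈ B, a * b = b * a) : ⁅A, B⁆ = ⊥ :=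
  Subgroup.commutator_eq_bot_iff_le_centralizer.2 fun a ha =>
    Subgroup.mem_centralizer_iff.2 fun b hb => (h a ha b hb).symm

theorem comm_of_comm (hA : IsMulCommutative A) {a a' : G} (ha : a ∈ A) (ha' : a' ∈ A) :
    a * a' = a' * a := congrArg Subtype.val (hA.is_comm.comm ⟨a, ha⟩ ⟨a', ha'⟩)

theorem isMulCommutative_of_forall (h : ∀ a ∈ A, ∀ a' ∈ A, a * a' = a' * a) :
    IsMulCommutative A :=
  ⟨⟨fun a b => Subtype.ext (h a.1 a.2 b.1 b.2)⟩⟩

theorem conjBy_comm (hA : IsMulCommutative A) (g : G) : IsMulCommutative ↥(conjBy A g) := by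
  apply isMulCommutative_of_forall
  rintro _ ⟨a, ha, rfl⟩ _ ⟨a', ha', rfl⟩
  rw [← map_mul, ← map_mul, comm_of_comm hA ha ha']

/-- Conjugates of a subgroup `A` by elements of `P ⊔ Q` stay in any family closed under `P` and `Q`. -/
theorem orbit_sup {P Q : Subgroup G} {T : Set (Subgroup G)}
    (hP : ∀ p ∈ P, ∀ C ∈ T, conjBy C p ∈ T) (hQ : ∀ q ∈ Q, ∀ C ∈ T, conjBy C q ∈ T)
    {x : G} (hx : x ∈ P ⊔ Q) {C : Subgroup G} (hC : C ∈ T) : conjBy C x ∈ T := by
  rw [Subgroup.sup_eq_closure] at hx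
  have key : ∀ C ∈ T, conjBy C x ∈ T ∧ conjBy C x⁻¹ ∈ T := by
    clear hC C
    induction hx using Subgroup.closure_induction with
    | mem y hy =>
      intro C hC
      rcases hy with hy | hy
      · exact ⟨hP y hy C hC, hP _ (inv_mem hy) C hC⟩
      · exact ⟨hQ y hy C hC, hQ _ (inv_mem hy) C hC⟩
    | one => intro C hC; simp [conjBy_one, hC]
    | mul y z _ _ ihy ihz =>
      intro C hC
      refine ⟨?_, ?_⟩
      · rw [← conjBy_conjBy]; exact (ihy _ (ihz C hC).1).1
      · rw [mul_inv_rev, ← conjBy_conjBy]; exact (ihz _ (ihy C hC).2).2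
    | inv y _ ih => intro C hC; rw [inv_inv]; exact (ih C hC).symm
  exact (key C hC).1

/-! ### Rank one pairs -/

theorem pair_symm (h : IsRankOnePair A B) : IsRankOnePair B A := RankOnePair_symm h

theorem eq_one_of_normalizes (h : IsRankOnePair A B) {a : G} (ha : a ∈ A)
    (hn : conjBy B a = B) : a = 1 := by
  by_contra hne
  obtain ⟨b, hb, -, hab⟩ := h.cond_left a ha hne
  have h1 : conjBy B a⁻¹ = B := (conjBy_eq_iff.1 hn).symm
  rw [h1, conjBy_eq_iff, inv_inv, conjBy_of_mem hb] at hab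
  exact h.ne hab

theorem eq_one_of_centralizes (h : IsRankOnePair A B) {a : G} (ha : a ∈ A)
    (hn : ∀ b ∈ B, a * b = b * a) : a = 1 :=
  eq_one_of_normalizes h ha (conjBy_of_commute hn)

theorem left_ne_bot (h : IsRankOnePair A B) : A ≠ ⊥ := by
  intro hA
  obtain ⟨b, hb, hb1⟩ : ∃ b ∈ B, b ≠ 1 :=
    B.bot_or_exists_ne_one.resolve_left fun hB => h.ne (hA.trans hB.symm)
  obtain ⟨a, ha, ha1, -⟩ := h.cond_right b hb hb1
  rw [hA] at ha
  exact ha1 (by simpa using ha)

theorem right_ne_bot (h : IsRankOnePair A B) : B ≠ ⊥ := left_ne_bot (pair_symm h)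

theorem exists_ne_one (h : IsRankOnePair A B) : ∃ a ∈ A, a ≠ 1 :=
  A.bot_or_exists_ne_one.resolve_left (left_ne_bot h)

theorem partner_unique (h : IsRankOnePair A B) {b b' : G} (hb : b ∈ B) (hb' : b' ∈ B)
    (he : conjBy A b⁻¹ = conjBy A b'⁻¹) : b = b' := by
  have : conjBy A (b' * b⁻¹) = A := by
    rw [← conjBy_conjBy, he, conjBy_cancel_inv]
  have h1 := eq_one_of_normalizes (pair_symm h) (mul_mem hb' (inv_mem hb)) this
  exact (mul_inv_eq_one.1 h1).symm

theorem left_mem (A B : Subgroup G) : A ∈ unipotentSubgroups A B :=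
  ⟨1, one_mem _, (conjBy_one A).symm⟩

theorem exists_conj_right (h : IsRankOnePair A B) : ∃ x ∈ A ⊔ B, conjBy A x = B := by
  obtain ⟨a, ha, ha1⟩ := exists_ne_one h
  obtain ⟨b, hb, -, hab⟩ := h.cond_left a ha ha1
  refine ⟨a * b⁻¹, mul_mem (Subgroup.mem_sup_left ha)
    (Subgroup.mem_sup_right (inv_mem hb)), ?_⟩
  rw [← conjBy_conjBy, hab, conjBy_cancel_inv]

theorem right_mem (h : IsRankOnePair A B) : B ∈ unipotentSubgroups A B := by
  obtain ⟨x, hx, he⟩ := exists_conj_right h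
  exact ⟨x, hx, he.symm⟩

theorem conjBy_mem_unipotent (hC : C ∈ unipotentSubgroups A B) {x : G} (hx : x ∈ A ⊔ B) :
    conjBy C x ∈ unipotentSubgroups A B := by
  obtain ⟨y, hy, rfl⟩ := hC
  exact ⟨x * y, mul_mem hx hy, conjBy_conjBy A x y⟩

theorem unipotent_le (hC : C ∈ unipotentSubgroups A B) : C ≤ A ⊔ B := by
  obtain ⟨y, hy, rfl⟩ := hC
  exact conjBy_le le_sup_left hy

theorem conj_left_by_right (h : IsRankOnePair A B) {b : G} (hb : b ∈ B) (hb1 : b ≠ 1) :
    ∃ a ∈ A, a ≠ 1 ∧ conjBy A b = conjBy B a := by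
  obtain ⟨a, ha, ha1, hab⟩ := h.cond_right b⁻¹ (inv_mem hb) (inv_ne_one.2 hb1)
  exact ⟨a⁻¹, inv_mem ha, inv_ne_one.2 ha1, by simpa using hab.symm⟩

theorem mem_unipotent_iff (h : IsRankOnePair A B) :
    C ∈ unipotentSubgroups A B ↔ C = A ∨ ∃ a ∈ A, C = conjBy B a := by
  constructor
  · rintro ⟨x, hx, rfl⟩
    refine orbit_sup (P := A) (Q := B)
      (T := {C | C = A ∨ ∃ a ∈ A, C = conjBy B a}) ?_ ?_ hx (Or.inl rfl)
    · rintro p hp C (rfl | ⟨a, ha, rfl⟩)
      · exact Or.inl (conjBy_of_mem hp)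
      · exact Or.inr ⟨p * a, mul_mem hp ha, conjBy_conjBy B p a⟩
    · have key : ∀ b ∈ B, conjBy A b = A ∨ ∃ a ∈ A, conjBy A b = conjBy B a := by
        intro b hb
        by_cases hb1 : b = 1
        · exact Or.inl (by rw [hb1, conjBy_one])
        · obtain ⟨a, ha, -, he⟩ := conj_left_by_right h hb hb1
          exact Or.inr ⟨a, ha, he⟩
      rintro q hq C (rfl | ⟨a, ha, rfl⟩)
      · exact key q hq
      · by_cases ha1 : a = 1
        · subst ha1
          rw [conjBy_one, conjBy_of_mem hq]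
          exact Or.inr ⟨1, one_mem _, (conjBy_one B).symm⟩
        · obtain ⟨b, hb, -, he⟩ := h.cond_left a⁻¹ (inv_mem ha) (inv_ne_one.2 ha1)
          rw [inv_inv] at he
          rw [← he, conjBy_conjBy]
          exact key _ (mul_mem hq (inv_mem hb))
  · rintro (rfl | ⟨a, ha, rfl⟩)
    · exact left_mem C B
    · exact conjBy_mem_unipotent (right_mem h) (Subgroup.mem_sup_left ha)

/-- Transitivity of `A` on the other unipotent subgroups. -/
theorem exists_conj_eq (h : IsRankOnePair A B) (hC : C ∈ unipotentSubgroups A B) (hne : C ≠ A) :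
    ∃ a ∈ A, conjBy B a = C := by
  rcases (mem_unipotent_iff h).1 hC with rfl | ⟨a, ha, rfl⟩
  · exact absurd rfl hne
  · exact ⟨a, ha, rfl⟩

theorem two_transitive_base (h : IsRankOnePair A B) (hC : C ∈ unipotentSubgroups A B)
    (hD : D ∈ unipotentSubgroups A B) (hne : C ≠ D) :
    ∃ x ∈ A ⊔ B, conjBy A x = C ∧ conjBy B x = D := by
  obtain ⟨y, hy, rfl⟩ := hC
  have hD' := conjBy_mem_unipotent hD (inv_mem hy)
  have hne' : conjBy D y⁻¹ ≠ A := fun e => hne (by rw [← e, conjBy_cancel_inv])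
  obtain ⟨a, ha, he⟩ := exists_conj_eq h hD' hne'
  refine ⟨y * a, mul_mem hy (Subgroup.mem_sup_left ha), ?_, ?_⟩
  · rw [← conjBy_conjBy, conjBy_of_mem ha]
  · rw [← conjBy_conjBy, he, conjBy_cancel_inv]

/-- A non-identity element of a unipotent subgroup fixes only that subgroup. -/
theorem eq_of_fixed (h : IsRankOnePair A B) (hC : C ∈ unipotentSubgroups A B)
    {a : G} (ha : a ∈ A) (ha1 : a ≠ 1) (hfix : conjBy C a = C) (hA : IsMulCommutative A) : C = A := by
  by_contra hne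
  obtain ⟨a₀, ha₀, rfl⟩ := exists_conj_eq h hC hne
  apply ha1
  refine eq_one_of_normalizes h ha ?_
  rw [conjBy_conjBy, comm_of_comm hA ha ha₀, ← conjBy_conjBy] at hfix
  exact conjBy_inj hfix

theorem pair_conj (h : IsRankOnePair A B) (g : G) : IsRankOnePair (conjBy A g) (conjBy B g) := by
  have hc : ∀ {A B : Subgroup G}, RankOneCondition A B →
      RankOneCondition (conjBy A g) (conjBy B g) := by
    intro A B hAB x hx hx1
    obtain ⟨a, ha, rfl⟩ := hx
    obtain ⟨b, hb, hb1, he⟩ := hAB a ha (fun e => hx1 (by simp [e]))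
    refine ⟨g * b * g⁻¹, conj_mem_conjBy hb, fun e => hb1 (by simpa using e), ?_⟩
    change conjBy (conjBy A g) (g * b * g⁻¹)⁻¹ = conjBy (conjBy B g) (g * a * g⁻¹)⁻¹
    have h2 : ∀ (C : Subgroup G) (y : G),
        conjBy (conjBy C g) (g * y * g⁻¹)⁻¹ = conjBy (conjBy C y⁻¹) g := by
      intro C y; rw [conjBy_conjBy, conjBy_conjBy]; congr 1; group
    rw [h2, h2, he]
  have := h.nilpotent_left
  have := h.nilpotent_right
  refine ⟨fun e => h.ne (conjBy_inj e), ?_, ?_, hc h.cond_left, hc h.cond_right⟩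
  · exact Group.nilpotent_of_mulEquiv (A.equivMapOfInjective _ (MulAut.conj g).injective)
  · exact Group.nilpotent_of_mulEquiv (B.equivMapOfInjective _ (MulAut.conj g).injective)

theorem pair_of_mem (h : IsRankOnePair A B) (hC : C ∈ unipotentSubgroups A B)
    (hD : D ∈ unipotentSubgroups A B) (hne : C ≠ D) :
    IsRankOnePair C D ∧ C ⊔ D = A ⊔ B := by
  obtain ⟨x, hx, rfl, rfl⟩ := two_transitive_base h hC hD hne
  refine ⟨pair_conj h x, ?_⟩
  rw [← conjBy_sup, conjBy_of_mem hx]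

theorem inf_eq_bot (h : IsRankOnePair A B) : A ⊓ B = ⊥ := by
  rw [Subgroup.eq_bot_iff_forall]
  exact fun x hx => eq_one_of_normalizes h hx.1 (conjBy_of_mem hx.2)

theorem unipotent_symm (h : IsRankOnePair A B) :
    unipotentSubgroups B A = unipotentSubgroups A B := by
  obtain ⟨x, hx, he⟩ := exists_conj_right h
  ext C
  constructor
  · rintro ⟨y, hy, rfl⟩
    exact conjBy_mem_unipotent (right_mem h) (sup_comm A B ▸ hy)
  · rintro ⟨y, hy, rfl⟩
    refine ⟨y * x⁻¹, sup_comm A B ▸ mul_mem hy (inv_mem hx), ?_⟩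
    rw [← he, conjBy_conjBy, inv_mul_cancel_right]

theorem exists_three (h : IsRankOnePair A B) :
    ∃ C₁ ∈ unipotentSubgroups A B, ∃ C₂ ∈ unipotentSubgroups A B, ∃ C₃ ∈ unipotentSubgroups A B,
      C₁ ≠ C₂ ∧ C₁ ≠ C₃ ∧ C₂ ≠ C₃ := by
  obtain ⟨a, ha, ha1⟩ := exists_ne_one h
  refine ⟨A, left_mem A B, B, right_mem h, conjBy B a,
    conjBy_mem_unipotent (right_mem h) (Subgroup.mem_sup_left ha), h.ne, ?_, ?_⟩
  · intro e; exact h.ne (by rw [conjBy_eq_iff.1 e.symm, conjBy_of_mem (inv_mem ha)])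
  · intro e; exact ha1 (eq_one_of_normalizes h ha e.symm)

/-- A subgroup of `⟨A, B⟩` normalized by it is either supplemented by `A` or central. -/
theorem normal_dichotomy (h : IsRankOnePair A B) {N : Subgroup G} (hN : N ≤ A ⊔ B)
    (hn : A ⊔ B ≤ Subgroup.normalizer (N : Set G)) :
    N ⊔ A = A ⊔ B ∨ ∀ n ∈ N, ∀ x ∈ A ⊔ B, n * x = x * n := by
  by_cases hfix : ∀ n ∈ N, conjBy A n = A
  · right
    intro n hn' x hx
    have hfixB : ∀ n ∈ N, conjBy B n = B := by
      obtain ⟨y, hy, rfl⟩ := exists_conj_right h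
      intro n hn'
      have hm : y⁻¹ * n * y ∈ N := (Subgroup.mem_normalizer_iff''.1 (hn hy) n).1 hn'
      have := hfix _ hm
      rw [conjBy_conjBy, show n * y = y * (y⁻¹ * n * y) by group, ← conjBy_conjBy, this]
    have hNA : ∀ n ∈ N, ∀ a ∈ A, n * a = a * n := by
      intro n hn' a ha
      have h1 : n * a * n⁻¹ * a⁻¹ ∈ A :=
        mul_mem (hfix n hn' ▸ conj_mem_conjBy ha) (inv_mem ha)
      have h2 : n * a * n⁻¹ * a⁻¹ ∈ N := by
        have h3 : a * n⁻¹ * a⁻¹ ∈ N :=
          (Subgroup.mem_normalizer_iff.1 (hn (Subgroup.mem_sup_left ha)) n⁻¹).1 (inv_mem hn')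
        simpa [mul_assoc] using mul_mem hn' h3
      have h4 := eq_one_of_normalizes h h1 (hfixB _ h2)
      exact eq_mul_of_mul_inv_eq (mul_inv_eq_one.1 h4)
    have hNB : ∀ n ∈ N, ∀ b ∈ B, n * b = b * n := by
      intro n hn' b hb
      have h1 : n * b * n⁻¹ * b⁻¹ ∈ B :=
        mul_mem (hfixB n hn' ▸ conj_mem_conjBy hb) (inv_mem hb)
      have h2 : n * b * n⁻¹ * b⁻¹ ∈ N := by
        have h3 : b * n⁻¹ * b⁻¹ ∈ N :=
          (Subgroup.mem_normalizer_iff.1 (hn (Subgroup.mem_sup_right hb)) n⁻¹).1 (inv_mem hn')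
        simpa [mul_assoc] using mul_mem hn' h3
      have h4 := eq_one_of_normalizes (pair_symm h) h1 (hfix _ h2)
      exact eq_mul_of_mul_inv_eq (mul_inv_eq_one.1 h4)
    have hx' : x ∈ Subgroup.centralizer {n} := by
      refine (sup_le ?_ ?_ : A ⊔ B ≤ _) hx
      · intro a ha
        rw [Subgroup.mem_centralizer_iff]; rintro _ rfl; exact hNA _ hn' a ha
      · intro b hb
        rw [Subgroup.mem_centralizer_iff]; rintro _ rfl; exact hNB _ hn' b hb
    exact Subgroup.mem_centralizer_iff.1 hx' n rfl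
  · left
    push Not at hfix
    obtain ⟨n, hn', hne⟩ := hfix
    obtain ⟨a, ha, he⟩ := exists_conj_eq h (C := conjBy A n) ⟨n, hN hn', rfl⟩ hne
    have hB : B ≤ N ⊔ A := by
      rw [conjBy_eq_iff] at he
      rw [he, conjBy_conjBy]
      exact conjBy_le le_sup_right
        (mul_mem (Subgroup.mem_sup_right (inv_mem ha)) (Subgroup.mem_sup_left hn'))
    exact le_antisymm (sup_le hN le_sup_left) (sup_le le_sup_right hB)

/-- In a nilpotent group, a proper subgroup cannot be supplemented by the commutator subgroup. -/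
theorem eq_top_of_sup_commutator {P : Type*} [Group P] [Group.IsNilpotent P] (H : Subgroup P)
    (hH : H ⊔ commutator P = ⊤) : H = ⊤ := by
  by_contra hne
  obtain ⟨M, hM, hHM⟩ : ∃ M : Subgroup P, M.Normal ∧ H ≤ M ∧ M ≠ ⊤ ∧ commutator P ≤ M := by
    obtain ⟨n, hn⟩ := Group.IsNilpotent.nilpotent (G := P)
    let Z := Subgroup.upperCentralSeries P
    have hex : ∃ i, H ⊔ Z i = ⊤ := ⟨n, by simp [Z, hn]⟩
    classical
    obtain ⟨i, hi⟩ : ∃ i, Nat.find hex = i + 1 := by
      refine Nat.exists_eq_succ_of_ne_zero fun h0 => hne ?_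
      simpa [h0, Z] using Nat.find_spec hex
    have h1 : H ⊔ Z i ≠ ⊤ := Nat.find_min hex (by omega)
    have h2 : H ⊔ Z (i + 1) = ⊤ := hi ▸ Nat.find_spec hex
    have hnorm : (H ⊔ Z i).Normal := by
      rw [← Subgroup.normalizer_eq_top_iff, eq_top_iff, ← h2]
      refine sup_le (le_sup_left.trans Subgroup.le_normalizer) ?_
      intro z hz
      rw [Subgroup.mem_normalizer_iff]
      have hz' : ∀ y : P, z * y * z⁻¹ * y⁻¹ ∈ Z i := fun y =>
        (Subgroup.mem_upperCentralSeries_succ_iff).1 hz y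
      intro y
      have hc : z * y * z⁻¹ = (z * y * z⁻¹ * y⁻¹) * y := by group
      have hm : z * y * z⁻¹ * y⁻¹ ∈ H ⊔ Z i := Subgroup.mem_sup_right (hz' y)
      rw [hc]
      exact ⟨fun hy => mul_mem hm hy, fun hy => by
        have h := mul_mem (inv_mem hm) hy
        rwa [inv_mul_cancel_left] at h⟩
    refine ⟨H ⊔ Z i, hnorm, le_sup_left, h1, ?_⟩
    rw [commutator_def]
    rw [Subgroup.commutator_le]
    intro x _ y _
    rw [← QuotientGroup.eq_one_iff]
    change QuotientGroup.mk' (H ⊔ Z i) (x * y * x⁻¹ * y⁻¹) = 1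
    simp only [map_mul, map_inv]
    have hcen : ∀ u : P, QuotientGroup.mk' (H ⊔ Z i) u ∈ Subgroup.center _ := by
      intro u
      have hu : u ∈ H ⊔ Z (i + 1) := by rw [h2]; trivial
      refine (sup_le ?_ ?_ : H ⊔ Z (i + 1) ≤
        (Subgroup.center _).comap (QuotientGroup.mk' (H ⊔ Z i))) hu
      · intro v hv
        have h3 : QuotientGroup.mk' (H ⊔ Z i) v = 1 :=
          (QuotientGroup.eq_one_iff v).2 (Subgroup.mem_sup_left hv)
        simp [h3]
      · intro v hv
        rw [Subgroup.mem_comap, Subgroup.mem_center_iff]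
        intro w
        induction w using QuotientGroup.induction_on with
        | H w =>
          have h3 := (Subgroup.mem_upperCentralSeries_succ_iff).1 hv w
          have h4 : QuotientGroup.mk' (H ⊔ Z i) (v * w * v⁻¹ * w⁻¹) = 1 :=
            (QuotientGroup.eq_one_iff _).2 (Subgroup.mem_sup_right h3)
          simp only [map_mul, map_inv] at h4
          have h5 := eq_mul_of_mul_inv_eq (mul_inv_eq_one.1 h4)
          exact h5.symm
    rw [← (Subgroup.mem_center_iff.1 (hcen x) _), mul_inv_cancel_right, mul_inv_cancel]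
  exact hHM.2.1 (top_le_iff.1 (hH ▸ sup_le hHM.1 hHM.2.2))

theorem not_nilpotent (h : IsRankOnePair A B) : ¬ Group.IsNilpotent ↥(A ⊔ B) := by
  intro hnil
  obtain ⟨x, hx, he⟩ := exists_conj_right h
  let A' : Subgroup ↥(A ⊔ B) := A.subgroupOf (A ⊔ B)
  have key : A' = ⊤ := by
    apply eq_top_of_sup_commutator
    have hA : A' ≤ A' ⊔ commutator ↥(A ⊔ B) := le_sup_left
    have hB : B.subgroupOf (A ⊔ B) ≤ A' ⊔ commutator ↥(A ⊔ B) := by
      intro b hb
      rw [Subgroup.mem_subgroupOf] at hb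
      have hb : x⁻¹ * (b : G) * x ∈ A := mem_conjBy.1 (he.symm ▸ hb)
      let x' : ↥(A ⊔ B) := ⟨x, hx⟩
      have h1 : x'⁻¹ * b * x' ∈ A' := hb
      have h2 : x' * (x'⁻¹ * b * x') * x'⁻¹ * (x'⁻¹ * b * x')⁻¹ ∈ commutator ↥(A ⊔ B) := by
        rw [commutator_def]
        exact Subgroup.commutator_mem_commutator (Subgroup.mem_top _) (Subgroup.mem_top _)
      have h3 := mul_mem (Subgroup.mem_sup_right (S := A') h2) (Subgroup.mem_sup_left h1)
      simpa [mul_assoc] using h3
    rw [eq_top_iff, ← Subgroup.subgroupOf_self (A ⊔ B),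
      Subgroup.subgroupOf_sup le_sup_left le_sup_right]
    exact sup_le hA hB
  have hle : A ⊔ B ≤ A := Subgroup.subgroupOf_eq_top.1 key
  have hBA : B ≤ A := le_sup_right.trans hle
  obtain ⟨b, hb, hb1⟩ := exists_ne_one (pair_symm h)
  exact hb1 (eq_one_of_normalizes (pair_symm h) hb (conjBy_of_mem (hBA hb)))

/-- A normal subgroup of a perfect group with nilpotent quotient is everything. -/
theorem eq_top_of_perfect_quotient {X : Type*} [Group X] [hperf : Group.IsPerfect X]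
    (N : Subgroup X) [N.Normal] [Group.IsNilpotent (X ⧸ N)] : N = ⊤ := by
  have hc : commutator (X ⧸ N) = ⊤ := by
    rw [← Subgroup.map_top_of_surjective _ (QuotientGroup.mk'_surjective N),
      ← hperf.commutator_eq_top, commutator_def, commutator_def, Subgroup.map_commutator,
      Subgroup.map_top_of_surjective _ (QuotientGroup.mk'_surjective N)]
  have h1 := eq_top_of_sup_commutator (⊥ : Subgroup (X ⧸ N)) (by rw [hc, sup_top_eq])
  rw [eq_top_iff]
  intro x _
  have h2 : QuotientGroup.mk' N x ∈ (⊥ : Subgroup (X ⧸ N)) := h1 ▸ Subgroup.mem_top _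
  exact (QuotientGroup.eq_one_iff x).1 h2

end Cfsg.Agent.RootSubgroups
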