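import Mathlib
import Cfsg.Agent.Lib.RootSubgroups.Basic

/-!
`SL₂(k)`: its unitriangular subgroups, generation, and homomorphisms out of `SL₂` of a prime field
given by the braid relations.
-/

set_option autoImplicit false
open Cfsg Matrix
open scoped MatrixGroups

namespace Cfsg.Agent.RootSubgroups.SL2

variable {k : Type*} [Field k]

local notation "SL" => Matrix.SpecialLinearGroup (Fin 2) k

/-- An element of `SL₂` from its four entries. -/
def mk (a b c d : k) (h : a * d - b * c = 1) : SL :=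
  ⟨!![a, b; c, d], by rw [Matrix.det_fin_two_of]; exact h⟩

/-- Upper unitriangular element. -/
def u (x : k) : SL := mk 1 x 0 1 (by ring)

/-- Lower unitriangular element. -/
def v (x : k) : SL := mk 1 0 x 1 (by ring)

@[simp] theorem u_val (x : k) : (u x).1 = !![1, x; 0, 1] := rfl

@[simp] theorem v_val (x : k) : (v x).1 = !![1, 0; x, 1] := rfl

theorem ext2 {g g' : SL} (h00 : g.1 0 0 = g'.1 0 0) (h01 : g.1 0 1 = g'.1 0 1)
    (h10 : g.1 1 0 = g'.1 1 0) (h11 : g.1 1 1 = g'.1 1 1) : g = g' := by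
  apply Subtype.ext
  ext i j
  fin_cases i <;> fin_cases j <;> assumption

theorem u_add (x y : k) : u (x + y) = u x * u y := by
  apply ext2 <;> simp [Matrix.mul_apply, Fin.sum_univ_two, add_comm]

theorem v_add (x y : k) : v (x + y) = v x * v y := by
  apply ext2 <;> simp [Matrix.mul_apply, Fin.sum_univ_two]

theorem u_zero : u (0 : k) = 1 := by apply ext2 <;> simp

theorem v_zero : v (0 : k) = 1 := by apply ext2 <;> simp

theorem u_inv (x : k) : (u x)⁻¹ = u (-x) := by
  apply inv_eq_of_mul_eq_one_right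
  rw [← u_add, add_neg_cancel, u_zero]

theorem v_inv (x : k) : (v x)⁻¹ = v (-x) := by
  apply inv_eq_of_mul_eq_one_right
  rw [← v_add, add_neg_cancel, v_zero]

theorem u_eq_one {x : k} : u x = 1 ↔ x = 0 := by
  refine ⟨fun h => ?_, fun h => h ▸ u_zero⟩
  simpa using congrArg (fun g : SL => g.1 0 1) h

theorem v_eq_one {x : k} : v x = 1 ↔ x = 0 := by
  refine ⟨fun h => ?_, fun h => h ▸ v_zero⟩
  simpa using congrArg (fun g : SL => g.1 1 0) h

theorem mem_upper {g : SL} : g ∈ upperUnipotentSL2 k ↔ ∃ x, g = u x := by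
  constructor
  · intro hg
    unfold upperUnipotentSL2 at hg
    induction hg using Subgroup.closure_induction with
    | mem y hy => exact ⟨y.1 0 1, ext2 (by simp [hy.2.1]) (by simp)
        (by simp [hy.1]) (by simp [hy.2.2])⟩
    | one => exact ⟨0, u_zero.symm⟩
    | mul y z _ _ hy hz =>
      obtain ⟨a, rfl⟩ := hy; obtain ⟨b, rfl⟩ := hz; exact ⟨a + b, (u_add a b).symm⟩
    | inv y _ hy => obtain ⟨a, rfl⟩ := hy; exact ⟨-a, u_inv a⟩
  · rintro ⟨x, rfl⟩
    exact Subgroup.subset_closure (by simp)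

theorem mem_lower {g : SL} : g ∈ lowerUnipotentSL2 k ↔ ∃ x, g = v x := by
  constructor
  · intro hg
    unfold lowerUnipotentSL2 at hg
    induction hg using Subgroup.closure_induction with
    | mem y hy => exact ⟨y.1 1 0, ext2 (by simp [hy.2.1]) (by simp [hy.1])
        (by simp) (by simp [hy.2.2])⟩
    | one => exact ⟨0, v_zero.symm⟩
    | mul y z _ _ hy hz =>
      obtain ⟨a, rfl⟩ := hy; obtain ⟨b, rfl⟩ := hz; exact ⟨a + b, (v_add a b).symm⟩
    | inv y _ hy => obtain ⟨a, rfl⟩ := hy; exact ⟨-a, v_inv a⟩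
  · rintro ⟨x, rfl⟩
    exact Subgroup.subset_closure (by simp)

/-- The monomial element `w(t) = u(t) v(-1/t) u(t)`. -/
def w (t : k) : SL := u t * v (-t⁻¹) * u t

/-- The torus element `h(t) = w(t) w(-1)`. -/
def h (t : k) : SL := w t * w (-1)

theorem w_entries {t : k} (ht : t ≠ 0) : (w t).1 = !![0, t; -t⁻¹, 0] := by
  ext i j
  fin_cases i <;> fin_cases j <;>
    simp [w, Matrix.mul_apply, Fin.sum_univ_two, ht]

theorem h_entries {t : k} (ht : t ≠ 0) : (h t).1 = !![t, 0; 0, t⁻¹] := by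
  ext i j
  fin_cases i <;> fin_cases j <;>
    simp [h, w, Matrix.mul_apply, Fin.sum_univ_two, ht]

theorem w_eq_lower {t : k} (ht : t ≠ 0) : w t = v (-t⁻¹) * u t * v (-t⁻¹) := by
  apply ext2 <;> simp [w, Matrix.mul_apply, Fin.sum_univ_two, ht]

theorem w_conj_u {t : k} (ht : t ≠ 0) (x : k) : w t * u x = v (-x / t ^ 2) * w t := by
  apply ext2 <;>
    simp [Matrix.mul_apply, Fin.sum_univ_two, w_entries ht] <;> field_simp

theorem w_conj_v {t : k} (ht : t ≠ 0) (x : k) : w t * v x = u (-(t ^ 2 * x)) * w t := by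
  apply ext2 <;>
    simp [Matrix.mul_apply, Fin.sum_univ_two, w_entries ht] <;> field_simp

/-- Bruhat decomposition in `SL₂`. -/
theorem decomp (g : SL) :
    (g.1 1 0 = 0 → g.1 0 0 ≠ 0 ∧ g = u (g.1 0 0 * g.1 0 1) * h (g.1 0 0)) ∧
    (g.1 1 0 ≠ 0 →
      g = u (g.1 0 0 / g.1 1 0) * w (-(g.1 1 0)⁻¹) * u (g.1 1 1 / g.1 1 0)) := by
  have hd : g.1 0 0 * g.1 1 1 - g.1 0 1 * g.1 1 0 = 1 := by
    rw [← Matrix.det_fin_two]; exact g.2
  constructor
  · intro hc
    rw [hc, mul_zero, sub_zero] at hd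
    have ha : g.1 0 0 ≠ 0 := left_ne_zero_of_mul_eq_one hd
    have h11 : g.1 1 1 = (g.1 0 0)⁻¹ := eq_inv_of_mul_eq_one_right hd
    refine ⟨ha, ext2 ?_ ?_ ?_ ?_⟩ <;>
      simp [Matrix.mul_apply, Fin.sum_univ_two, h_entries ha, hc, h11] <;> field_simp
  · intro hc
    have hne : -(g.1 1 0)⁻¹ ≠ 0 := neg_ne_zero.2 (inv_ne_zero hc)
    refine ext2 ?_ ?_ ?_ ?_ <;>
      simp [Matrix.mul_apply, Fin.sum_univ_two, w_entries hne] <;> field_simp <;>
      linear_combination (-1 : k) * hd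

theorem top_eq_sup : lowerUnipotentSL2 k ⊔ upperUnipotentSL2 k = ⊤ := by
  rw [eq_top_iff]
  intro g _
  have hu : ∀ x : k, u x ∈ lowerUnipotentSL2 k ⊔ upperUnipotentSL2 k := fun x =>
    Subgroup.mem_sup_right (mem_upper.2 ⟨x, rfl⟩)
  have hv : ∀ x : k, v x ∈ lowerUnipotentSL2 k ⊔ upperUnipotentSL2 k := fun x =>
    Subgroup.mem_sup_left (mem_lower.2 ⟨x, rfl⟩)
  have hw : ∀ t : k, w t ∈ lowerUnipotentSL2 k ⊔ upperUnipotentSL2 k := fun t =>
    mul_mem (mul_mem (hu t) (hv _)) (hu t)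
  by_cases hc : g.1 1 0 = 0
  · rw [((decomp g).1 hc).2]; exact mul_mem (hu _) (mul_mem (hw _) (hw _))
  · rw [(decomp g).2 hc]; exact mul_mem (mul_mem (hu _) (hw _)) (hu _)

/-! ### Homomorphisms out of `SL₂` of a prime field -/

section Hom

variable {G : Type*} [Group G] {p : ℕ} [Fact p.Prime] (U V : ZMod p → G)

/-- The image of `w(t)`. -/
def W (t : ZMod p) : G := U t * V (-t⁻¹) * U t

/-- The image of `h(t)`. -/
def H (t : ZMod p) : G := W U V t * W U V (-1)

/-- The map on `SL₂(p)` given by the Bruhat decomposition. -/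
def F (g : Matrix.SpecialLinearGroup (Fin 2) (ZMod p)) : G :=
  if g.1 1 0 = 0 then U (g.1 0 0 * g.1 0 1) * H U V (g.1 0 0)
  else U (g.1 0 0 / g.1 1 0) * W U V (-(g.1 1 0)⁻¹) * U (g.1 1 1 / g.1 1 0)

theorem exists_hom (hU : ∀ x y, U (x + y) = U x * U y) (hV : ∀ x y, V (x + y) = V x * V y)
    (hbr : ∀ t : ZMod p, t ≠ 0 → U t * V (-t⁻¹) * U t = V (-t⁻¹) * U t * V (-t⁻¹)) :
    ∃ φ : Matrix.SpecialLinearGroup (Fin 2) (ZMod p) →* G,
      (∀ x, φ (u x) = U x) ∧ ∀ x, φ (v x) = V x := by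
  have U0 : U 0 = 1 := by simpa using hU 0 0
  have V0 : V 0 = 1 := by simpa using hV 0 0
  have Uneg : ∀ x, U (-x) = (U x)⁻¹ := fun x =>
    eq_inv_of_mul_eq_one_left (by rw [← hU, neg_add_cancel, U0])
  have Vneg : ∀ x, V (-x) = (V x)⁻¹ := fun x =>
    eq_inv_of_mul_eq_one_left (by rw [← hV, neg_add_cancel, V0])
  have Upow : ∀ (n : ℕ) x, U ((n : ZMod p) * x) = U x ^ n := by
    intro n x
    induction n with
    | zero => simp [U0]
    | succ n ih => rw [Nat.cast_succ, add_one_mul, hU, ih, pow_succ]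
  have Vpow : ∀ (n : ℕ) x, V ((n : ZMod p) * x) = V x ^ n := by
    intro n x
    induction n with
    | zero => simp [V0]
    | succ n ih => rw [Nat.cast_succ, add_one_mul, hV, ih, pow_succ]
  have conjU : ∀ t : ZMod p, t ≠ 0 → ∀ x, W U V t * U x * (W U V t)⁻¹ = V (-x / t ^ 2) := by
    intro t ht x
    have base : W U V t * U t * (W U V t)⁻¹ = V (-t⁻¹) := by
      have e : W U V t * U t = V (-t⁻¹) * W U V t := by
        calc W U V t * U t = V (-t⁻¹) * U t * V (-t⁻¹) * U t := by rw [W, hbr t ht]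
          _ = V (-t⁻¹) * W U V t := by rw [W]; group
      rw [e, mul_inv_cancel_right]
    obtain ⟨n, hn⟩ : ∃ n : ℕ, (n : ZMod p) = x / t := ⟨(x / t).val, ZMod.natCast_zmod_val _⟩
    rw [show x = (n : ZMod p) * t by rw [hn, div_mul_cancel₀ x ht],
      show -((n : ZMod p) * t) / t ^ 2 = (n : ZMod p) * -t⁻¹ by field_simp, Upow, Vpow, ← base,
      conj_pow]
  have conjV : ∀ t : ZMod p, t ≠ 0 → ∀ x, W U V t * V x * (W U V t)⁻¹ = U (-(t ^ 2 * x)) := by
    intro t ht x
    have base : W U V t * V (-t⁻¹) * (W U V t)⁻¹ = U t := by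
      have e : W U V t * V (-t⁻¹) = U t * W U V t := by
        calc W U V t * V (-t⁻¹) = U t * (V (-t⁻¹) * U t * V (-t⁻¹)) := by rw [W]; group
          _ = U t * W U V t := by rw [← hbr t ht, W]
      rw [e, mul_inv_cancel_right]
    obtain ⟨n, hn⟩ : ∃ n : ℕ, (n : ZMod p) = -(t * x) :=
      ⟨(-(t * x)).val, ZMod.natCast_zmod_val _⟩
    rw [show x = (n : ZMod p) * -t⁻¹ by rw [hn]; field_simp,
      show -(t ^ 2 * ((n : ZMod p) * -t⁻¹)) = (n : ZMod p) * t by field_simp, Vpow, Upow, ← base,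
      conj_pow]
  have Winv : ∀ t, (W U V t)⁻¹ = W U V (-t) := fun t => by
    simp only [W, inv_neg, neg_neg, _root_.mul_inv_rev, Vneg, Uneg, inv_inv, mul_assoc]
  have Wneg : ∀ t, W U V (-t) = (W U V t)⁻¹ := fun t => (Winv t).symm
  have conjW : ∀ t s : ZMod p, t ≠ 0 → s ≠ 0 →
      W U V t * W U V s * (W U V t)⁻¹ = W U V (t ^ 2 / s) := by
    intro t s ht hs
    have h1 : W U V t * W U V s * (W U V t)⁻¹ =
        (W U V t * U s * (W U V t)⁻¹) * (W U V t * V (-s⁻¹) * (W U V t)⁻¹) *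
          (W U V t * U s * (W U V t)⁻¹) := by
      calc W U V t * W U V s * (W U V t)⁻¹ =
            W U V t * (U s * V (-s⁻¹) * U s) * (W U V t)⁻¹ := rfl
        _ = _ := by group
    have hr : t ^ 2 / s ≠ 0 := div_ne_zero (pow_ne_zero 2 ht) hs
    rw [h1, conjU t ht, conjV t ht]
    have e := hbr (t ^ 2 / s) hr
    rw [show -(t ^ 2 * -s⁻¹) = t ^ 2 / s by field_simp,
      show -s / t ^ 2 = -(t ^ 2 / s)⁻¹ by field_simp, ← e, W]
  have hne1 : (-1 : ZMod p) ≠ 0 := neg_ne_zero.2 one_ne_zero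
  have Hu : ∀ t : ZMod p, t ≠ 0 → ∀ x, H U V t * U x * (H U V t)⁻¹ = U (t ^ 2 * x) := by
    intro t ht x
    calc H U V t * U x * (H U V t)⁻¹
        = W U V t * (W U V (-1) * U x * (W U V (-1))⁻¹) * (W U V t)⁻¹ := by simp only [H]; group
      _ = U (t ^ 2 * x) := by rw [conjU (-1) hne1, conjV t ht]; congr 1; field_simp
  have Hv : ∀ t : ZMod p, t ≠ 0 → ∀ x, H U V t * V x * (H U V t)⁻¹ = V (x / t ^ 2) := by
    intro t ht x
    calc H U V t * V x * (H U V t)⁻¹
        = W U V t * (W U V (-1) * V x * (W U V (-1))⁻¹) * (W U V t)⁻¹ := by simp only [H]; group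
      _ = V (x / t ^ 2) := by rw [conjV (-1) hne1, conjU t ht]; congr 1; field_simp
  -- the elements centralizing both root groups
  let Z : Subgroup G := Subgroup.centralizer (Set.range U ∪ Set.range V)
  have memZ : ∀ z : G, (∀ x, z * U x * z⁻¹ = U x) → (∀ x, z * V x * z⁻¹ = V x) → z ∈ Z := by
    intro z h1 h2
    rw [Subgroup.mem_centralizer_iff]
    rintro _ (⟨x, rfl⟩ | ⟨x, rfl⟩)
    · exact (mul_inv_eq_iff_eq_mul.1 (h1 x)).symm
    · exact (mul_inv_eq_iff_eq_mul.1 (h2 x)).symm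
  have zU : ∀ z ∈ Z, ∀ x, z * U x = U x * z := fun z hz x =>
    (Subgroup.mem_centralizer_iff.1 hz _ (Or.inl ⟨x, rfl⟩)).symm
  have zV : ∀ z ∈ Z, ∀ x, z * V x = V x * z := fun z hz x =>
    (Subgroup.mem_centralizer_iff.1 hz _ (Or.inr ⟨x, rfl⟩)).symm
  have zW : ∀ z ∈ Z, ∀ t, z * W U V t = W U V t * z := fun z hz t => by
    have h1 : Commute z (U t) := zU z hz t
    have h2 : Commute z (V (-t⁻¹)) := zV z hz _
    exact (h1.mul_right h2).mul_right h1
  obtain ⟨g, hg⟩ := IsCyclic.exists_generator (α := (ZMod p)ˣ)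
  have hpow : ∀ n : ℕ, H U V ((g : ZMod p) ^ n) * ((H U V (g : ZMod p)) ^ n)⁻¹ ∈ Z := by
    intro n
    have hgn : (g : ZMod p) ^ n ≠ 0 := pow_ne_zero _ g.ne_zero
    apply memZ
    · intro x
      have h2 : ∀ m : ℕ, ∀ x, (H U V (g : ZMod p)) ^ m * U x * ((H U V (g : ZMod p)) ^ m)⁻¹ =
          U (((g : ZMod p) ^ m) ^ 2 * x) := by
        intro m
        induction m with
        | zero => simp
        | succ m ih =>
          intro x
          calc H U V (g : ZMod p) ^ (m + 1) * U x * (H U V (g : ZMod p) ^ (m + 1))⁻¹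
              = H U V (g : ZMod p) ^ m * (H U V (g : ZMod p) * U x * (H U V (g : ZMod p))⁻¹) *
                  (H U V (g : ZMod p) ^ m)⁻¹ := by rw [pow_succ]; group
            _ = _ := by rw [Hu _ g.ne_zero, ih]; congr 1; ring
      obtain ⟨y, rfl⟩ : ∃ y, x = ((g : ZMod p) ^ n) ^ 2 * y :=
        ⟨x / ((g : ZMod p) ^ n) ^ 2, by field_simp⟩
      conv_rhs => rw [← Hu _ hgn]
      rw [← h2 n]
      group
    · intro x
      have h2 : ∀ m : ℕ, ∀ x, (H U V (g : ZMod p)) ^ m * V x * ((H U V (g : ZMod p)) ^ m)⁻¹ =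
          V (x / ((g : ZMod p) ^ m) ^ 2) := by
        intro m
        induction m with
        | zero => simp
        | succ m ih =>
          intro x
          calc H U V (g : ZMod p) ^ (m + 1) * V x * (H U V (g : ZMod p) ^ (m + 1))⁻¹
              = H U V (g : ZMod p) ^ m * (H U V (g : ZMod p) * V x * (H U V (g : ZMod p))⁻¹) *
                  (H U V (g : ZMod p) ^ m)⁻¹ := by rw [pow_succ]; group
            _ = _ := by rw [Hv _ g.ne_zero, ih]; congr 1; field_simp; ring
      obtain ⟨y, rfl⟩ : ∃ y, x = y / ((g : ZMod p) ^ n) ^ 2 :=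
        ⟨x * ((g : ZMod p) ^ n) ^ 2, by field_simp⟩
      conv_rhs => rw [← Hv _ hgn]
      rw [← h2 n]
      group
  have Hcomm : ∀ s t : ZMod p, s ≠ 0 → t ≠ 0 → H U V s * H U V t = H U V t * H U V s := by
    have rep : ∀ s : ZMod p, s ≠ 0 → ∃ n : ℕ, ∃ z ∈ Z, H U V s = z * H U V (g : ZMod p) ^ n := by
      intro s hs
      obtain ⟨n, hn⟩ := mem_powers_iff_mem_zpowers.2 (hg (Units.mk0 s hs))
      have hsn : s = (g : ZMod p) ^ n := by
        simpa using (congrArg (Units.val) hn).symm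
      exact ⟨n, _, hpow n, by rw [hsn, inv_mul_cancel_right]⟩
    intro s t hs ht
    obtain ⟨n, z, hz, hs'⟩ := rep s hs
    obtain ⟨m, z', hz', ht'⟩ := rep t ht
    have hzH : ∀ z ∈ Z, ∀ t, Commute z (H U V t) := fun z hz t =>
      Commute.mul_right (zW z hz t) (zW z hz (-1))
    have hzz : Commute z z' := by
      have h1 : Commute z (H U V t) := hzH z hz t
      rw [ht'] at h1
      have h2 : Commute z ((H U V (g : ZMod p)) ^ m) := (hzH z hz _).pow_right m
      have := h1.mul_right h2.inv_right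
      simpa using this
    rw [hs', ht']
    exact (Commute.mul_right hzz ((hzH z hz _).pow_right m)).mul_left
      (((hzH z' hz' _).symm.pow_left n).mul_right ((Commute.refl _).pow_pow n m))
  -- the central element `w(t)²` does not depend on `t`
  have key : ∀ s t : ZMod p, s ≠ 0 → t ≠ 0 → s + t ≠ 0 →
      W U V (-s ^ 2 / (s + t)) * W U V s * W U V t = W U V (s * t / (s + t)) := by
    intro s t hs ht hst
    have hV' : ∀ x : ZMod p, V (-x⁻¹) = U (-x) * W U V x * U (-x) := fun x => by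
      rw [W, Uneg]; group
    have hτ : -s ^ 2 / (s + t) ≠ 0 := div_ne_zero (neg_ne_zero.2 (pow_ne_zero 2 hs)) hst
    have e0 : V (-(s * t / (s + t))⁻¹) = V (-s⁻¹) * V (-t⁻¹) := by
      rw [← hV]; congr 1; field_simp; ring
    rw [hV' s, hV' t, hV' (s * t / (s + t))] at e0
    have e1 : W U V s * (U (-s) * U (-t)) =
        U (s ^ 2 / (s + t)) * W U V (-s ^ 2 / (s + t)) * U (s ^ 2 / (s + t)) * W U V s := by
      rw [← hU, ← mul_inv_eq_iff_eq_mul, conjU s hs,
        show -(-s + -t) / s ^ 2 = -(-s ^ 2 / (s + t))⁻¹ by field_simp; ring, hV',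
        show -(-s ^ 2 / (s + t)) = s ^ 2 / (s + t) by ring]
    have e2 : U (s ^ 2 / (s + t)) * (W U V s * W U V t) =
        (W U V s * W U V t) * U (t ^ 2 / (s + t)) := by
      rw [← mul_inv_eq_iff_eq_mul (a := (W U V s * W U V t) * U (t ^ 2 / (s + t))) |>.1]
      calc (W U V s * W U V t) * U (t ^ 2 / (s + t)) * (W U V s * W U V t)⁻¹
          = W U V s * (W U V t * U (t ^ 2 / (s + t)) * (W U V t)⁻¹) * (W U V s)⁻¹ := by group
        _ = _ := by rw [conjU t ht, conjV s hs]; congr 1; field_simp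
    have e3 : U (-(s * t / (s + t))) * W U V (s * t / (s + t)) * U (-(s * t / (s + t))) =
        U (-s + s ^ 2 / (s + t)) * (W U V (-s ^ 2 / (s + t)) * W U V s * W U V t) *
          U (t ^ 2 / (s + t) + -t) := by
      rw [e0, hU, hU]
      calc U (-s) * W U V s * U (-s) * (U (-t) * W U V t * U (-t))
          = U (-s) * (W U V s * (U (-s) * U (-t))) * W U V t * U (-t) := by group
        _ = U (-s) * U (s ^ 2 / (s + t)) * W U V (-s ^ 2 / (s + t)) *
              (U (s ^ 2 / (s + t)) * (W U V s * W U V t)) * U (-t) := by rw [e1]; group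
        _ = _ := by rw [e2]; group
    rw [show -s + s ^ 2 / (s + t) = -(s * t / (s + t)) by field_simp; ring,
      show t ^ 2 / (s + t) + -t = -(s * t / (s + t)) by field_simp; ring] at e3
    exact (mul_left_cancel (mul_right_cancel e3)).symm
  have zmem : ∀ t : ZMod p, t ≠ 0 → W U V t * W U V t ∈ Z := by
    intro t ht
    apply memZ
    · intro x
      calc W U V t * W U V t * U x * (W U V t * W U V t)⁻¹
          = W U V t * (W U V t * U x * (W U V t)⁻¹) * (W U V t)⁻¹ := by group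
        _ = _ := by rw [conjU t ht, conjV t ht]; congr 1; field_simp
    · intro x
      calc W U V t * W U V t * V x * (W U V t * W U V t)⁻¹
          = W U V t * (W U V t * V x * (W U V t)⁻¹) * (W U V t)⁻¹ := by group
        _ = _ := by rw [conjV t ht, conjU t ht]; congr 1; field_simp
  have zsq : ∀ c t : ZMod p, c ≠ 0 → t ≠ 0 →
      W U V (c ^ 2 * t) * W U V (c ^ 2 * t) = W U V t * W U V t := by
    intro c t hc ht
    have h1 : H U V c * W U V t * (H U V c)⁻¹ = W U V (c ^ 2 * t) := by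
      calc H U V c * W U V t * (H U V c)⁻¹
          = W U V c * (W U V (-1) * W U V t * (W U V (-1))⁻¹) * (W U V c)⁻¹ := by simp only [H]; group
        _ = _ := by
          rw [conjW (-1) t hne1 ht, conjW c _ hc (div_ne_zero (pow_ne_zero 2 hne1) ht)]
          congr 1; field_simp
    have hz := zmem t ht
    calc W U V (c ^ 2 * t) * W U V (c ^ 2 * t)
        = H U V c * (W U V t * W U V t) * (H U V c)⁻¹ := by rw [← h1]; group
      _ = _ := by
        have h2 : Commute (W U V t * W U V t) (H U V c) :=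
          Commute.mul_right (zW _ hz c) (zW _ hz (-1))
        rw [← h2.eq, mul_inv_cancel_right]
  have hz1 : ∀ t : ZMod p, t ≠ 0 → W U V t * W U V t = W U V 1 * W U V 1 := by
    intro t ht
    by_cases htsq : IsSquare t
    · obtain ⟨c, rfl⟩ := htsq
      have hc : c ≠ 0 := left_ne_zero_of_mul ht
      have := zsq c 1 hc one_ne_zero
      rwa [mul_one, pow_two] at this
    -- a non-square of the shape `c² + 1`
    obtain ⟨c, hc, hσ⟩ : ∃ c : ZMod p, c ≠ 0 ∧ ¬ IsSquare (c ^ 2 + 1) := by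
      by_contra hcon
      push Not at hcon
      have hall : ∀ n : ℕ, IsSquare (n : ZMod p) := by
        intro n
        induction n with
        | zero => simp
        | succ n ih =>
          obtain ⟨c, hc⟩ := ih
          by_cases h0 : c = 0
          · simp [hc, h0]
          · rw [Nat.cast_succ, hc, ← pow_two]; exact hcon c h0
      exact htsq (by rw [← ZMod.natCast_zmod_val t]; exact hall _)
    obtain ⟨σ, hσdef⟩ : ∃ σ, σ = c ^ 2 + 1 := ⟨_, rfl⟩
    rw [← hσdef] at hσ
    have hσ0 : σ ≠ 0 := fun e => hσ (e ▸ ⟨0, by simp⟩)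
    have hk := key 1 (c ^ 2) one_ne_zero (pow_ne_zero 2 hc) (by rw [add_comm, ← hσdef]; exact hσ0)
    rw [add_comm (1 : ZMod p) (c ^ 2), ← hσdef] at hk
    have hk' : W U V 1 * W U V (c ^ 2) = W U V σ⁻¹ * W U V (c ^ 2 / σ) := by
      have e : W U V (-1 ^ 2 / σ) = (W U V σ⁻¹)⁻¹ := by
        rw [Winv, one_pow, neg_div, one_div]
      rw [e, one_mul] at hk
      rw [← hk]; group
    have hHW : ∀ t : ZMod p, H U V c * W U V t * (H U V c)⁻¹ =
        W U V c * (W U V (-1) * W U V t * (W U V (-1))⁻¹) * (W U V c)⁻¹ := fun t => by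
      simp only [H]; group
    have hcW : ∀ t : ZMod p, t ≠ 0 → W U V (c ^ 2 * t) = H U V c * W U V t * (H U V c)⁻¹ := by
      intro t ht
      rw [hHW, conjW (-1) t hne1 ht, conjW c _ hc (div_ne_zero (pow_ne_zero 2 hne1) ht)]
      congr 1; field_simp
    obtain ⟨K, hK⟩ : ∃ K, K = (W U V 1)⁻¹ * H U V c * W U V 1 := ⟨_, rfl⟩
    have hK' : K = W U V c⁻¹ * W U V (-1) := by
      have h1 := conjW (-1) c hne1 hc
      rw [Wneg, inv_inv] at h1
      have h2 := conjW (-1) (-1) hne1 hne1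
      calc K = ((W U V 1)⁻¹ * W U V c * W U V 1) *
            (W U V (-1) * W U V (-1) * (W U V (-1))⁻¹) := by
              rw [hK, H, Wneg]; group
        _ = _ := by
          rw [h1, h2]
          congr 2 <;> field_simp
    have hKH : K = H U V c⁻¹ := by rw [hK', H]
    have hKc : H U V σ⁻¹ * K = K * H U V σ⁻¹ := by
      rw [hKH]; exact Hcomm _ _ (inv_ne_zero hσ0) (inv_ne_zero hc)
    have hWσ : W U V σ⁻¹ = H U V σ⁻¹ * W U V 1 := by
      rw [H, Wneg]; group
    have hLHS : W U V 1 * W U V (c ^ 2) = W U V 1 * W U V 1 * K * (H U V c)⁻¹ := by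
      have h1 := hcW 1 one_ne_zero
      rw [mul_one] at h1
      rw [h1, hK]; group
    have hRHS : W U V σ⁻¹ * W U V (c ^ 2 / σ) =
        W U V σ⁻¹ * W U V σ⁻¹ * K * (H U V c)⁻¹ := by
      have h1 := hcW σ⁻¹ (inv_ne_zero hσ0)
      rw [div_eq_mul_inv, h1]
      have h2 : (W U V σ⁻¹)⁻¹ * H U V c * W U V σ⁻¹ = K := by
        rw [hWσ]
        have h3 : Commute (H U V σ⁻¹) (H U V c) := Hcomm _ _ (inv_ne_zero hσ0) hc
        calc (H U V σ⁻¹ * W U V 1)⁻¹ * H U V c * (H U V σ⁻¹ * W U V 1)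
            = (W U V 1)⁻¹ * ((H U V σ⁻¹)⁻¹ * (H U V c * H U V σ⁻¹)) * W U V 1 := by group
          _ = K := by rw [← h3.eq, inv_mul_cancel_left, hK]
      rw [← h2]; group
    rw [hk'] at hLHS
    rw [hRHS] at hLHS
    have hσsq : W U V σ⁻¹ * W U V σ⁻¹ = W U V 1 * W U V 1 := mul_right_cancel (mul_right_cancel hLHS)
    -- `t` and `σ⁻¹` differ by a square
    obtain ⟨d, hd⟩ : IsSquare (t * σ) := by
      have h2 : quadraticChar (ZMod p) (t * σ) = 1 := by
        rw [map_mul, (quadraticChar_neg_one_iff_not_isSquare).2 htsq,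
          (quadraticChar_neg_one_iff_not_isSquare).2 hσ]
        norm_num
      exact (quadraticChar_one_iff_isSquare (mul_ne_zero ht hσ0)).1 h2
    have hd0 : d ≠ 0 := fun e => mul_ne_zero ht hσ0 (by rw [hd, e, mul_zero])
    have e := zsq d σ⁻¹ hd0 (inv_ne_zero hσ0)
    rw [show d ^ 2 * σ⁻¹ = t by rw [pow_two, ← hd]; field_simp] at e
    rw [e, hσsq]
  have hWH : ∀ t : ZMod p, H U V t * W U V 1 = W U V t := fun t => by rw [H, Wneg]; group
  have Hneg1 : H U V (-1) = W U V 1 * W U V 1 := hz1 (-1) hne1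
  have wH : ∀ b : ZMod p, b ≠ 0 → W U V 1 * H U V b = H U V b⁻¹ * W U V 1 := by
    intro b hb
    have h1 := conjW 1 b one_ne_zero hb
    rw [← mul_inv_eq_iff_eq_mul]
    calc W U V 1 * H U V b * (W U V 1)⁻¹
        = (W U V 1 * W U V b * (W U V 1)⁻¹) * (W U V 1 * W U V (-1) * (W U V 1)⁻¹) := by
          rw [H]; group
      _ = H U V b⁻¹ := by
          rw [h1, conjW 1 (-1) one_ne_zero hne1, H]
          congr 2 <;> field_simp
  have Hsq : ∀ c a : ZMod p, c ≠ 0 → a ≠ 0 → H U V (c ^ 2 * a) = H U V c * H U V c * H U V a := by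
    intro c a hc ha
    have h1 : W U V (c ^ 2 * a) = H U V c * W U V a * (H U V c)⁻¹ := by
      have : H U V c * W U V a * (H U V c)⁻¹ =
          W U V c * (W U V (-1) * W U V a * (W U V (-1))⁻¹) * (W U V c)⁻¹ := by
        simp only [H]; group
      rw [this, conjW (-1) a hne1 ha, conjW c _ hc (div_ne_zero (pow_ne_zero 2 hne1) ha)]
      congr 1; field_simp
    have hX : W U V 1 * (H U V c)⁻¹ * W U V (-1) = H U V c := by
      have h2 := wH c hc
      have h3 : H U V c⁻¹ * H U V c = 1 := by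
        have h4 : W U V c⁻¹ = W U V 1 * W U V c * (W U V 1)⁻¹ := by
          rw [conjW 1 c one_ne_zero hc]; congr 1; field_simp
        calc H U V c⁻¹ * H U V c
            = (W U V 1 * W U V c * (W U V 1)⁻¹) * W U V (-1) * (W U V c * W U V (-1)) := by
              rw [H, H, h4]
          _ = W U V 1 * (W U V c * ((W U V 1 * W U V 1)⁻¹ * W U V c)) * (W U V 1)⁻¹ := by
              rw [Wneg]; group
          _ = W U V 1 * (W U V c * (W U V c * (W U V 1 * W U V 1)⁻¹)) * (W U V 1)⁻¹ := by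
              rw [zW _ (inv_mem (zmem 1 one_ne_zero)) c]
          _ = _ := by rw [← mul_assoc (W U V c), hz1 c hc]; group
      have h5 : H U V c * (W U V 1 * H U V c) = W U V 1 := by
        rw [h2, ← mul_assoc, Hcomm c c⁻¹ hc (inv_ne_zero hc), h3, one_mul]
      calc W U V 1 * (H U V c)⁻¹ * W U V (-1)
          = (H U V c * (W U V 1 * H U V c)) * (H U V c)⁻¹ * (W U V 1)⁻¹ := by rw [h5, Wneg]
        _ = _ := by group
    calc H U V (c ^ 2 * a) = H U V c * W U V a * (H U V c)⁻¹ * W U V (-1) := by rw [H, h1, H]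
      _ = H U V c * H U V a * (W U V 1 * (H U V c)⁻¹ * W U V (-1)) := by rw [← hWH a]; group
      _ = _ := by rw [hX, mul_assoc, Hcomm a c ha hc, ← mul_assoc]
  have H1 : H U V 1 = 1 := by rw [H, Wneg]; group
  have Hpow : ∀ n : ℕ, H U V ((g : ZMod p) ^ n) = H U V (g : ZMod p) ^ n := by
    intro n
    induction n using Nat.twoStepInduction with
    | zero => simpa using H1
    | one => simp
    | more n ih _ =>
      rw [show (g : ZMod p) ^ (n + 2) = (g : ZMod p) ^ 2 * (g : ZMod p) ^ n by ring,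
        Hsq _ _ g.ne_zero (pow_ne_zero _ g.ne_zero), ih, pow_add (H U V (g : ZMod p)) n 2, pow_two]
      group
  have Hmul : ∀ a b : ZMod p, a ≠ 0 → b ≠ 0 → H U V (a * b) = H U V a * H U V b := by
    intro a b ha hb
    obtain ⟨n, hn⟩ := mem_powers_iff_mem_zpowers.2 (hg (Units.mk0 a ha))
    obtain ⟨m, hm⟩ := mem_powers_iff_mem_zpowers.2 (hg (Units.mk0 b hb))
    have hna : (g : ZMod p) ^ n = a := by simpa using congrArg Units.val hn
    have hmb : (g : ZMod p) ^ m = b := by simpa using congrArg Units.val hm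
    rw [← hna, ← hmb, ← pow_add, Hpow, Hpow, Hpow, pow_add]
  -- the map is multiplicative on the right by the generators
  have FU : ∀ m x, F U V (m * u x) = F U V m * U x := by
    intro m x
    have e10 : (m * u x).1 1 0 = m.1 1 0 := by simp [Matrix.mul_apply, Fin.sum_univ_two]
    have e00 : (m * u x).1 0 0 = m.1 0 0 := by simp [Matrix.mul_apply, Fin.sum_univ_two]
    have e01 : (m * u x).1 0 1 = m.1 0 0 * x + m.1 0 1 := by
      simp [Matrix.mul_apply, Fin.sum_univ_two]
    have e11 : (m * u x).1 1 1 = m.1 1 0 * x + m.1 1 1 := by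
      simp [Matrix.mul_apply, Fin.sum_univ_two]
    unfold F
    rw [e10, e00, e01, e11]
    split_ifs with hc
    · have ha := ((decomp m).1 hc).1
      have h1 := Hu _ ha x
      rw [mul_assoc, show H U V (m.1 0 0) * U x =
        (H U V (m.1 0 0) * U x * (H U V (m.1 0 0))⁻¹) * H U V (m.1 0 0) by group, h1,
        ← mul_assoc, ← hU]
      congr 2; ring
    · rw [add_div, hU, ← mul_assoc, mul_comm (m.1 1 0) x, mul_div_assoc, div_self hc, mul_one]
      simp only [mul_assoc, ← hU, add_comm]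
  have FW : ∀ m, F U V (m * w 1) = F U V m * W U V 1 := by
    intro m
    have hw1 := w_entries (k := ZMod p) one_ne_zero
    have hd : m.1 0 0 * m.1 1 1 - m.1 0 1 * m.1 1 0 = 1 := by
      rw [← Matrix.det_fin_two]; exact m.2
    have e10 : (m * w 1).1 1 0 = -m.1 1 1 := by simp [hw1, Matrix.mul_apply, Fin.sum_univ_two]
    have e00 : (m * w 1).1 0 0 = -m.1 0 1 := by simp [hw1, Matrix.mul_apply, Fin.sum_univ_two]
    have e01 : (m * w 1).1 0 1 = m.1 0 0 := by simp [hw1, Matrix.mul_apply, Fin.sum_univ_two]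
    have e11 : (m * w 1).1 1 1 = m.1 1 0 := by simp [hw1, Matrix.mul_apply, Fin.sum_univ_two]
    unfold F
    rw [e10, e00, e01, e11]
    by_cases hc : m.1 1 0 = 0
    · have ha := ((decomp m).1 hc).1
      rw [hc, mul_zero, sub_zero] at hd
      have h11 : m.1 1 1 = (m.1 0 0)⁻¹ := eq_inv_of_mul_eq_one_right hd
      rw [if_pos hc, if_neg (by rw [h11]; exact neg_ne_zero.2 (inv_ne_zero ha)), hc, h11,
        inv_neg, neg_neg, inv_inv, zero_div, U0, mul_one, neg_div_neg_eq, div_inv_eq_mul,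
        mul_comm (m.1 0 1), mul_assoc, hWH]
    · by_cases hs : m.1 1 1 = 0
      · rw [hs, mul_zero, zero_sub] at hd
        have h01 : -m.1 0 1 = (m.1 1 0)⁻¹ := eq_inv_of_mul_eq_one_left (by rw [neg_mul]; exact hd)
        rw [if_neg hc, hs, neg_zero, if_pos rfl, h01, zero_div, U0, mul_one,
          inv_mul_eq_div, mul_assoc (U _)]
        congr 1
        rw [H, Wneg, Wneg]
        have h1 := hz1 (m.1 1 0)⁻¹ (inv_ne_zero hc)
        calc W U V (m.1 1 0)⁻¹ * (W U V 1)⁻¹
            = (W U V (m.1 1 0)⁻¹)⁻¹ *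
                (W U V (m.1 1 0)⁻¹ * W U V (m.1 1 0)⁻¹) * (W U V 1)⁻¹ := by group
          _ = _ := by rw [h1]; group
      · rw [if_neg hc, if_neg (neg_ne_zero.2 hs)]
        obtain ⟨r, hr⟩ : ∃ r, r = m.1 1 0 := ⟨_, rfl⟩
        obtain ⟨s, hs'⟩ : ∃ s, s = m.1 1 1 := ⟨_, rfl⟩
        rw [← hr] at hc hd ⊢
        rw [← hs'] at hs hd ⊢
        have hx : s / r ≠ 0 := div_ne_zero hs hc
        have hUx : U (s / r) = V (r / s) * W U V (s / r) * V (r / s) := by
          have h1 : W U V (s / r) = V (-(r / s)) * U (s / r) * V (-(r / s)) := by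
            rw [W, hbr _ hx, inv_div]
          rw [h1, Vneg]; group
        have eA : W U V (-r⁻¹) * V (r / s) = U (-(1 / (r * s))) * W U V (-r⁻¹) := by
          rw [← mul_inv_eq_iff_eq_mul, conjV _ (neg_ne_zero.2 (inv_ne_zero hc))]
          congr 1; field_simp
        have eB : V (r / s) * W U V 1 = W U V 1 * U (-(r / s)) := by
          symm
          rw [← mul_inv_eq_iff_eq_mul, conjU 1 one_ne_zero]
          congr 1; ring
        have mid : W U V (-r⁻¹) * W U V (s / r) * W U V 1 = W U V s⁻¹ := by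
          have hr0 : -r⁻¹ ≠ 0 := neg_ne_zero.2 (inv_ne_zero hc)
          rw [← hWH (-r⁻¹), ← hWH (s / r), ← hWH s⁻¹]
          calc H U V (-r⁻¹) * W U V 1 * (H U V (s / r) * W U V 1) * W U V 1
              = H U V (-r⁻¹) * (W U V 1 * H U V (s / r)) * (W U V 1 * W U V 1) := by group
            _ = H U V (-r⁻¹) * H U V (s / r)⁻¹ * (W U V 1 * W U V 1) * W U V 1 := by
                rw [wH _ hx]; group
            _ = H U V s⁻¹ * W U V 1 := by
                rw [← Hneg1, ← Hmul _ _ hr0 (inv_ne_zero hx),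
                  ← Hmul _ _ (mul_ne_zero hr0 (inv_ne_zero hx)) hne1]
                congr 2; field_simp
        have lhs : U (-m.1 0 1 / -s) * W U V (-(-s)⁻¹) * U (r / -s) =
            U (m.1 0 0 / r + -(1 / (r * s))) * W U V s⁻¹ * U (-(r / s)) := by
          rw [inv_neg, neg_neg, neg_div_neg_eq, div_neg]
          congr 3
          field_simp
          linear_combination (-1 : ZMod p) * hd
        rw [lhs, hU, hUx, ← mid]
        calc U (m.1 0 0 / r) * U (-(1 / (r * s))) * (W U V (-r⁻¹) * W U V (s / r) * W U V 1) *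
              U (-(r / s))
            = U (m.1 0 0 / r) * (U (-(1 / (r * s))) * W U V (-r⁻¹)) * W U V (s / r) *
                (W U V 1 * U (-(r / s))) := by group
          _ = _ := by rw [← eA, ← eB]; group
  have F1 : F U V 1 = 1 := by simp [F, U0, H1]
  let S' : Subgroup (Matrix.SpecialLinearGroup (Fin 2) (ZMod p)) :=
    { carrier := {y | ∀ m, F U V (m * y) = F U V m * F U V y}
      one_mem' := fun m => by rw [mul_one, F1, mul_one]
      mul_mem' := fun {a b} ha hb m => by rw [← mul_assoc, hb, ha, hb a, mul_assoc]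
      inv_mem' := fun {a} ha m => by
        have h1 : F U V (m * a⁻¹) * F U V a = F U V m := by rw [← ha, inv_mul_cancel_right]
        have h2 : F U V a⁻¹ * F U V a = 1 := by rw [← ha, inv_mul_cancel, F1]
        rw [eq_mul_inv_of_mul_eq h1, eq_inv_of_mul_eq_one_left h2] }
  have hu : ∀ x, u x ∈ S' := fun x m => by
    have e : F U V (u x) = U x := by
      have := FU 1 x
      rwa [one_mul, F1, one_mul] at this
    rw [FU, e]
  have hFw : F U V (w 1) = W U V 1 := by
    have := FW 1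
    rwa [one_mul, F1, one_mul] at this
  have hw : w 1 ∈ S' := fun m => by rw [FW, hFw]
  have hv : ∀ x, v x ∈ S' := by
    intro x
    have e : v x = w 1 * u (-x) * (w 1)⁻¹ := by
      rw [w_conj_u one_ne_zero]
      simp
    rw [e]
    exact mul_mem (mul_mem hw (hu _)) (inv_mem hw)
  have htop : S' = ⊤ := by
    rw [eq_top_iff, ← top_eq_sup]
    refine sup_le (fun y hy => ?_) (fun y hy => ?_)
    · obtain ⟨x, rfl⟩ := mem_lower.1 hy; exact hv x
    · obtain ⟨x, rfl⟩ := mem_upper.1 hy; exact hu x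
  have hmul : ∀ m y, F U V (m * y) = F U V m * F U V y := fun m y =>
    (htop ▸ Subgroup.mem_top y : y ∈ S') m
  refine ⟨MonoidHom.mk' (F U V) hmul, fun x => ?_, fun x => ?_⟩
  · have := FU 1 x
    simpa [F1] using this
  · change F U V (v x) = V x
    have e : v x = w 1 * u (-x) * (w 1)⁻¹ := by
      rw [w_conj_u one_ne_zero]
      simp
    have hinv : F U V (w 1)⁻¹ = (F U V (w 1))⁻¹ :=
      eq_inv_of_mul_eq_one_left (by rw [← hmul, inv_mul_cancel, F1])
    rw [e, hmul, hmul, hinv, hFw]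
    have h2 : F U V (u (-x)) = U (-x) := by
      have := FU 1 (-x); rwa [one_mul, F1, one_mul] at this
    rw [h2, conjU 1 one_ne_zero]
    simp

end Hom

end Cfsg.Agent.RootSubgroups.SL2
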