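import Mathlib

/-!
Two elements `a`, `c` satisfying the braid relation and exchanging two commuting subgroups `U`, `V`
through commutators: consequences for the action of `a` on `U`.
-/

set_option autoImplicit false

open scoped commutatorElement

namespace Cfsg.Agent.RootSubgroups

variable {H : Type*} [Group H] {U V : Subgroup H} {a c : H}

/-- `U`, `V` commute and meet trivially, `a` normalises `U` with `⁅a, V⁆ ⊆ U`, `c` normalises `V`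
with `⁅c, U⁆ ⊆ V`, and `a`, `c` satisfy the braid relation. -/
structure Swap (U V : Subgroup H) (a c : H) : Prop where
  comm : ∀ u ∈ U, ∀ v ∈ V, u * v = v * u
  disj : ∀ x ∈ U, x ∈ V → x = 1
  conjU : ∀ u ∈ U, a * u * a⁻¹ ∈ U
  conjV : ∀ v ∈ V, c * v * c⁻¹ ∈ V
  memU : ∀ v ∈ V, ⁅a, v⁆ ∈ U
  memV : ∀ u ∈ U, ⁅c, u⁆ ∈ V
  braid : a * c * a = c * a * c

namespace Swap

theorem symm (h : Swap U V a c) : Swap V U c a :=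
  ⟨fun v hv u hu => (h.comm u hu v hv).symm, fun x hx hx' => h.disj x hx' hx, h.conjV, h.conjU,
    h.memV, h.memU, h.braid.symm⟩

theorem uniq (h : Swap U V a c) {u u' v v' : H} (hu : u ∈ U) (hu' : u' ∈ U) (hv : v ∈ V)
    (hv' : v' ∈ V) (e : u * v = u' * v') : u = u' := by
  have e' : u'⁻¹ * u = v' * v⁻¹ := by
    rw [eq_mul_inv_iff_mul_eq, mul_assoc, e, inv_mul_cancel_left]
  have h1 := h.disj _ (mul_mem (inv_mem hu') hu) (e' ▸ mul_mem hv' (inv_mem hv))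
  exact (inv_mul_eq_one.1 h1).symm

theorem map_mul (h : Swap U V a c) {v v' : H} (hv : v ∈ V) (hv' : v' ∈ V) :
    ⁅a, v * v'⁆ = ⁅a, v⁆ * ⁅a, v'⁆ := by
  calc ⁅a, v * v'⁆ = ⁅a, v⁆ * (v * ⁅a, v'⁆) * v⁻¹ := by simp only [commutatorElement_def]; group
    _ = ⁅a, v⁆ * (⁅a, v'⁆ * v) * v⁻¹ := by rw [h.comm _ (h.memU v' hv') v hv]
    _ = _ := by group

theorem map_inv (h : Swap U V a c) {v : H} (hv : v ∈ V) : ⁅a, v⁻¹⁆ = ⁅a, v⁆⁻¹ := by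
  refine eq_inv_of_mul_eq_one_left ?_
  rw [← h.map_mul (inv_mem hv) hv]
  simp [commutatorElement_def]

/-- `⁅a, ⁅c, X⁆⁆ (a X a⁻¹) = 1` for `X = ⁅a, v⁆`. -/
theorem rel_one (h : Swap U V a c) {v : H} (hv : v ∈ V) :
    ⁅a, ⁅c, ⁅a, v⁆⁆⁆ * (a * ⁅a, v⁆ * a⁻¹) = 1 := by
  obtain ⟨X, hX⟩ : ∃ X, X = ⁅a, v⁆ := ⟨_, rfl⟩
  obtain ⟨W, hW⟩ : ∃ W, W = c * v * c⁻¹ := ⟨_, rfl⟩
  rw [← hX]
  have hXU : X ∈ U := hX ▸ h.memU v hv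
  have hWV : W ∈ V := hW ▸ h.conjV v hv
  have hY : ⁅c, X⁆ ∈ V := h.memV X hXU
  have hL : a * X * a⁻¹ ∈ U := h.conjU X hXU
  have hA2 : ⁅a, W⁆ ∈ U := h.memU W hWV
  have e1 : (a * c * a) * v * (a * c * a)⁻¹
      = (⁅a, ⁅c, X⁆⁆ * (a * X * a⁻¹) * ⁅a, W⁆) * (⁅c, X⁆ * W) := by
    calc (a * c * a) * v * (a * c * a)⁻¹
        = ⁅a, ⁅c, X⁆⁆ * (⁅c, X⁆ * ((a * X * a⁻¹) * ⁅a, W⁆)) * W := by
          rw [hX, hW]; simp only [commutatorElement_def]; group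
      _ = ⁅a, ⁅c, X⁆⁆ * (((a * X * a⁻¹) * ⁅a, W⁆) * ⁅c, X⁆) * W := by
          rw [h.comm _ (mul_mem hL hA2) _ hY]
      _ = _ := by simp only [mul_assoc]
  have e2 : (c * a * c) * v * (c * a * c)⁻¹
      = ⁅a, W⁆ * (⁅c, ⁅a, W⁆⁆ * (c * W * c⁻¹)) := by
    calc (c * a * c) * v * (c * a * c)⁻¹
        = (⁅c, ⁅a, W⁆⁆ * ⁅a, W⁆) * (c * W * c⁻¹) := by
          rw [hW]; simp only [commutatorElement_def]; group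
      _ = (⁅a, W⁆ * ⁅c, ⁅a, W⁆⁆) * (c * W * c⁻¹) := by
          rw [h.comm _ hA2 _ (h.memV _ hA2)]
      _ = _ := mul_assoc _ _ _
  rw [h.braid, e2] at e1
  exact mul_eq_right.1 (h.uniq hA2 (mul_mem (mul_mem (h.memU _ hY) hL) hA2)
    (mul_mem (h.memV _ hA2) (h.conjV _ hWV)) (mul_mem hY hWV) e1).symm

theorem conj_eq (h : Swap U V a c) {v : H} (hv : v ∈ V) :
    a * ⁅a, v⁆ * a⁻¹ = ⁅a, ⁅c, ⁅a, v⁆⁆⁻¹⁆ := by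
  rw [h.map_inv (h.memV _ (h.memU v hv))]
  exact eq_inv_of_mul_eq_one_right (h.rel_one hv)

/-- The images `⁅a, v⁆` commute. -/
theorem image_comm (h : Swap U V a c) {v v' : H} (hv : v ∈ V) (hv' : v' ∈ V) :
    ⁅a, v⁆ * ⁅a, v'⁆ = ⁅a, v'⁆ * ⁅a, v⁆ := by
  have h1 := h.conj_eq (mul_mem hv hv')
  rw [h.map_mul hv hv', h.symm.map_mul (h.memU v hv) (h.memU v' hv'), mul_inv_rev,
    h.map_mul (inv_mem (h.memV _ (h.memU v' hv'))) (inv_mem (h.memV _ (h.memU v hv))),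
    ← h.conj_eq hv, ← h.conj_eq hv'] at h1
  calc ⁅a, v⁆ * ⁅a, v'⁆ = a⁻¹ * (a * (⁅a, v⁆ * ⁅a, v'⁆) * a⁻¹) * a := by group
    _ = a⁻¹ * (a * ⁅a, v'⁆ * a⁻¹ * (a * ⁅a, v⁆ * a⁻¹)) * a := by rw [h1]
    _ = _ := by group

/-- The relation on `U` given by the braid relation. -/
theorem rel_three (h : Swap U V a c) {u : H} (hu : u ∈ U) :
    ⁅a, ⁅c, a * u * a⁻¹⁆⁆ * (a * (a * u * a⁻¹) * a⁻¹) = ⁅a, ⁅c, u⁆⁆ * (a * u * a⁻¹) := by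
  obtain ⟨L, hL⟩ : ∃ L, L = a * u * a⁻¹ := ⟨_, rfl⟩
  rw [← hL]
  have hLU : L ∈ U := hL ▸ h.conjU u hu
  have hL2 : a * L * a⁻¹ ∈ U := h.conjU L hLU
  have hY1 : ⁅c, L⁆ ∈ V := h.memV L hLU
  have hY : ⁅c, u⁆ ∈ V := h.memV u hu
  have hA : ⁅a, ⁅c, u⁆⁆ ∈ U := h.memU _ hY
  have hA1 : ⁅a, ⁅c, L⁆⁆ ∈ U := h.memU _ hY1
  have e1 : (a * c * a) * u * (a * c * a)⁻¹ = (⁅a, ⁅c, L⁆⁆ * (a * L * a⁻¹)) * ⁅c, L⁆ := by
    calc (a * c * a) * u * (a * c * a)⁻¹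
        = ⁅a, ⁅c, L⁆⁆ * (⁅c, L⁆ * (a * L * a⁻¹)) := by
          rw [hL]; simp only [commutatorElement_def]; group
      _ = ⁅a, ⁅c, L⁆⁆ * ((a * L * a⁻¹) * ⁅c, L⁆) := by rw [h.comm _ hL2 _ hY1]
      _ = _ := (mul_assoc _ _ _).symm
  have e2 : (c * a * c) * u * (c * a * c)⁻¹
      = (⁅a, ⁅c, u⁆⁆ * L) * (⁅c, ⁅a, ⁅c, u⁆⁆ * L⁆ * (c * ⁅c, u⁆ * c⁻¹)) := by
    calc (c * a * c) * u * (c * a * c)⁻¹
        = c * (⁅a, ⁅c, u⁆⁆ * (⁅c, u⁆ * L)) * c⁻¹ := by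
          rw [hL]; simp only [commutatorElement_def]; group
      _ = c * (⁅a, ⁅c, u⁆⁆ * (L * ⁅c, u⁆)) * c⁻¹ := by rw [h.comm _ hLU _ hY]
      _ = (⁅c, ⁅a, ⁅c, u⁆⁆ * L⁆ * (⁅a, ⁅c, u⁆⁆ * L)) * (c * ⁅c, u⁆ * c⁻¹) := by
          simp only [commutatorElement_def]; group
      _ = ((⁅a, ⁅c, u⁆⁆ * L) * ⁅c, ⁅a, ⁅c, u⁆⁆ * L⁆) * (c * ⁅c, u⁆ * c⁻¹) := by
          rw [h.comm _ (mul_mem hA hLU) _ (h.memV _ (mul_mem hA hLU))]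
      _ = _ := mul_assoc _ _ _
  rw [h.braid, e2] at e1
  exact (h.uniq (mul_mem hA hLU) (mul_mem hA1 hL2)
    (mul_mem (h.memV _ (mul_mem hA hLU)) (h.conjV _ hY)) hY1 e1).symm

/-- With `c'² = c` and a braid pair `a²`, `c'`, the cube of `a` fixes `⁅a², v⁆`. -/
theorem cube_fixes (h : Swap U V a c) {c' : H} (h' : Swap U V (a * a) c') (hcc : c' * c' = c)
    {v : H} (hv : v ∈ V) :
    (a * a * a) * ⁅a * a, v⁆ * (a * a * a)⁻¹ = ⁅a * a, v⁆ := by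
  obtain ⟨u, hudef⟩ : ∃ u, u = ⁅a * a, v⁆ := ⟨_, rfl⟩
  rw [← hudef]
  have huU : u ∈ U := hudef ▸ h'.memU v hv
  have hXU : ⁅a, v⁆ ∈ U := h.memU v hv
  have hu1 : u = ⁅a, ⁅c, ⁅a, v⁆⁆⁻¹ * v⁆ := by
    rw [h.map_mul (inv_mem (h.memV _ hXU)) hv, ← h.conj_eq hv, hudef]
    simp only [commutatorElement_def]; group
  have r1 : ⁅a, ⁅c, u⁆⁆ * (a * u * a⁻¹) = 1 := by
    rw [hu1]; exact h.rel_one (mul_mem (inv_mem (h.memV _ hXU)) hv)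
  obtain ⟨P, hP⟩ : ∃ P, P = (a * a) * u * (a * a)⁻¹ := ⟨_, rfl⟩
  have hPU : P ∈ U := hP ▸ h'.conjU u huU
  have hP2 : P = ⁅a * a, ⁅c', u⁆⁻¹⁆ := by
    rw [hP, hudef]; exact h'.conj_eq hv
  have hYu : ⁅c, u⁆ = ⁅c', P * u⁆ := by
    have r2 := h'.symm.rel_one huU
    rw [show ⁅a * a, ⁅c', u⁆⁆ = P⁻¹ by
      rw [hP2, h'.map_inv (h'.memV u huU), inv_inv], h'.symm.map_inv hPU] at r2
    rw [h'.symm.map_mul hPU huU, inv_mul_eq_one.1 r2, ← hcc]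
    simp only [commutatorElement_def]; group
  have hw : P * u = ⁅a * a, ⁅c', u⁆⁻¹ * v⁆ := by
    rw [h'.map_mul (inv_mem (h'.memV u huU)) hv, ← hP2, ← hudef]
  have r1' := h'.rel_one (mul_mem (inv_mem (h'.memV u huU)) hv)
  rw [← hw, ← hYu] at r1'
  have hE : (a * (a * u * a⁻¹)⁻¹ * a⁻¹ * (a * u * a⁻¹)⁻¹) * ((a * a) * (P * u) * (a * a)⁻¹) = 1 := by
    rw [← eq_inv_of_mul_eq_one_left r1]
    calc _ = ⁅a * a, ⁅c, u⁆⁆ * (a * a * (P * u) * (a * a)⁻¹) := by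
          simp only [commutatorElement_def]; group
      _ = 1 := r1'
  calc (a * a * a) * u * (a * a * a)⁻¹
      = u * (a⁻¹ * (P * ((a * (a * u * a⁻¹)⁻¹ * a⁻¹ * (a * u * a⁻¹)⁻¹) *
          ((a * a) * (P * u) * (a * a)⁻¹)) * P⁻¹) * a) := by rw [hP]; group
    _ = u := by rw [hE]; group

/-- If `a` fixes all `⁅a², v⁆` then `a²` fixes all `⁅a, v⁆`. -/
theorem square_fixes (h : Swap U V a c) {v : H} (hv : v ∈ V)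
    (hfix : a * ⁅a * a, v⁆ * a⁻¹ = ⁅a * a, v⁆) :
    (a * a) * ⁅a, v⁆ * (a * a)⁻¹ = ⁅a, v⁆ := by
  have hcm : (a * ⁅a, v⁆ * a⁻¹) * ⁅a, v⁆ = ⁅a, v⁆ * (a * ⁅a, v⁆ * a⁻¹) := by
    rw [h.conj_eq hv]; exact h.image_comm (inv_mem (h.memV _ (h.memU v hv))) hv
  have e : ⁅a * a, v⁆ = (a * ⁅a, v⁆ * a⁻¹) * ⁅a, v⁆ := by
    simp only [commutatorElement_def]; group
  rw [e] at hfix
  refine mul_right_cancel (b := a * ⁅a, v⁆ * a⁻¹) ?_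
  rw [← hcm]
  calc _ = a * (a * ⁅a, v⁆ * a⁻¹ * ⁅a, v⁆) * a⁻¹ := by group
    _ = _ := hfix

/-- If `a` fixes all `⁅a, v⁆` then it fixes all `u⁻¹ (a u a⁻¹)`. -/
theorem commutator_fixes (h : Swap U V a c) (hfix : ∀ v ∈ V, a * ⁅a, v⁆ * a⁻¹ = ⁅a, v⁆) {u : H}
    (hu : u ∈ U) : a * (u⁻¹ * (a * u * a⁻¹)) * a⁻¹ = u⁻¹ * (a * u * a⁻¹) := by
  have h3 := h.rel_three hu
  have hY := h.memV _ (h.conjU u hu)
  have hY' := h.memV u hu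
  obtain ⟨k, hk⟩ : ∃ k, k = ⁅a, ⁅c, a * u * a⁻¹⁆⁆⁻¹ * ⁅a, ⁅c, u⁆⁆ := ⟨_, rfl⟩
  have hlk : a * k * a⁻¹ = k := by
    rw [hk, ← h.map_inv hY, ← h.map_mul (inv_mem hY) hY']
    exact hfix _ (mul_mem (inv_mem hY) hY')
  have hl2 : a * (a * u * a⁻¹) * a⁻¹ = k * (a * u * a⁻¹) := by
    rw [hk]; exact (eq_inv_mul_of_mul_eq h3).trans (mul_assoc _ _ _).symm
  have hl : a * u * a⁻¹ = k * u := by
    calc a * u * a⁻¹ = a⁻¹ * (a * (a * u * a⁻¹) * a⁻¹) * a := by group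
      _ = a⁻¹ * (a * k * a⁻¹ * (a * u * a⁻¹)) * a := by rw [hl2, hlk]
      _ = k * u := by group
  calc a * (u⁻¹ * (a * u * a⁻¹)) * a⁻¹ = (a * u * a⁻¹)⁻¹ * (a * (a * u * a⁻¹) * a⁻¹) := by group
    _ = (k * u)⁻¹ * (k * (k * u)) := by rw [hl2, hl]
    _ = u⁻¹ * (k * u) := by group
    _ = _ := by rw [hl]

end Swap

end Cfsg.Agent.RootSubgroups
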