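import Mathlib
import Cfsg.Agent.Lib.RootSubgroups.Basic

/-!
Families of subgroups seen inside a subgroup containing them.
-/

set_option autoImplicit false
open Cfsg

namespace Cfsg.Agent.RootSubgroups.Restrict

variable {G : Type*} [Group G] {H A B : Subgroup G} {Λ : Set (Subgroup G)}

theorem map_eq (hA : A ≤ H) : (A.subgroupOf H).map H.subtype = A := Subgroup.map_subgroupOf_eq_of_le hA

theorem map_inj {X Y : Subgroup H} (h : X.map H.subtype = Y.map H.subtype) : X = Y :=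
  Subgroup.map_injective H.subtype_injective h

theorem conj_eq (hA : A ≤ H) (g : H) : conjBy (A.subgroupOf H) g = (conjBy A (g : G)).subgroupOf H := by
  refine map_inj ?_
  rw [map_eq (conjBy_le hA g.2)]
  change ((A.subgroupOf H).map _).map _ = _
  rw [Subgroup.map_map, show H.subtype.comp (MulAut.conj g).toMonoidHom =
    (MulAut.conj (g : G)).toMonoidHom.comp H.subtype from MonoidHom.ext fun x => rfl, ← Subgroup.map_map,
    map_eq hA]

theorem commutator_eq (hA : A ≤ H) (hB : B ≤ H) :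
    ⁅A.subgroupOf H, B.subgroupOf H⁆ = ⁅A, B⁆.subgroupOf H := by
  refine map_inj ?_
  rw [Subgroup.map_commutator, map_eq hA, map_eq hB,
    map_eq ((Subgroup.commutator_mono hA hB).trans (Subgroup.commutator_le_self H))]

theorem cond (hA : A ≤ H) (hB : B ≤ H) (h : RankOneCondition A B) :
    RankOneCondition (A.subgroupOf H) (B.subgroupOf H) := by
  intro a ha ha1
  obtain ⟨b, hb, hb1, e⟩ := h a ha (fun h' => ha1 (Subtype.ext h'))
  refine ⟨⟨b, hB hb⟩, hb, fun h' => hb1 (congrArg Subtype.val h'), ?_⟩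
  rw [conj_eq hA, conj_eq hB]
  exact congrArg (fun X : Subgroup G => X.subgroupOf H) e

theorem nilpotent (hA : A ≤ H) (h : Group.IsNilpotent A) : Group.IsNilpotent (A.subgroupOf H) :=
  Group.nilpotent_of_mulEquiv (Subgroup.subgroupOfEquivOfLe hA).symm

theorem pair (hA : A ≤ H) (hB : B ≤ H) (h : IsRankOnePair A B) :
    IsRankOnePair (A.subgroupOf H) (B.subgroupOf H) :=
  ⟨fun e => h.ne (by rw [← map_eq hA, ← map_eq hB, e]), nilpotent hA h.nilpotent_left,
    nilpotent hB h.nilpotent_right, cond hA hB h.cond_left, cond hB hA h.cond_right⟩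

theorem cc (hA : A ≤ H) (hB : B ≤ H) (h : RootCommutatorCase Λ A B) :
    RootCommutatorCase ((fun A => A.subgroupOf H) '' Λ) (A.subgroupOf H) (B.subgroupOf H) := by
  obtain ⟨h1, h2, h3, h4⟩ := h
  have e := commutator_eq hA hB
  refine ⟨⟨_, h1, e.symm⟩, fun c hc x hx => ?_, fun a ha ha1 => ?_, fun b hb hb1 => ?_⟩
  · rw [e] at hc
    rw [← Subgroup.subgroupOf_sup hA hB] at hx
    exact Subtype.ext (h2 _ hc _ hx)
  all_goals
    rw [e]
    refine map_inj ?_
    rw [MonoidHom.map_closure, map_eq ((Subgroup.commutator_mono hA hB).trans (Subgroup.commutator_le_self H))]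
  · rw [← h3 a ha fun h' => ha1 (Subtype.ext h')]
    congr 1
    ext z
    constructor
    · rintro ⟨_, ⟨w, hw, rfl⟩, rfl⟩; exact ⟨_, hw, rfl⟩
    · rintro ⟨w, hw, rfl⟩; exact ⟨_, ⟨⟨w, hB hw⟩, hw, rfl⟩, rfl⟩
  · rw [← h4 b hb fun h' => hb1 (Subtype.ext h')]
    congr 1
    ext z
    constructor
    · rintro ⟨_, ⟨w, hw, rfl⟩, rfl⟩; exact ⟨_, hw, rfl⟩
    · rintro ⟨w, hw, rfl⟩; exact ⟨_, ⟨⟨w, hA hw⟩, hw, rfl⟩, rfl⟩

theorem le_iSup_mem (hA : A ∈ Λ) : A ≤ ⨆ B ∈ Λ, B :=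
  le_iSup₂ (f := fun (B : Subgroup G) (_ : B ∈ Λ) => B) A hA

/-- A family of abelian subgroups, closed under conjugation by its own members and satisfying the trichotomy,
is a set of abstract root subgroups of the subgroup it generates. -/
theorem isRootSubgroupSet (hcomm : ∀ A ∈ Λ, IsMulCommutative A) (hne : ∀ A ∈ Λ, A ≠ ⊥)
    (hconj : ∀ A ∈ Λ, ∀ g ∈ ⨆ B ∈ Λ, B, conjBy A g ∈ Λ)
    (htri : ∀ A ∈ Λ, ∀ B ∈ Λ, ⁅A, B⁆ = ⊥ ∨ IsRankOnePair A B ∨ RootCommutatorCase Λ A B) :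
    IsRootSubgroupSet ((fun A => A.subgroupOf (⨆ B ∈ Λ, B)) '' Λ) := by
  refine ⟨?_, ?_, ?_, ?_, ?_⟩
  · rintro _ ⟨A, hA, rfl⟩
    exact isMulCommutative_of_forall fun a ha a' ha' => Subtype.ext (comm_of_comm (hcomm A hA) ha ha')
  · rintro _ ⟨A, hA, rfl⟩ e
    replace e : A.subgroupOf (⨆ B ∈ Λ, B) = ⊥ := e
    exact hne A hA (by rw [← map_eq (le_iSup_mem hA), e, Subgroup.map_bot])
  · refine map_inj ?_
    rw [iSup_image, ← MonoidHom.range_eq_map, Subgroup.range_subtype, Subgroup.map_iSup]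
    refine iSup_congr fun A => ?_
    rw [Subgroup.map_iSup]
    exact iSup_congr fun hA => map_eq (le_iSup_mem hA)
  · rintro _ ⟨A, hA, rfl⟩ g
    exact ⟨_, hconj A hA g g.2, (conj_eq (le_iSup_mem hA) g).symm⟩
  · rintro _ ⟨A, hA, rfl⟩ _ ⟨B, hB, rfl⟩
    rcases htri A hA B hB with h | h | h
    · left
      rw [commutator_eq (le_iSup_mem hA) (le_iSup_mem hB), h, Subgroup.bot_subgroupOf]
    · exact Or.inr (Or.inl (pair (le_iSup_mem hA) (le_iSup_mem hB) h))
    · exact Or.inr (Or.inr (cc (le_iSup_mem hA) (le_iSup_mem hB) h))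

end Cfsg.Agent.RootSubgroups.Restrict
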