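import Cfsg.Agent.Lib.RootSubgroups.Class
import Cfsg.Agent.Lib.RootSubgroups.Restrict

/-!
Members in the commutator case are linked, and rank one pairs are preserved by injective homomorphisms.
-/

set_option autoImplicit false
open Cfsg

namespace Cfsg.Agent.RootSubgroups

variable {G : Type*} [Group G] {A A' B B' : Subgroup G} {S : Set (Subgroup G)}

theorem conjBy_map {K : Type*} [Group K] (f : G →* K) (A : Subgroup G) (g : G) :
    (conjBy A g).map f = conjBy (A.map f) (f g) := by
  change (A.map _).map f = (A.map f).map _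
  rw [Subgroup.map_map, Subgroup.map_map]
  congr 1
  ext x
  simp [MulAut.conj_apply]

theorem pair_map {K : Type*} [Group K] {f : G →* K} (hf : Function.Injective f)
    (h : IsRankOnePair A B) : IsRankOnePair (A.map f) (B.map f) := by
  have key : ∀ {P Q : Subgroup G}, RankOneCondition P Q → RankOneCondition (P.map f) (Q.map f) := by
    rintro P Q hc _ ⟨a, ha, rfl⟩ ha1
    obtain ⟨b, hb, hb1, e⟩ := hc a ha (fun h' => ha1 (by rw [h', map_one]))
    refine ⟨f b, ⟨b, hb, rfl⟩, fun h' => hb1 (hf (h'.trans (map_one f).symm)), ?_⟩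
    rw [← map_inv, ← map_inv, ← conjBy_map, ← conjBy_map, e]
  have nil : ∀ {P : Subgroup G}, Group.IsNilpotent P → Group.IsNilpotent (P.map f) := fun {P} hP =>
    Group.nilpotent_of_mulEquiv (P.equivMapOfInjective f hf)
  exact ⟨fun e => h.ne (Subgroup.map_injective hf e), nil h.nilpotent_left, nil h.nilpotent_right,
    key h.cond_left, key h.cond_right⟩

/-- A member is linked with the commutator of a commutator case containing it. -/
theorem linked_commutator (hS : IsRootSubgroupSet S) (hF : ∀ X ∈ S, ∃ X' ∈ S, IsRankOnePair X X')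
    (hA : A ∈ S) (hB : B ∈ S) (h : RootCommutatorCase S A B) : Linked S A ⁅A, B⁆ := by
  obtain ⟨P', hP', hp⟩ := hF A hA
  obtain ⟨D', hD', hp'⟩ := hF _ h.1
  refine linked_of_line hS hA hP' hp h.1 hD' hp' (bot_symm (cc_commutes_left h)) fun a ha b hb h1 => ⟨h1, ?_⟩
  rcases line_cover hS hA hP' hp hB h.1 (mul_mem (Subgroup.mem_sup_left ha) (Subgroup.mem_sup_right hb))
    with h2 | ⟨q, -, h2⟩
  · exact ⟨_, h.1, h2⟩
  · exact ⟨_, hS.conj_mem A hA q, h2⟩

/-- Two members in the commutator case are linked. -/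
theorem linked_of_cc (hS : IsRootSubgroupSet S) (hF : ∀ X ∈ S, ∃ X' ∈ S, IsRankOnePair X X')
    (hA : A ∈ S) (hB : B ∈ S) (h : RootCommutatorCase S A B) : Linked S A B := by
  have h2 := linked_commutator hS hF hB hA (cc_symm h)
  rw [Subgroup.commutator_comm] at h2
  exact (linked_commutator hS hF hA hB h).trans h2.symm

end Cfsg.Agent.RootSubgroups
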