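import Mathlib
import Cfsg.Agent.Lib.RootSubgroups.SL2

/-!
The subgroup of `SL₂(R)`, `R` a commutative `k`-algebra, generated by the upper unitriangular
matrices with entry in `k` and the lower ones with entry in `k·lam`: basic properties.
-/

set_option autoImplicit false
open Matrix

namespace Cfsg.Agent.RootSubgroups.Dk

variable {k : Type*} [Field k] {R : Type*} [CommRing R] [Algebra k R]

/-- Upper unitriangular element. -/
def upp (x : R) : Matrix.SpecialLinearGroup (Fin 2) R :=
  ⟨!![1, x; 0, 1], by rw [Matrix.det_fin_two_of]; ring⟩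

/-- Lower unitriangular element. -/
def low (x : R) : Matrix.SpecialLinearGroup (Fin 2) R :=
  ⟨!![1, 0; x, 1], by rw [Matrix.det_fin_two_of]; ring⟩

@[simp] theorem upp_val (x : R) : (upp x).1 = !![1, x; 0, 1] := rfl

@[simp] theorem low_val (x : R) : (low x).1 = !![1, 0; x, 1] := rfl

theorem ext2 {g g' : Matrix.SpecialLinearGroup (Fin 2) R} (h00 : g.1 0 0 = g'.1 0 0)
    (h01 : g.1 0 1 = g'.1 0 1) (h10 : g.1 1 0 = g'.1 1 0) (h11 : g.1 1 1 = g'.1 1 1) : g = g' := by
  apply Subtype.ext
  ext i j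
  fin_cases i <;> fin_cases j <;> assumption

theorem upp_add (x y : R) : upp (x + y) = upp x * upp y := by
  apply ext2 <;> simp [Matrix.mul_apply, Fin.sum_univ_two, add_comm]

theorem low_add (x y : R) : low (x + y) = low x * low y := by
  apply ext2 <;> simp [Matrix.mul_apply, Fin.sum_univ_two]

theorem upp_zero : upp (0 : R) = 1 := by apply ext2 <;> simp

theorem low_zero : low (0 : R) = 1 := by apply ext2 <;> simp

theorem upp_inv (x : R) : (upp x)⁻¹ = upp (-x) := by
  apply inv_eq_of_mul_eq_one_right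
  rw [← upp_add, add_neg_cancel, upp_zero]

theorem low_inv (x : R) : (low x)⁻¹ = low (-x) := by
  apply inv_eq_of_mul_eq_one_right
  rw [← low_add, add_neg_cancel, low_zero]

theorem upp_pow (x : R) (n : ℕ) : upp x ^ n = upp (n • x) := by
  induction n with
  | zero => rw [pow_zero, zero_nsmul, upp_zero]
  | succ n ih => rw [pow_succ, ih, succ_nsmul, upp_add]

theorem upp_injective : Function.Injective (upp : R → Matrix.SpecialLinearGroup (Fin 2) R) :=
  fun x y h => by
    have := congrArg (fun g : Matrix.SpecialLinearGroup (Fin 2) R => g.1 0 1) h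
    simpa using this

theorem map_upp {S : Type*} [CommRing S] (φ : R →+* S) (x : R) :
    Matrix.SpecialLinearGroup.map φ (upp x) = upp (φ x) := by
  apply ext2 <;> simp

theorem map_low {S : Type*} [CommRing S] (φ : R →+* S) (x : R) :
    Matrix.SpecialLinearGroup.map φ (low x) = low (φ x) := by
  apply ext2 <;> simp

variable (k) in
/-- The group generated by `upp c` and `low (c·lam)`, `c ∈ k`. -/
def grp (lam : R) : Subgroup (Matrix.SpecialLinearGroup (Fin 2) R) :=
  Subgroup.closure ({g | ∃ c : k, g = upp (algebraMap k R c)} ∪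
    {g | ∃ c : k, g = low (algebraMap k R c * lam)})

theorem upp_mem_grp (lam : R) (c : k) : upp (algebraMap k R c) ∈ grp k lam :=
  Subgroup.subset_closure (Or.inl ⟨c, rfl⟩)

theorem low_mem_grp (lam : R) (c : k) : low (algebraMap k R c * lam) ∈ grp k lam :=
  Subgroup.subset_closure (Or.inr ⟨c, rfl⟩)

theorem grp_induction {lam : R} {p : Matrix.SpecialLinearGroup (Fin 2) R → Prop} (h1 : p 1)
    (hu : ∀ g ∈ grp k lam, p g → ∀ c : k, p (g * upp (algebraMap k R c)))
    (hv : ∀ g ∈ grp k lam, p g → ∀ c : k, p (g * low (algebraMap k R c * lam)))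
    {g : Matrix.SpecialLinearGroup (Fin 2) R} (hg : g ∈ grp k lam) : p g := by
  unfold grp at hg
  induction hg using Subgroup.closure_induction_right with
  | one => exact h1
  | mul_right x hx y hy ih =>
    rcases hy with ⟨c, rfl⟩ | ⟨c, rfl⟩
    · exact hu x hx ih c
    · exact hv x hx ih c
  | mul_inv_cancel x hx y hy ih =>
    rcases hy with ⟨c, rfl⟩ | ⟨c, rfl⟩
    · rw [upp_inv, ← map_neg]; exact hu x hx ih _
    · rw [low_inv, ← neg_mul, ← map_neg]; exact hv x hx ih _

theorem map_grp {S : Type*} [CommRing S] [Algebra k S] (φ : R →ₐ[k] S) (lam : R) :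
    (grp k lam).map (Matrix.SpecialLinearGroup.map (φ : R →+* S)) = grp k (φ lam) := by
  rw [grp, grp, MonoidHom.map_closure, Set.image_union]
  congr 2
  · ext g
    simp only [Set.mem_image, Set.mem_ofPred_eq]
    constructor
    · rintro ⟨_, ⟨c, rfl⟩, rfl⟩; exact ⟨c, by rw [map_upp]; simp⟩
    · rintro ⟨c, rfl⟩; exact ⟨_, ⟨c, rfl⟩, by rw [map_upp]; simp⟩
  · ext g
    simp only [Set.mem_image, Set.mem_ofPred_eq]
    constructor
    · rintro ⟨_, ⟨c, rfl⟩, rfl⟩; exact ⟨c, by rw [map_low]; simp⟩
    · rintro ⟨c, rfl⟩; exact ⟨_, ⟨c, rfl⟩, by rw [map_low]; simp⟩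

/-- The function underlying `swap`. -/
def swapFun (lam l : R) (hl : l * lam = 1) (g : Matrix.SpecialLinearGroup (Fin 2) R) :
    Matrix.SpecialLinearGroup (Fin 2) R :=
  ⟨!![g.1 1 1, -(g.1 1 0 * l); -(g.1 0 1 * lam), g.1 0 0], by
    have hd := g.2
    rw [Matrix.det_fin_two] at hd
    rw [Matrix.det_fin_two_of]
    linear_combination hd - g.1 1 0 * g.1 0 1 * hl⟩

@[simp] theorem swapFun_val (lam l : R) (hl : l * lam = 1) (g : Matrix.SpecialLinearGroup (Fin 2) R) :
    (swapFun lam l hl g).1 = !![g.1 1 1, -(g.1 1 0 * l); -(g.1 0 1 * lam), g.1 0 0] := rfl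

/-- For `lam` invertible, the automorphism exchanging the two families. -/
def swap (lam l : R) (hl : l * lam = 1) :
    Matrix.SpecialLinearGroup (Fin 2) R →* Matrix.SpecialLinearGroup (Fin 2) R :=
  MonoidHom.mk' (swapFun lam l hl) fun g g' => by
    apply ext2 <;> simp [Matrix.mul_apply, Fin.sum_univ_two]
    · linear_combination (-(g.1 1 0 * g'.1 0 1)) * hl
    · ring
    · ring
    · linear_combination (-(g.1 0 1 * g'.1 1 0)) * hl

theorem swap_upp (lam l : R) (hl : l * lam = 1) (x : R) :
    swap lam l hl (upp x) = low (-(x * lam)) := by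
  apply ext2 <;> simp [swap]

theorem swap_low (lam l : R) (hl : l * lam = 1) (x : R) :
    swap lam l hl (low (x * lam)) = upp (-x) := by
  apply ext2 <;> simp [swap]
  linear_combination x * hl

theorem swap_mem (lam l : R) (hl : l * lam = 1) {g : Matrix.SpecialLinearGroup (Fin 2) R}
    (hg : g ∈ grp k lam) : swap lam l hl g ∈ grp k lam := by
  refine grp_induction (p := fun g => swap lam l hl g ∈ grp k lam) ?_ ?_ ?_ hg
  · rw [map_one]; exact one_mem _
  · intro g _ ih c
    rw [map_mul, swap_upp, ← low_inv]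
    exact mul_mem ih (inv_mem (low_mem_grp lam c))
  · intro g _ ih c
    rw [map_mul, swap_low, ← upp_inv]
    exact mul_mem ih (inv_mem (upp_mem_grp lam c))

theorem low_mem_of_upp (lam l : R) (hl : l * lam = 1) {x : R} (hx : upp x ∈ grp k lam) :
    low (x * lam) ∈ grp k lam := by
  have h := swap_mem lam l hl hx
  rw [swap_upp, ← low_inv] at h
  exact inv_mem_iff.1 h

/-- An element of the group has, up to a unit, conjugation by upper triangular squares. -/
theorem upp_conj {lam : R} {g : Matrix.SpecialLinearGroup (Fin 2) R} (hg : g ∈ grp k lam)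
    (h10 : g.1 1 0 = 0) (c : k) : upp (g.1 0 0 ^ 2 * algebraMap k R c) ∈ grp k lam := by
  have hd : g.1 0 0 * g.1 1 1 = 1 := by
    have := g.2
    rw [Matrix.det_fin_two, h10, mul_zero, sub_zero] at this
    exact this
  have e : g * upp (algebraMap k R c) = upp (g.1 0 0 ^ 2 * algebraMap k R c) * g := by
    apply ext2 <;> simp [Matrix.mul_apply, Fin.sum_univ_two, h10]
    linear_combination (-(g.1 0 0 * algebraMap k R c)) * hd
  rw [show upp (g.1 0 0 ^ 2 * algebraMap k R c) = g * upp (algebraMap k R c) * g⁻¹ by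
    rw [e, mul_inv_cancel_right]]
  exact mul_mem (mul_mem hg (upp_mem_grp lam c)) (inv_mem hg)

/-- Over a field, all upper unitriangular matrices give everything. -/
theorem eq_top_of_upp {K : Type*} [Field K] [Algebra k K] {lam : K} (h0 : lam ≠ 0)
    (h : ∀ x : K, upp x ∈ grp k lam) : grp k lam = ⊤ := by
  rw [eq_top_iff, ← SL2.top_eq_sup]
  refine sup_le (fun g hg => ?_) (fun g hg => ?_)
  · obtain ⟨x, rfl⟩ := SL2.mem_lower.1 hg
    have := low_mem_of_upp lam lam⁻¹ (inv_mul_cancel₀ h0) (h (x * lam⁻¹))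
    rwa [inv_mul_cancel_right₀ h0] at this
  · obtain ⟨x, rfl⟩ := SL2.mem_upper.1 hg
    exact h x

end Cfsg.Agent.RootSubgroups.Dk
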