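import Mathlib
import Cfsg.Agent.Lib.RootSubgroups.DicksonAlg
import Cfsg.Agent.Lib.Dickson.Classify
import Cfsg.Agent.Lib.Dickson.Subfield

/-!
Dickson's generation theorem over a finite field of odd characteristic.
-/

set_option autoImplicit false
set_option linter.unusedSectionVars false

namespace Cfsg.Agent.RootSubgroups.Dk

open Matrix MulAction OnePoint
open Cfsg.Agent.Dickson
open scoped MatrixGroups

attribute [local instance] Cfsg.Agent.PLocalB.lineAction Cfsg.Agent.Dickson.pslLine

/-- Two points with non-trivial translation groups lie in one orbit. -/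
theorem same_orbit {G X : Type*} [Group G] [MulAction G X] [Finite G] (hA : Sharp G X) {a b : X}
    (ha : 1 < uc hA a) (hb : 1 < uc hA b) : b ∈ orbit G a := by
  classical
  by_contra h
  have hsp : ∀ w : X, 1 < uc hA w → w ∈ special G X := by
    intro w hw
    haveI : Nontrivial (uni hA w) := Finite.one_lt_card_iff_nontrivial.mp hw
    obtain ⟨v, hv⟩ := exists_ne (1 : uni hA w)
    exact ⟨v, fun e => hv (Subtype.ext e), (v.2 : IsUni w (v : G)).smul_eq⟩
  have hsub : ∀ w ∈ ({a, b} : Finset X), w ∈ special G X := by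
    intro w hw
    simp only [Finset.mem_insert, Finset.mem_singleton] at hw
    rcases hw with rfl | rfl
    · exact hsp _ ha
    · exact hsp _ hb
  have h1 := (sum_orbits_le hA ⊤ hsub (distinct_pair h)).1
  rw [Finset.sum_pair (ne_of_notMem_orbit h), Subgroup.card_top] at h1
  have h2 := group_le_wt hA (show 2 ≤ uc hA a by omega)
  have h3 := group_le_wt hA (show 2 ≤ uc hA b by omega)
  have h4 : 0 < Nat.card G := Nat.card_pos
  omega

theorem commute_of_dihedral {n : ℕ} (x y : DihedralGroup n) (hx : Odd (orderOf x))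
    (hy : Odd (orderOf y)) : x * y = y * x := by
  have key : ∀ z : DihedralGroup n, Odd (orderOf z) → ∃ i, z = DihedralGroup.r i := by
    rintro (i | i) hz
    · exact ⟨i, rfl⟩
    · rw [DihedralGroup.orderOf_sr] at hz
      exact absurd hz (by decide)
  obtain ⟨i, rfl⟩ := key x hx
  obtain ⟨j, rfl⟩ := key y hy
  rw [DihedralGroup.r_mul_r, DihedralGroup.r_mul_r, add_comm]

theorem not_dvd_twentyfour {n : ℕ} (ho : Odd n) (h5 : 5 ≤ n) : ¬ n ∣ 24 := by
  intro h
  have := Nat.le_of_dvd (by decide) h
  obtain ⟨m, rfl⟩ := ho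
  have : m ≤ 12 := by omega
  interval_cases m <;> first | omega | norm_num at h

variable {k : Type*} [Field k] {K : Type*} [Field K] [Algebra k K] [Finite K]

theorem upp_eq_upper (x : K) : upp x = PLocalB.upper x := rfl

theorem low_eq_lower (x : K) : low x = PLocalB.lower x := rfl

/-- **Dickson's theorem** on `⟨u(k), v(k lam)⟩` over a finite field. -/
theorem grp_eq_top_finite (h2 : (2 : k) ≠ 0) (h5 : 5 ≤ Nat.card k) {lam : K} (h0 : lam ≠ 0)
    (hgen : Algebra.adjoin k ({lam} : Set K) = ⊤) : grp k lam = ⊤ := by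
  classical
  haveI : Fintype K := Fintype.ofFinite K
  obtain ⟨p, hp⟩ := CharP.exists K
  haveI : Fact p.Prime := ⟨(CharP.char_is_prime K p)⟩
  have h2K : (2 : K) ≠ 0 := fun e => h2 ((algebraMap k K).injective (by rw [map_ofNat, e, map_zero]))
  have hpodd : Odd p := by
    refine (Fact.out : p.Prime).eq_two_or_odd'.resolve_left fun e => h2K ?_
    subst e
    exact_mod_cast CharP.cast_eq_zero K 2
  -- the translations
  let A : AddSubgroup K :=
    { carrier := {x | upp x ∈ grp k lam}
      zero_mem' := by simp [upp_zero, one_mem]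
      add_mem' := fun {x y} hx hy => by
        show upp (x + y) ∈ grp k lam
        rw [upp_add]; exact mul_mem hx hy
      neg_mem' := fun {x} hx => by
        show upp (-x) ∈ grp k lam
        rw [← upp_inv]; exact inv_mem hx }
  have hkA : ∀ c : k, algebraMap k K c ∈ A := fun c => upp_mem_grp lam c
  haveI : Finite k := Finite.of_injective _ (algebraMap k K).injective
  have hA5 : 5 ≤ Nat.card A :=
    le_trans h5 (Nat.card_le_card_of_injective (fun c => (⟨_, hkA c⟩ : A)) fun a b e =>
      (algebraMap k K).injective (congrArg Subtype.val e))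
  obtain ⟨e, he⟩ : ∃ e : ℕ, Nat.card A = p ^ e := by
    have hdvd : Nat.card A ∣ Nat.card K := AddSubgroup.card_addSubgroup_dvd_card A
    obtain ⟨n, -, hn⟩ := FiniteField.card K p
    rw [Nat.card_eq_fintype_card (α := K), hn] at hdvd
    obtain ⟨i, -, hi⟩ := (Nat.dvd_prime_pow (Fact.out : p.Prime)).1 hdvd
    exact ⟨i, hi⟩
  have hAodd : Odd (Nat.card A) := he ▸ hpodd.pow
  -- the image on the line over an algebraic closure
  let Kb := AlgebraicClosure K
  set f : K →+* Kb := algebraMap K Kb
  set H : Subgroup (PSL2 K) := (grp k lam).map (QuotientGroup.mk' _) with hH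
  let ι : H →* PSL2 Kb := (extend f).comp H.subtype
  have hι : Function.Injective ι := (extend_injective f).comp Subtype.val_injective
  letI : MulAction H (OnePoint Kb) := MulAction.compHom (OnePoint Kb) ι
  have hA : Sharp H (OnePoint Kb) := sharp_of_injective ι hι
  have hsmul : ∀ (g : H) (v : OnePoint Kb), g • v = extend f (g : PSL2 K) • v := fun _ _ => rfl
  have hU : ∀ (w : OnePoint Kb) (g : H), IsUni w g ↔ IsUni w (extend f (g : PSL2 K)) := fun w g => by
    simp only [IsUni, hsmul]
    rw [show (g = 1 ↔ extend f (g : PSL2 K) = 1) from (map_eq_one_iff ι hι).symm]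
  have hmem : ∀ g ∈ grp k lam, (QuotientGroup.mk g : PSL2 K) ∈ H := fun g hg => ⟨g, hg, rfl⟩
  have hAH : ∀ x : K, uppHom K (Multiplicative.ofAdd x) ∈ H ↔ x ∈ A := by
    intro x
    refine ⟨?_, fun hx => hmem (upp x) hx⟩
    rintro ⟨g, hg, hgx⟩
    rcases mk_eq_mk_iff.mp hgx with rfl | rfl
    · exact hg
    · show upp x ∈ grp k lam
      have heven : Even (p + 1) := hpodd.add_odd odd_one
      have h := (grp k lam).pow_mem hg (p + 1)
      rwa [heven.neg_pow, ← upp_eq_upper, upp_pow, succ_nsmul, nsmul_eq_mul,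
        CharP.cast_eq_zero, zero_mul, zero_add] at h
  set w₀ := pointMap f (∞ : OnePoint K) with hw₀
  have huc : uc hA w₀ = Nat.card A := by
    refine (Nat.card_congr (Equiv.ofBijective
      (fun x : A => (⟨⟨_, (hAH x).mpr x.2⟩, (hU _ _).mpr ((isUni_extend_iff f _ _).mpr
        (isUni_infty_iff_upp.mpr ⟨(x : K), rfl⟩))⟩ : uni hA w₀)) ⟨?_, ?_⟩)).symm
    · intro x y e
      exact Subtype.ext (Multiplicative.ofAdd.injective (uppHom_injective
        (congrArg (fun u : uni hA w₀ => ((u : H) : PSL2 K)) e)))
    · intro u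
      have hu := (hU _ _).mp u.2
      rw [isUni_extend_iff, isUni_infty_iff_upp] at hu
      obtain ⟨b, hb⟩ := hu
      exact ⟨⟨b, (hAH b).mp (hb ▸ (u : H).2)⟩, Subtype.ext (Subtype.ext hb.symm)⟩
  let gu : H := ⟨QuotientGroup.mk (upp (1 : K)), hmem _ (by simpa using upp_mem_grp lam (1 : k))⟩
  let gv : H := ⟨QuotientGroup.mk (low lam), hmem _ (by simpa using low_mem_grp lam (1 : k))⟩
  have hord : ∀ (g : SL(2, K)), g ^ p = 1 → ∀ hg : (QuotientGroup.mk g : PSL2 K) ∈ H,
      Odd (orderOf (⟨_, hg⟩ : H)) := by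
    intro g hgp hg
    refine Odd.of_dvd_nat hpodd (orderOf_dvd_of_pow_eq_one (Subtype.ext ?_))
    show (QuotientGroup.mk g : PSL2 K) ^ p = 1
    rw [← QuotientGroup.mk_pow, hgp, QuotientGroup.mk_one]
  have hguo : Odd (orderOf gu) :=
    hord _ (by rw [upp_pow, nsmul_eq_mul, CharP.cast_eq_zero, zero_mul, upp_zero]) _
  have hgvo : Odd (orderOf gv) := by
    refine hord _ ?_ _
    rw [low_eq_lower, PLocalB.lower_pow, CharP.cast_eq_zero, zero_mul, PLocalB.lower_zero]
  have hmove : gv • w₀ ≠ w₀ := by
    intro e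
    rw [hsmul, extend_smul] at e
    have e' := pointMap_injective f e
    rw [show ((gv : PSL2 K)) = QuotientGroup.mk (low lam) from rfl, mk_smul,
      PLocalB.smul_infty_iff] at e'
    exact h0 (by simpa using e')
  haveI : Nonempty (OnePoint Kb) := ⟨∞⟩
  have horb : orb H w₀ = Nat.card A + 1 := by
    have huc1 : 1 < uc hA w₀ := by omega
    have hdvd : Nat.card A ∣ Nat.card H := huc ▸ Subgroup.card_subgroup_dvd_card _
    rcases classify hA with ⟨-, hnu⟩ | ⟨w, hfix, hu⟩ | ⟨n, hn, ⟨iso⟩, -⟩ | ⟨⟨iso⟩⟩ | ⟨⟨iso⟩⟩ |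
        ⟨⟨iso⟩⟩ | ⟨w, hq, horb', -⟩
    · exfalso
      haveI : Nontrivial (uni hA w₀) := Finite.one_lt_card_iff_nontrivial.mp huc1
      obtain ⟨v, hv⟩ := exists_ne (1 : uni hA w₀)
      exact hnu v (fun e => hv (Subtype.ext e)) ⟨w₀, v.2⟩
    · exfalso
      haveI : Nontrivial (uni hA w₀) := Finite.one_lt_card_iff_nontrivial.mp huc1
      obtain ⟨v, hv⟩ := exists_ne (1 : uni hA w₀)
      have h := ((v.2 : IsUni w₀ (v : H)).resolve_left (fun e => hv (Subtype.ext e)) w).mp (hfix v)
      exact hmove (h ▸ hfix gv)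
    · exfalso
      have hc := commute_of_dihedral (iso gu) (iso gv) (by rwa [iso.orderOf_eq])
        (by rwa [iso.orderOf_eq])
      rw [← map_mul, ← map_mul] at hc
      have hc' : (QuotientGroup.mk (upp (1 : K) * low lam) : PSL2 K) =
          QuotientGroup.mk (low lam * upp (1 : K)) := congrArg Subtype.val (iso.injective hc)
      rcases mk_eq_mk_iff.mp hc' with e | e
      · have := congrArg (fun g : SL(2, K) => g.1 0 0) e
        simp [Matrix.mul_apply, Fin.sum_univ_two] at this
        exact h0 this
      · have := congrArg (fun g : SL(2, K) => g.1 0 1) e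
        simp [Matrix.mul_apply, Fin.sum_univ_two] at this
        exact h2K (by linear_combination this)
    · refine absurd ?_ (not_dvd_twentyfour hAodd hA5)
      refine hdvd.trans ⟨2, ?_⟩
      rw [Nat.card_congr iso.toEquiv, nat_card_alternatingGroup, Nat.card_fin]
      rfl
    · refine absurd ?_ (not_dvd_twentyfour hAodd hA5)
      refine hdvd.trans ⟨1, ?_⟩
      rw [Nat.card_congr iso.toEquiv, Nat.card_perm, Nat.card_fin]
      rfl
    · have hc60 : Nat.card H = 60 := by
        rw [Nat.card_congr iso.toEquiv, nat_card_alternatingGroup, Nat.card_fin]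
        rfl
      rw [hc60] at hdvd
      have hA5' : Nat.card A = 5 := by
        have hpd : p ∣ 60 := (Dvd.dvd.trans (dvd_pow_self p (by rintro rfl; rw [he, pow_zero] at hA5; omega)) (he ▸ hdvd))
        have hp60 := Nat.le_of_dvd (by decide) hpd
        have hA60 := Nat.le_of_dvd (by decide) hdvd
        have he6 : e < 6 := by
          by_contra hge
          have h3 : 3 ≤ p := by
            have := (Fact.out : p.Prime).two_le
            obtain ⟨m, rfl⟩ := hpodd
            omega
          have : 3 ^ 6 ≤ p ^ e :=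
            (Nat.pow_le_pow_left h3 6).trans (Nat.pow_le_pow_right (by omega) (by omega))
          norm_num at this
          omega
        have hp : p = 3 ∨ p = 5 := by
          have hpr := (Fact.out : p.Prime)
          have h1 : p ∣ 4 * 3 * 5 := hpd
          rcases hpr.dvd_mul.mp h1 with h | h
          · rcases hpr.dvd_mul.mp h with h | h
            · have h4 := Nat.le_of_dvd (by decide) h
              have := hpr.two_le
              obtain ⟨m, rfl⟩ := hpodd
              omega
            · exact Or.inl ((Nat.prime_dvd_prime_iff_eq hpr Nat.prime_three).mp h)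
          · exact Or.inr ((Nat.prime_dvd_prime_iff_eq hpr (by norm_num)).mp h)
        rw [he] at hdvd hA5 ⊢
        rcases hp with rfl | rfl <;> interval_cases e <;> first | omega | norm_num at hdvd
      obtain ⟨m, hm⟩ := exists_orb_eq hA huc1
      obtain ⟨d, hd⟩ := uc_dvd_st hA w₀
      have hos := orb_mul_st (G := H) w₀
      rw [hd, hc60, huc, hA5'] at hos
      rw [huc, hA5'] at hm
      have hm0 : m ≠ 0 := by
        rintro rfl
        apply hmove
        obtain ⟨hs, -⟩ := Nat.card_eq_one_iff_unique.mp (hm.trans (by simp) :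
          orb H w₀ = 1)
        exact congrArg Subtype.val
          (hs.elim ⟨gv • w₀, mem_orbit w₀ gv⟩ ⟨w₀, mem_orbit_self w₀⟩)
      have hle : orb H w₀ ≤ 12 :=
        Nat.le_of_dvd (by decide) ⟨d, by linarith⟩
      have hdv : orb H w₀ ∣ 12 := ⟨d, by linarith⟩
      rw [hA5']
      rw [hm] at hle hdv ⊢
      have hmle : m ≤ 2 := by omega
      interval_cases m <;> first | omega | norm_num at hdv
    · obtain ⟨g, hg⟩ := same_orbit hA (a := w) (b := w₀) (by omega) huc1
      have e : uc hA w₀ = uc hA w := by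
        rw [← uc_smul hA g w]; exact congrArg (uc hA) hg.symm
      have e' : orbit H w₀ = orbit H w := by
        rw [orbit_eq_iff]; exact ⟨g, hg⟩
      rw [show orb H w₀ = orb H w by rw [orb, orb, e'], horb', ← huc, e]
  -- the orbit of infinity
  haveI : Finite (orbit H w₀) := Set.Finite.to_subtype (Set.finite_range _)
  set z : K := 1 / lam with hz
  let Φ : Option A → orbit H w₀ := fun o => match o with
    | Option.none => ⟨w₀, mem_orbit_self w₀⟩
    | Option.some a => ⟨_, mem_orbit w₀ ((⟨_, (hAH a).mpr a.2⟩ : H) * gv)⟩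
  have hlow : ∀ (x : K), x ≠ 0 → (QuotientGroup.mk (low x) : PSL2 K) • (∞ : OnePoint K) =
      ((1 / x : K) : OnePoint K) := by
    intro x hx
    rw [mk_smul, PLocalB.smul_infty_of_ne _ (by simpa using hx)]
    simp
  have htr : ∀ (a b : K), uppHom K (Multiplicative.ofAdd a) • ((b : K) : OnePoint K) =
      ((b + a : K) : OnePoint K) := fun a b => by
    show (PLocalB.upper a) • ((b : K) : OnePoint K) = _
    rw [PLocalB.upper_smul_coe]
  have hΦsome : ∀ a : A, (Φ (Option.some a) : OnePoint Kb) = pointMap f ((z + (a : K) : K) : OnePoint K) := by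
    intro a
    show ((⟨_, (hAH a).mpr a.2⟩ : H) * gv) • w₀ = _
    rw [hsmul]
    show extend f (uppHom K (Multiplicative.ofAdd (a : K)) * (gv : PSL2 K)) • pointMap f ∞ = _
    rw [extend_smul, mul_smul, hlow lam h0, htr]
  have hΦinj : Function.Injective Φ := by
    rintro (_ | a) (_ | b) e
    · rfl
    · have := congrArg Subtype.val e
      rw [hΦsome] at this
      exact absurd (pointMap_injective f this) (OnePoint.infty_ne_coe _)
    · have := congrArg Subtype.val e
      rw [hΦsome] at this
      exact absurd (pointMap_injective f this) (OnePoint.coe_ne_infty _)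
    · have := congrArg Subtype.val e
      rw [hΦsome, hΦsome] at this
      have h' := OnePoint.coe_eq_coe.mp (pointMap_injective f this)
      exact congrArg Option.some (Subtype.ext (add_left_cancel h'))
  have hΦbij : Function.Bijective Φ := (Nat.bijective_iff_injective_and_card Φ).mpr
    ⟨hΦinj, by rw [Nat.card_eq_fintype_card, Fintype.card_option, ← Nat.card_eq_fintype_card]; exact horb.symm⟩
  have hkey : ∀ x : K, x ≠ 0 → low x ∈ grp k lam → 1 / x - z ∈ A := by
    intro x hx hxm
    have hin : pointMap f ((1 / x : K) : OnePoint K) ∈ orbit H w₀ := by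
      refine ⟨(⟨_, hmem _ hxm⟩ : H), ?_⟩
      show (⟨_, hmem _ hxm⟩ : H) • w₀ = _
      rw [hsmul]
      show extend f (QuotientGroup.mk (low x)) • pointMap f ∞ = _
      rw [extend_smul, hlow x hx]
    obtain ⟨o, ho⟩ := hΦbij.2 ⟨_, hin⟩
    have ho' := congrArg Subtype.val ho
    rcases o with _ | a
    · exact absurd (pointMap_injective f ho') (OnePoint.infty_ne_coe _)
    · rw [hΦsome] at ho'
      rw [← OnePoint.coe_eq_coe.mp (pointMap_injective f ho'), add_sub_cancel_left]
      exact a.2
  have hzA : z ∈ A := by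
    have h2' : (algebraMap k K) (2 : k)⁻¹ * lam ≠ 0 :=
      mul_ne_zero ((map_ne_zero _).mpr (inv_ne_zero h2)) h0
    have := hkey _ h2' (low_mem_grp lam _)
    rwa [map_inv₀, map_ofNat, show 1 / ((2 : K)⁻¹ * lam) - z = z by
      rw [hz]; field_simp; ring] at this
  obtain ⟨hAT, hlT⟩ := eq_smul_subfield A (l := z) (one_div_ne_zero h0) (fun a ha ha0 => by
    have hlm := low_mem_of_upp lam lam⁻¹ (inv_mul_cancel₀ h0) (k := k) (x := a) ha
    have := add_mem (hkey _ (mul_ne_zero ha0 h0) hlm) hzA
    rwa [sub_add_cancel, show 1 / (a * lam) = z / a by rw [hz]; field_simp] at this)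
    (a₀ := 1) (by simpa using hkA 1) one_ne_zero
  have hlam : lam ∈ multiplier A := by
    rw [one_pow, hz, one_div_one_div] at hlT; exact hlT
  have htop : ∀ x : K, x ∈ multiplier A := by
    let T' : Subalgebra k K :=
      { (multiplier A).toSubring with
        algebraMap_mem' := fun c => by
          have := (hAT _).mp (hkA c)
          rwa [div_one] at this }
    intro x
    have hle : Algebra.adjoin k ({lam} : Set K) ≤ T' :=
      Algebra.adjoin_le (Set.singleton_subset_iff.mpr hlam)
    rw [hgen] at hle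
    exact hle Algebra.mem_top
  refine eq_top_of_upp h0 fun x => ?_
  exact (hAT x).mpr (by rw [div_one]; exact htop x)

end Cfsg.Agent.RootSubgroups.Dk
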