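import Mathlib

/-!
Monic orthogonal polynomials for a linear functional with non-vanishing Hankel determinants.
-/

set_option autoImplicit false
open Polynomial Matrix Finset

namespace Cfsg.Agent.RootSubgroups.Orth

variable {k : Type*} [Field k]

/-- The Hankel matrix of size `j`. -/
noncomputable def hankel (h : k[X] →ₗ[k] k) (j : ℕ) : Matrix (Fin j) (Fin j) k :=
  Matrix.of fun a b => h (X ^ ((a : ℕ) + b))

/-- Monic of degree `j` and orthogonal to smaller degrees. -/
def IsOrth (h : k[X] →ₗ[k] k) (j : ℕ) (Q : k[X]) : Prop :=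
  Q.Monic ∧ Q.natDegree = j ∧ ∀ i < j, h (Q * X ^ i) = 0

theorem apply_mul_X_pow (h : k[X] →ₗ[k] k) (Q : k[X]) {N : ℕ} (hN : Q.natDegree < N) (i : ℕ) :
    h (Q * X ^ i) = ∑ b : Fin N, h (X ^ (i + (b : ℕ))) * Q.coeff b := by
  conv_lhs => rw [Q.as_sum_range' N hN]
  rw [Finset.sum_mul, map_sum, Finset.sum_range]
  refine Finset.sum_congr rfl fun b _ => ?_
  rw [monomial_mul_X_pow, ← smul_X_eq_monomial, map_smul, smul_eq_mul, mul_comm,
    add_comm (b : ℕ) i]

theorem exists_orth (h : k[X] →ₗ[k] k) {j : ℕ} (hd : (hankel h j).det ≠ 0) :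
    ∃ Q, IsOrth h j Q := by
  set M := hankel h j
  set c := M⁻¹ *ᵥ fun a : Fin j => -h (X ^ ((a : ℕ) + j)) with hc
  refine ⟨X ^ j + ∑ b : Fin j, C (c b) * X ^ (b : ℕ), monic_X_pow_add (degree_sum_fin_lt c),
    natDegree_eq_of_degree_eq_some ?_, fun i hi => ?_⟩
  · rw [degree_add_eq_left_of_degree_lt (by rw [degree_X_pow]; exact degree_sum_fin_lt c),
      degree_X_pow]
  · have e : (M *ᵥ c) ⟨i, hi⟩ = -h (X ^ (i + j)) := by
      rw [hc, mulVec_mulVec, mul_nonsing_inv _ (isUnit_iff_ne_zero.2 hd), one_mulVec]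
    rw [add_mul, Finset.sum_mul, map_add, map_sum, ← pow_add, add_comm j i]
    have e2 : ∀ b : Fin j, h (C (c b) * X ^ (b : ℕ) * X ^ i) = M ⟨i, hi⟩ b * c b := fun b => by
      rw [mul_assoc, ← pow_add, ← smul_eq_C_mul, map_smul, smul_eq_mul, mul_comm,
        add_comm (b : ℕ) i]
      rfl
    simp only [e2]
    change _ + (M *ᵥ c) ⟨i, hi⟩ = 0
    rw [e, add_neg_cancel]

theorem ne_zero_of_det {h : k[X] →ₗ[k] k} {j : ℕ} {Q : k[X]} (hQ : IsOrth h j Q)
    (hd : (hankel h (j + 1)).det ≠ 0) : h (Q * X ^ j) ≠ 0 := by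
  intro h0
  refine hd (exists_mulVec_eq_zero_iff.1 ⟨fun b => Q.coeff b, fun e => ?_, ?_⟩)
  · have := congrFun e (Fin.last j)
    simp only [Fin.val_last, Pi.zero_apply] at this
    rw [← hQ.2.1, hQ.1.coeff_natDegree] at this
    exact one_ne_zero this
  · funext a
    show ∑ b : Fin (j + 1), h (X ^ ((a : ℕ) + (b : ℕ))) * Q.coeff (b : ℕ) = 0
    rw [← apply_mul_X_pow h Q (by rw [hQ.2.1]; exact Nat.lt_succ_self j)]
    rcases Nat.lt_succ_iff_lt_or_eq.1 a.2 with ha | ha
    · exact hQ.2.2 _ ha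
    · rw [ha]; exact h0

theorem eq_zero_of_orth {h : k[X] →ₗ[k] k} {n : ℕ} (hd : ∀ j ≤ n, (hankel h j).det ≠ 0)
    {D : k[X]} (hD : D.degree < n) (ho : ∀ i < n, h (D * X ^ i) = 0) : D = 0 := by
  by_contra hD0
  set m := D.natDegree with hm
  have hmn : m < n := (natDegree_lt_iff_degree_lt hD0).2 hD
  obtain ⟨Q, hQ⟩ := exists_orth h (hd m hmn.le)
  apply mul_ne_zero (leadingCoeff_ne_zero.2 hD0) (ne_zero_of_det hQ (hd (m + 1) hmn))
  have h1 : h (D * Q) = 0 := by
    rw [Q.as_sum_range' (m + 1) (by rw [hQ.2.1]; exact Nat.lt_succ_self m), Finset.mul_sum, map_sum]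
    refine Finset.sum_eq_zero fun b hb => ?_
    rw [← smul_X_eq_monomial, mul_smul_comm, map_smul,
      ho b (by simp only [Finset.mem_range] at hb; omega), smul_zero]
  rw [D.as_sum_range' (m + 1) (Nat.lt_succ_self m), Finset.sum_mul, map_sum,
    Finset.sum_range_succ, Finset.sum_eq_zero, zero_add] at h1
  · rw [← h1, ← smul_X_eq_monomial, smul_mul_assoc, map_smul, mul_comm Q, smul_eq_mul, leadingCoeff]
  · intro b hb
    rw [← smul_X_eq_monomial, smul_mul_assoc, map_smul, mul_comm (X ^ b) Q,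
      hQ.2.2 b (Finset.mem_range.1 hb), smul_zero]

theorem eq_of_orth {h : k[X] →ₗ[k] k} {n : ℕ} (hd : ∀ j ≤ n, (hankel h j).det ≠ 0) {P Q : k[X]}
    (hP : IsOrth h n P) (hQ : IsOrth h n Q) : P = Q := by
  rw [← sub_eq_zero]
  refine eq_zero_of_orth hd ?_ fun i hi => ?_
  · have := degree_sub_lt (p := P) (q := Q)
      (by rw [degree_eq_natDegree hP.1.ne_zero, degree_eq_natDegree hQ.1.ne_zero, hP.2.1, hQ.2.1])
      hP.1.ne_zero (by rw [hP.1.leadingCoeff, hQ.1.leadingCoeff])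
    rwa [degree_eq_natDegree hP.1.ne_zero, hP.2.1] at this
  · rw [sub_mul, map_sub, hP.2.2 i hi, hQ.2.2 i hi, sub_zero]

/-- A Hankel matrix vanishing above the antidiagonal, with ones on it. -/
theorem det_ne_zero_of_anti (h : k[X] →ₗ[k] k) {j : ℕ} (h0 : ∀ m, m + 1 < j → h (X ^ m) = 0)
    (h1 : ∀ m, m + 1 = j → h (X ^ m) = 1) : (hankel h j).det ≠ 0 := by
  intro hdet
  have key : ((hankel h j).submatrix id (@Fin.revPerm j)).det = 1 := by
    rw [Matrix.det_of_isLowerTriangular]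
    · refine Finset.prod_eq_one fun a _ => ?_
      simp only [Matrix.submatrix_apply, id_eq, hankel, Matrix.of_apply, Fin.revPerm_apply,
        Fin.val_rev]
      exact h1 _ (by omega)
    · intro a b hab
      simp only [Matrix.submatrix_apply, id_eq, hankel, Matrix.of_apply, Fin.revPerm_apply,
        Fin.val_rev]
      have : (a : ℕ) < b := by simpa using hab
      exact h0 _ (by omega)
  rw [Matrix.det_permute', hdet, mul_zero] at key
  exact zero_ne_one key

/-- Polynomial functions on a vector space, seen on lines. -/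
def PolyOnLines {V : Type*} [AddCommGroup V] [Module k V] (F : V → k) : Prop :=
  ∀ p x : V, ∃ q : k[X], ∀ t : k, q.eval t = F (p + t • x)

theorem polyOnLines_det {V : Type*} [AddCommGroup V] [Module k V] {m : ℕ}
    (M : V →ₗ[k] Matrix (Fin m) (Fin m) k) : PolyOnLines (fun v => (M v).det) := by
  intro p x
  refine ⟨(Matrix.of fun a b => C (M p a b) + X * C (M x a b)).det, fun t => ?_⟩
  rw [← coe_evalRingHom, RingHom.map_det]
  congr 1
  ext a b
  simp [map_add, map_smul]; ring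

theorem polyOnLines_linear {V : Type*} [AddCommGroup V] [Module k V] (φ : V →ₗ[k] k) :
    PolyOnLines (fun v => φ v) := fun p x => ⟨C (φ p) + X * C (φ x), fun t => by simp; ring⟩

theorem polyOnLines_prod {V : Type*} [AddCommGroup V] [Module k V] {ι : Type*} (s : Finset ι)
    (F : ι → V → k) (hF : ∀ i ∈ s, PolyOnLines (F i)) :
    PolyOnLines (fun v => ∏ i ∈ s, F i v) := by
  intro p x
  have : ∀ i ∈ s, ∃ q : k[X], ∀ t : k, q.eval t = F i (p + t • x) := fun i hi => hF i hi p x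
  choose! q hq using this
  exact ⟨∏ i ∈ s, q i, fun t => by rw [eval_prod]; exact Finset.prod_congr rfl fun i hi => hq i hi t⟩

theorem exists_prod_ne_zero [Infinite k] {V : Type*} [AddCommGroup V] [Module k V] {ι : Type*}
    (s : Finset ι) (F : ι → V → k) (hF : ∀ i ∈ s, PolyOnLines (F i))
    (hne : ∀ i ∈ s, ∃ v, F i v ≠ 0) : ∃ v, ∏ i ∈ s, F i v ≠ 0 := by
  classical
  induction s using Finset.induction_on with
  | empty => exact ⟨0, by simp⟩
  | @insert a s ha ih =>
    obtain ⟨p, hp⟩ := ih (fun i hi => hF i (Finset.mem_insert_of_mem hi))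
      (fun i hi => hne i (Finset.mem_insert_of_mem hi))
    obtain ⟨v, hv⟩ := hne a (Finset.mem_insert_self a s)
    obtain ⟨q₁, hq₁⟩ := polyOnLines_prod s F (fun i hi => hF i (Finset.mem_insert_of_mem hi)) p (v - p)
    obtain ⟨q₂, hq₂⟩ := hF a (Finset.mem_insert_self a s) p (v - p)
    have h1 : q₁ ≠ 0 := fun e => hp (by simpa [e] using (hq₁ 0).symm)
    have h2 : q₂ ≠ 0 := fun e => hv (by simpa [e] using (hq₂ 1).symm)
    obtain ⟨t, ht⟩ : ∃ t, (q₁ * q₂).eval t ≠ 0 := by
      by_contra hc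
      push Not at hc
      exact mul_ne_zero h1 h2 (Polynomial.funext fun t => by rw [eval_zero]; exact hc t)
    refine ⟨p + t • (v - p), ?_⟩
    rw [Finset.prod_insert ha]
    rw [eval_mul, hq₁, hq₂, mul_comm] at ht
    exact ht

end Cfsg.Agent.RootSubgroups.Orth
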