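import Mathlib
import Cfsg.Agent.Lib.RootSubgroups.DicksonAlg
import Cfsg.Agent.Lib.RootSubgroups.DicksonOrth

/-!
Over an infinite field: in `k[X]/(f)` every upper unitriangular matrix lies in the group generated by
`upp c` and `low (c·X)`.
-/

set_option autoImplicit false
open Polynomial Finset

namespace Cfsg.Agent.RootSubgroups.Dk

open Cfsg.Agent.RootSubgroups.Orth

variable {k : Type*} [Field k] (f : k[X])

/-- The first column of some element of the group. -/
def Reach (A P : k[X]) : Prop :=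
  ∃ g ∈ grp k (AdjoinRoot.root f), g.1 0 0 = AdjoinRoot.mk f A ∧
    g.1 1 0 = AdjoinRoot.root f * AdjoinRoot.mk f P

theorem reach_start : Reach f 1 0 := ⟨1, one_mem _, by simp, by simp⟩

variable {f}

theorem Reach.stepA {A P : k[X]} (h : Reach f A P) (c : k) : Reach f (A + C c * (X * P)) P := by
  obtain ⟨g, hg, h00, h10⟩ := h
  refine ⟨upp (algebraMap k _ c) * g, mul_mem (upp_mem_grp _ c) hg, ?_, ?_⟩ <;>
    simp [Matrix.mul_apply, Fin.sum_univ_two, h00, h10, AdjoinRoot.mk_C, AdjoinRoot.algebraMap_eq]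

theorem Reach.stepP {A P : k[X]} (h : Reach f A P) (b : k) : Reach f A (P + C b * A) := by
  obtain ⟨g, hg, h00, h10⟩ := h
  refine ⟨low (algebraMap k _ b * AdjoinRoot.root f) * g, mul_mem (low_mem_grp _ b) hg, ?_, ?_⟩
  · simp [Matrix.mul_apply, Fin.sum_univ_two, h00]
  · simp [Matrix.mul_apply, Fin.sum_univ_two, h00, h10, AdjoinRoot.mk_C, AdjoinRoot.algebraMap_eq]
    ring

/-- The recursion on the pairs of orthogonal polynomials. -/
theorem step {h h' : k[X] →ₗ[k] k} (hh : ∀ g, h' (X * g) = h g) {j : ℕ} {Q R : k[X]}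
    (hQ : IsOrth h j Q) (hR : IsOrth h' j R) (hθ : h (Q * X ^ j) ≠ 0) (hη : h' (R * X ^ j) ≠ 0)
    (hρ : R.coeff 0 ≠ 0) {β : k} (hβ : β ≠ 0) (hr : Reach f (C (R.coeff 0)⁻¹ * R) (C β * Q)) :
    ∃ R' e, IsOrth h' (j + 1) R' ∧ R'.coeff 0 ≠ 0 ∧ IsOrth h (j + 1) (R' + C e * Q) ∧
      (h' (R' * X ^ (j + 1)) ≠ 0 → e ≠ 0) ∧
      (e ≠ 0 → ∃ β', β' ≠ 0 ∧ Reach f (C (R'.coeff 0)⁻¹ * R') (C β' * (R' + C e * Q))) := by
  set c := -h (Q * X ^ j) / h' (R * X ^ j) with hc
  have hc0 : c ≠ 0 := div_ne_zero (neg_ne_zero.2 hθ) hη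
  set R' := X * Q + C c * R with hR'
  have hdX : (X * Q).natDegree = j + 1 := by rw [natDegree_X_mul hQ.1.ne_zero, hQ.2.1]
  have hdeg : (C c * R).degree < (X * Q).degree := by
    rw [degree_C_mul hc0, degree_eq_natDegree hR.1.ne_zero,
      degree_eq_natDegree (monic_X.mul hQ.1).ne_zero, hR.2.1, hdX]
    exact_mod_cast Nat.lt_succ_self j
  have hcoef : R'.coeff 0 = c * R.coeff 0 := by simp [hR']
  have hR'o : IsOrth h' (j + 1) R' := by
    refine ⟨(monic_X.mul hQ.1).add_of_left hdeg, ?_, fun i hi => ?_⟩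
    · rw [hR', natDegree_add_eq_left_of_degree_lt hdeg, hdX]
    · rw [hR', add_mul, mul_assoc, map_add, hh, mul_assoc, ← smul_eq_C_mul, map_smul, smul_eq_mul]
      rcases Nat.lt_succ_iff_lt_or_eq.1 hi with hij | rfl
      · rw [hQ.2.2 i hij, hR.2.2 i hij, mul_zero, add_zero]
      · rw [hc, div_mul_cancel₀ _ hη, add_neg_cancel]
  have hρ' : R'.coeff 0 ≠ 0 := by rw [hcoef]; exact mul_ne_zero hc0 hρ
  set e := -h' (R' * X ^ (j + 1)) / h (Q * X ^ j) with he
  have hhR : ∀ i, h (R' * X ^ i) = h' (R' * X ^ (i + 1)) := fun i => by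
    rw [← hh]; congr 1; ring
  have hQ' : IsOrth h (j + 1) (R' + C e * Q) := by
    have hdeg' : (C e * Q).degree < R'.degree := by
      refine lt_of_le_of_lt (degree_le_natDegree.trans (WithBot.coe_le_coe.2 (natDegree_C_mul_le e Q))) ?_
      rw [degree_eq_natDegree hR'o.1.ne_zero, hR'o.2.1, hQ.2.1]
      exact WithBot.coe_lt_coe.2 (Nat.lt_succ_self j)
    refine ⟨hR'o.1.add_of_left hdeg', ?_, fun i hi => ?_⟩
    · rw [natDegree_add_eq_left_of_degree_lt hdeg', hR'o.2.1]
    · rw [add_mul, map_add, hhR, mul_assoc, ← smul_eq_C_mul, map_smul, smul_eq_mul]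
      rcases Nat.lt_succ_iff_lt_or_eq.1 hi with hij | rfl
      · rw [hR'o.2.2 (i + 1) (by omega), hQ.2.2 i hij, mul_zero, add_zero]
      · rw [he, div_mul_cancel₀ _ hθ, add_neg_cancel]
  refine ⟨R', e, hR'o, hρ', hQ', fun h1 => div_ne_zero (neg_ne_zero.2 h1) hθ, fun he0 =>
    ⟨β / e, div_ne_zero hβ he0, ?_⟩⟩
  have h1 := hr.stepA ((R'.coeff 0)⁻¹ / β)
  have e1 : C (R.coeff 0)⁻¹ * R + C ((R'.coeff 0)⁻¹ / β) * (X * (C β * Q)) =
      C (R'.coeff 0)⁻¹ * R' := by
    conv_rhs => rw [hR', mul_add]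
    rw [show C (R'.coeff 0)⁻¹ * (C c * R) = C (R.coeff 0)⁻¹ * R by
      rw [← mul_assoc, ← C_mul, hcoef]; congr 2; field_simp]
    rw [show C ((R'.coeff 0)⁻¹ / β) * (X * (C β * Q)) = C (R'.coeff 0)⁻¹ * (X * Q) by
      rw [show C ((R'.coeff 0)⁻¹ / β) * (X * (C β * Q)) =
        (C ((R'.coeff 0)⁻¹ / β) * C β) * (X * Q) by ring, ← C_mul, div_mul_cancel₀ _ hβ]]
    ring
  rw [e1] at h1
  have h2 := h1.stepP (R'.coeff 0 * (β / e))
  have e2 : C β * Q + C (R'.coeff 0 * (β / e)) * (C (R'.coeff 0)⁻¹ * R') =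
      C (β / e) * (R' + C e * Q) := by
    have i1 : C (R'.coeff 0 * (β / e)) * C (R'.coeff 0)⁻¹ = C (β / e) := by
      rw [← C_mul]; congr 1; field_simp
    have i2 : C (β / e) * C e = C β := by rw [← C_mul, div_mul_cancel₀ _ he0]
    linear_combination R' * i1 - Q * i2
  rwa [e2] at h2

/-- `divX` as a linear map. -/
noncomputable def divXLinear : k[X] →ₗ[k] k[X] where
  toFun := divX
  map_add' _ _ := divX_add
  map_smul' c g := by
    apply Polynomial.ext
    intro i
    simp [coeff_divX, coeff_smul]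

theorem divXLinear_apply (g : k[X]) : divXLinear g = g.divX := rfl

/-- The functional `g ↦ τ(w g mod f)`, `τ` the top coefficient. -/
noncomputable def topCoeff (hf : f.Monic) : AdjoinRoot f →ₗ[k] k :=
  (Polynomial.lcoeff k (f.natDegree - 1)).comp (AdjoinRoot.modByMonicHom hf)

theorem topCoeff_mk (hf : f.Monic) (g : k[X]) :
    topCoeff hf (AdjoinRoot.mk f g) = (g %ₘ f).coeff (f.natDegree - 1) := by
  simp [topCoeff, Polynomial.lcoeff_apply]

theorem topCoeff_mk_of_lt (hf : f.Monic) (g : k[X]) (hg : g.degree < f.degree) :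
    topCoeff hf (AdjoinRoot.mk f g) = g.coeff (f.natDegree - 1) := by
  rw [topCoeff_mk, (modByMonic_eq_self_iff hf).2 hg]

theorem topCoeff_pow (hf : f.Monic) {m : ℕ} (hm : m < f.natDegree) :
    topCoeff hf (AdjoinRoot.root f ^ m) = if m = f.natDegree - 1 then 1 else 0 := by
  rw [← AdjoinRoot.mk_X, ← map_pow, topCoeff_mk_of_lt hf, coeff_X_pow]
  · simp only [eq_comm]
  · rw [degree_X_pow, degree_eq_natDegree hf.ne_zero]; exact_mod_cast hm

theorem eq_algebraMap_of_topCoeff (hf : f.Monic) (hn : 1 ≤ f.natDegree) {x : AdjoinRoot f}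
    (hx : ∀ i, i + 1 < f.natDegree → topCoeff hf (x * AdjoinRoot.root f ^ i) = 0) :
    x = algebraMap k _ (topCoeff hf (x * AdjoinRoot.root f ^ (f.natDegree - 1))) := by
  obtain ⟨g, rfl⟩ := AdjoinRoot.mk_surjective x
  rw [show AdjoinRoot.mk f g = AdjoinRoot.mk f (g %ₘ f) by
    rw [AdjoinRoot.mk_eq_mk, modByMonic_eq_sub_mul_div, sub_sub_cancel]; exact dvd_mul_right _ _] at hx ⊢
  set p := g %ₘ f
  have hp : p.degree < f.degree := degree_modByMonic_lt g hf
  have hpn : p.natDegree < f.natDegree := by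
    rcases eq_or_ne p 0 with e | e
    · rw [e, natDegree_zero]; omega
    · exact natDegree_lt_natDegree e hp
  have key : ∀ i, p.natDegree + i < f.natDegree →
      topCoeff hf (AdjoinRoot.mk f p * AdjoinRoot.root f ^ i) = (p * X ^ i).coeff (f.natDegree - 1) := by
    intro i hi
    rw [← AdjoinRoot.mk_X, ← map_pow, ← map_mul, topCoeff_mk_of_lt hf]
    refine lt_of_le_of_lt degree_le_natDegree ?_
    rw [degree_eq_natDegree hf.ne_zero]
    exact_mod_cast lt_of_le_of_lt natDegree_mul_le (by rwa [natDegree_X_pow])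
  have hp0 : p.natDegree = 0 := by
    by_contra h0
    have hl := hx (f.natDegree - 1 - p.natDegree) (by omega)
    rw [key _ (by omega), coeff_mul_X_pow', if_pos (by omega)] at hl
    rw [show f.natDegree - 1 - (f.natDegree - 1 - p.natDegree) = p.natDegree by omega] at hl
    have : p = 0 := leadingCoeff_eq_zero.1 hl
    exact h0 (by rw [this, natDegree_zero])
  rw [key _ (by omega), eq_C_of_natDegree_eq_zero hp0, AdjoinRoot.mk_C, coeff_mul_X_pow',
    if_pos le_rfl, Nat.sub_self, coeff_C_zero, AdjoinRoot.algebraMap_eq]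

theorem exists_geom {R : Type*} [CommRing R] [Algebra k R] [Module.Finite k R] (y : R) :
    ∃ (D : k[X]) (E : R[X]), D.coeff 0 = 1 ∧
      E * (1 + Polynomial.C y * X) = D.map (algebraMap k R) := by
  set q := minpoly k (-y)
  have hq : q.Monic := minpoly.monic (Algebra.IsIntegral.isIntegral (-y))
  set m := q.natDegree
  refine ⟨∑ j ∈ range (m + 1), C (q.coeff j) * X ^ (m - j),
    ∑ j ∈ range (m + 1), C (algebraMap k R (q.coeff j)) * X ^ (m - j) *
      ∑ i ∈ range j, (C (-y) * X) ^ i, ?_, ?_⟩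
  · rw [finsetSum_coeff, Finset.sum_eq_single m]
    · simp [m, hq.coeff_natDegree]
    · intro j hj hjm
      have hlt : j < m + 1 := Finset.mem_range.1 hj
      rw [coeff_C_mul_X_pow, if_neg (by omega)]
    · intro hm; exact absurd (Finset.self_mem_range_succ m) hm
  · have h1 : (1 + C y * X : R[X]) = 1 - C (-y) * X := by rw [map_neg, neg_mul, sub_neg_eq_add]
    rw [h1, Finset.sum_mul, Polynomial.map_sum]
    have hg : ∀ (j : ℕ), (∑ i ∈ range j, (C (-y) * X : R[X]) ^ i) * (1 - C (-y) * X) =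
        1 - (C (-y) * X) ^ j := geom_sum_mul_neg _
    simp only [mul_assoc, hg]
    simp only [Polynomial.map_mul, Polynomial.map_pow, map_C, map_X,
      mul_sub, mul_one, Finset.sum_sub_distrib]
    rw [sub_eq_self]
    have h2 : ∀ j ∈ range (m + 1), C (algebraMap k R (q.coeff j)) * (X ^ (m - j) * (C (-y) * X) ^ j) =
        C (algebraMap k R (q.coeff j) * (-y) ^ j) * X ^ m := by
      intro j hj
      have hlt : j < m + 1 := Finset.mem_range.1 hj
      rw [mul_pow, ← map_pow, map_mul]
      calc _ = C (algebraMap k R (q.coeff j)) * C ((-y) ^ j) * (X ^ (m - j) * X ^ j) := by ring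
        _ = _ := by rw [← pow_add, Nat.sub_add_cancel (by omega)]
    rw [Finset.sum_congr rfl h2, ← Finset.sum_mul, ← map_sum]
    have h3 : ∑ j ∈ range (m + 1), algebraMap k R (q.coeff j) * (-y) ^ j = 0 := by
      have := minpoly.aeval k (-y)
      rw [aeval_eq_sum_range] at this
      simpa [Algebra.smul_def] using this
    rw [h3, map_zero, zero_mul]

/-- **All upper unitriangular matrices over `k[X]/(f)`**, for infinite `k`. -/
theorem upp_mem_infinite [Infinite k] (h2 : (2 : k) ≠ 0) (hf : f.Monic) (hn : 1 ≤ f.natDegree)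
    (q : AdjoinRoot f) : upp q ∈ grp k (AdjoinRoot.root f) := by
  classical
  haveI : Module.Finite k (AdjoinRoot f) := hf.finite_adjoinRoot
  set n := f.natDegree with hndef
  set α := AdjoinRoot.root f
  set τ := topCoeff hf
  let hF : AdjoinRoot f → k[X] →ₗ[k] k := fun w =>
    τ.comp ((LinearMap.mulLeft k w).comp (Polynomial.aeval α).toLinearMap)
  let hF' : AdjoinRoot f × k → k[X] →ₗ[k] k := fun v =>
    v.2 • Polynomial.lcoeff k 0 + (hF v.1).comp divXLinear
  have hFm : ∀ w g, hF w g = τ (w * AdjoinRoot.mk f g) := fun w g => by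
    simp [hF, α, AdjoinRoot.aeval_eq]
  have hF'm : ∀ v g, hF' v g = v.2 * g.coeff 0 + τ (v.1 * AdjoinRoot.mk f g.divX) := fun v g => by
    simp [hF', hFm, divXLinear_apply]
  have hhX : ∀ v g, hF' v (X * g) = hF v.1 g := fun v g => by
    rw [hF'm, hFm, coeff_X_mul_zero, mul_zero, zero_add]
    congr 3
    ext i; simp [coeff_divX]
  -- the Hankel matrices, linearly in the parameters
  let M1 : ∀ j : ℕ, AdjoinRoot f × k →ₗ[k] Matrix (Fin j) (Fin j) k := fun j =>
    { toFun := fun v => hankel (hF v.1) j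
      map_add' := fun v v' => by ext a b; simp [hankel, hFm, add_mul, map_add]
      map_smul' := fun c v => by ext a b; simp [hankel, hFm, map_smul] }
  let M2 : ∀ j : ℕ, AdjoinRoot f × k →ₗ[k] Matrix (Fin j) (Fin j) k := fun j =>
    { toFun := fun v => hankel (hF' v) j
      map_add' := fun v v' => by
        ext a b
        show hF' (v + v') _ = hF' v _ + hF' v' _
        simp only [hF'm, Prod.fst_add, Prod.snd_add, add_mul, map_add]
        ring
      map_smul' := fun c v => by
        ext a b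
        show hF' (c • v) _ = c * hF' v _
        simp only [hF'm, Prod.smul_fst, Prod.smul_snd, smul_mul_assoc, map_smul, smul_eq_mul]
        ring }
  let L : AdjoinRoot f × k →ₗ[k] k :=
    { toFun := fun v => hF' v f
      map_add' := fun v v' => by simp [hF'm, add_mul, map_add]; ring
      map_smul' := fun c v => by simp [hF'm, map_smul]; ring }
  let F : Fin (n + 1) ⊕ Fin (n + 1) ⊕ Unit → AdjoinRoot f × k → k := fun i v => match i with
    | Sum.inl j => (M1 j v).det
    | Sum.inr (Sum.inl j) => (M2 j v).det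
    | Sum.inr (Sum.inr _) => L v
  have hpoly : ∀ i, PolyOnLines (F i) := by
    rintro (j | j | ⟨⟩)
    · exact polyOnLines_det (M1 j)
    · exact polyOnLines_det (M2 j)
    · exact polyOnLines_linear L
  have hne : ∀ i, ∃ v, F i v ≠ 0 := by
    rintro (⟨j, hj⟩ | ⟨j, hj⟩ | ⟨⟩)
    · refine ⟨(α ^ (n - j), 0), det_ne_zero_of_anti (j := j) _ (fun m hm => ?_) fun m hm => ?_⟩
      all_goals
        rw [hFm, map_pow, AdjoinRoot.mk_X]
        show τ (α ^ (n - j) * α ^ m) = _
        rw [← pow_add, topCoeff_pow hf (by omega)]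
      · rw [if_neg (by omega)]
      · rw [if_pos (by omega)]
    · rcases Nat.lt_or_ge j 2 with hj2 | hj2
      · refine ⟨(0, 1), det_ne_zero_of_anti (j := j) _ (fun m hm => by omega) fun m hm => ?_⟩
        rw [hF'm]
        obtain rfl : m = 0 := by omega
        simp
      · refine ⟨(α ^ (n - j + 1), 0), det_ne_zero_of_anti (j := j) _ (fun m hm => ?_) fun m hm => ?_⟩
        · rw [hF'm]
          cases m with
          | zero => simp
          | succ m =>
            simp only [zero_mul, zero_add]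
            rw [show (X ^ (m + 1) : k[X]).divX = X ^ m by ext i; simp [coeff_divX, coeff_X_pow],
              map_pow, AdjoinRoot.mk_X]
            show τ (α ^ (n - j + 1) * α ^ m) = 0
            rw [← pow_add, topCoeff_pow hf (by omega), if_neg (by omega)]
        · obtain ⟨m, rfl⟩ : ∃ m', m = m' + 1 := ⟨m - 1, by omega⟩
          rw [hF'm]
          simp only [zero_mul, zero_add]
          rw [show (X ^ (m + 1) : k[X]).divX = X ^ m by ext i; simp [coeff_divX, coeff_X_pow],
            map_pow, AdjoinRoot.mk_X]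
          show τ (α ^ (n - j + 1) * α ^ m) = 1
          rw [← pow_add, topCoeff_pow hf (by omega), if_pos (by omega)]
    · refine ⟨(1, 0), ?_⟩
      show hF' (1, 0) f ≠ 0
      rw [hF'm]
      simp only [zero_mul, zero_add, one_mul]
      have hlt : f.divX.degree < f.degree := degree_divX_lt hf.ne_zero
      rw [show τ = topCoeff hf from rfl, topCoeff_mk_of_lt hf _ hlt, coeff_divX,
        show f.natDegree - 1 + 1 = f.natDegree by omega, hf.coeff_natDegree]
      exact one_ne_zero
  set G : AdjoinRoot f × k → k := fun v => ∏ i, F i v with hG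
  have hGp : PolyOnLines G := polyOnLines_prod univ F fun i _ => hpoly i
  obtain ⟨v₀, hv₀⟩ := exists_prod_ne_zero univ F (fun i _ => hpoly i) (fun i _ => hne i)
  -- the submodule of admissible entries
  let S : Submodule k (AdjoinRoot f) :=
    { carrier := {q | ∀ c : k, upp (c • q) ∈ grp k α}
      zero_mem' := fun c => by rw [smul_zero, upp_zero]; exact one_mem _
      add_mem' := fun {a b} ha hb c => by rw [smul_add, upp_add]; exact mul_mem (ha c) (hb c)
      smul_mem' := fun d a ha c => by rw [smul_smul]; exact ha _ }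
  -- a generic parameter gives an upper triangular element
  have hgood : ∀ v, G v ≠ 0 → ∃ a z, z ≠ 0 ∧ a ^ 2 ∈ S ∧ a * v.1 = algebraMap k _ z := by
    intro v hv
    have hall : ∀ i, F i v ≠ 0 := fun i => Finset.prod_ne_zero_iff.1 hv i (Finset.mem_univ i)
    set h := hF v.1
    set h' := hF' v
    have d1 : ∀ j ≤ n, (hankel h j).det ≠ 0 := fun j hj => hall (Sum.inl ⟨j, by omega⟩)
    have d2 : ∀ j ≤ n, (hankel h' j).det ≠ 0 := fun j hj => hall (Sum.inr (Sum.inl ⟨j, by omega⟩))
    have hfo : IsOrth h n f := ⟨hf, rfl, fun i _ => by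
      rw [show h = hF v.1 from rfl, hFm, map_mul (AdjoinRoot.mk f), AdjoinRoot.mk_self, zero_mul, mul_zero, map_zero]⟩
    have inv : ∀ j < n, ∃ Q R β, IsOrth h j Q ∧ IsOrth h' j R ∧ R.coeff 0 ≠ 0 ∧ β ≠ 0 ∧
        Reach f (C (R.coeff 0)⁻¹ * R) (C β * Q) := by
      intro j
      induction j with
      | zero =>
        intro _
        refine ⟨1, 1, 1, ⟨monic_one, natDegree_one, fun i hi => by omega⟩,
          ⟨monic_one, natDegree_one, fun i hi => by omega⟩, by simp, one_ne_zero, ?_⟩
        simpa using (reach_start f).stepP 1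
      | succ j ih =>
        intro hj
        obtain ⟨Q, R, β, hQ, hR, hρ, hβ, hr⟩ := ih (by omega)
        obtain ⟨R', e, hR', hρ', hQ', he, hr'⟩ := step (fun g => hhX v g) hQ hR
          (ne_zero_of_det hQ (d1 _ (by omega))) (ne_zero_of_det hR (d2 _ (by omega))) hρ hβ hr
        obtain ⟨β', hβ', hr''⟩ := hr' (he (ne_zero_of_det hR' (d2 _ (by omega))))
        exact ⟨_, _, _, hQ', hR', hρ', hβ', hr''⟩
    obtain ⟨Q, R, β, hQ, hR, hρ, hβ, hr⟩ := inv (n - 1) (by omega)
    obtain ⟨R', e, hR', hρ', hQ', -, hr'⟩ := step (fun g => hhX v g) hQ hR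
      (ne_zero_of_det hQ (d1 _ (by omega))) (ne_zero_of_det hR (d2 _ (by omega))) hρ hβ hr
    rw [show n - 1 + 1 = n by omega] at hR' hQ'
    have hQf : R' + C e * Q = f := eq_of_orth d1 hQ' hfo
    have he0 : e ≠ 0 := by
      rintro rfl
      rw [map_zero, zero_mul, add_zero] at hQf
      refine hall (Sum.inr (Sum.inr ())) ?_
      show h' f = 0
      have := hR'.2.2 0 (by omega)
      rwa [hQf, pow_zero, mul_one] at this
    obtain ⟨β', -, g, hg, h00, h10⟩ := hr' he0
    rw [hQf, map_mul, AdjoinRoot.mk_self, mul_zero, mul_zero] at h10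
    refine ⟨g.1 0 0, -(R'.coeff 0)⁻¹ * e * h (Q * X ^ (n - 1)),
      mul_ne_zero (mul_ne_zero (neg_ne_zero.2 (inv_ne_zero hρ')) he0)
        (ne_zero_of_det hQ (d1 _ (by omega))), fun c => ?_, ?_⟩
    · rw [Algebra.smul_def, mul_comm]
      exact upp_conj hg h10 c
    · have hQw : v.1 * AdjoinRoot.mk f Q = algebraMap k _ (h (Q * X ^ (n - 1))) := by
        have hh : ∀ i, τ (v.1 * AdjoinRoot.mk f Q * α ^ i) = h (Q * X ^ i) := fun i => by
          rw [show h = hF v.1 from rfl, hFm, map_mul (AdjoinRoot.mk f), map_pow (AdjoinRoot.mk f), AdjoinRoot.mk_X, ← mul_assoc]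
        rw [← hh]
        exact eq_algebraMap_of_topCoeff hf hn fun i hi => (hh i).trans (hQ.2.2 i (by omega))
      have hRQ : AdjoinRoot.mk f R' = -(algebraMap k _ e * AdjoinRoot.mk f Q) := by
        rw [eq_neg_iff_add_eq_zero, AdjoinRoot.algebraMap_eq, ← AdjoinRoot.mk_C, ← map_mul, ← map_add,
          hQf, AdjoinRoot.mk_self]
      rw [h00, map_mul, hRQ, AdjoinRoot.mk_C, ← AdjoinRoot.algebraMap_eq,
        show algebraMap k (AdjoinRoot f) (-(R'.coeff 0)⁻¹ * e * h (Q * X ^ (n - 1))) =
          -(algebraMap k _ (R'.coeff 0)⁻¹ * algebraMap k _ e) * algebraMap k _ (h (Q * X ^ (n - 1))) by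
            rw [map_mul, map_mul, map_neg]; ring, ← hQw]
      ring
  -- the span is everything
  suffices hS : S = ⊤ by
    have := (hS ▸ Submodule.mem_top : q ∈ S) 1
    rwa [one_smul] at this
  by_contra hS
  obtain ⟨φ, hφ0, hφS⟩ := Submodule.exists_le_ker_of_lt_top S (lt_top_iff_ne_top.2 hS)
  refine hφ0 ?_
  obtain ⟨a₀, z₀, hz₀, ha₀S, ha₀⟩ := hgood v₀ hv₀
  set l := z₀⁻¹ • a₀ with hl
  have hlw : l * v₀.1 = 1 := by
    rw [hl, smul_mul_assoc, ha₀, Algebra.smul_def, ← map_mul, inv_mul_cancel₀ hz₀, map_one]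
  have hlS : l ^ 2 ∈ S := by rw [hl, _root_.smul_pow]; exact S.smul_mem _ ha₀S
  have key : ∀ y, φ (l ^ 2 * y) = 0 := by
    intro y
    obtain ⟨D, E, hD0, hE⟩ := exists_geom (k := k) y
    obtain ⟨Gq, hGq⟩ := hGp v₀ (v₀.1 * y, 0)
    set N := (E ^ 2).natDegree + 2
    set P : k[X] := ∑ i ∈ range N, C (φ (l ^ 2 * (E ^ 2).coeff i)) * X ^ i with hP
    have hPe : ∀ t : k, P.eval t = φ (l ^ 2 * (E.eval (algebraMap k _ t)) ^ 2) := by
      intro t
      rw [← eval_pow, eval_eq_sum_range' (by omega : (E ^ 2).natDegree < N), Finset.mul_sum, map_sum,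
        hP, eval_finsetSum]
      refine Finset.sum_congr rfl fun i _ => ?_
      rw [eval_mul, eval_C, eval_pow, eval_X, ← map_pow (algebraMap k (AdjoinRoot f)),
        ← Algebra.commutes, ← Algebra.smul_def, mul_smul_comm, map_smul, smul_eq_mul, mul_comm]
    have hzero : ∀ t : k, (P * (D * Gq)).eval t = 0 := by
      intro t
      rw [eval_mul, eval_mul]
      by_cases hDt : D.eval t = 0
      · rw [hDt, zero_mul, mul_zero]
      by_cases hGt : Gq.eval t = 0
      · rw [hGt, mul_zero, mul_zero]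
      refine mul_eq_zero_of_left ?_ _
      rw [hGq] at hGt
      obtain ⟨a, z, hz, haS, ha⟩ := hgood _ hGt
      have hEt := congrArg (Polynomial.eval (algebraMap k (AdjoinRoot f) t)) hE
      rw [eval_mul, eval_add, eval_one, eval_mul, eval_C, eval_X, eval_map_algebraMap,
        aeval_algebraMap_apply_eq_algebraMap_eval] at hEt
      have ha' : a * (v₀.1 * (1 + y * algebraMap k _ t)) = algebraMap k _ z := by
        rw [← ha]
        congr 1
        show _ = v₀.1 + t • (v₀.1 * y)
        rw [Algebra.smul_def]; ring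
      have e : z • (l * E.eval (algebraMap k _ t)) = D.eval t • a := by
        calc z • (l * E.eval (algebraMap k _ t))
            = algebraMap k _ z * (l * E.eval (algebraMap k _ t)) := Algebra.smul_def _ _
          _ = a * (l * v₀.1) * (E.eval (algebraMap k _ t) * (1 + y * algebraMap k _ t)) := by
              rw [← ha']; ring
          _ = _ := by rw [hlw, mul_one, hEt, Algebra.smul_def, mul_comm]
      rw [hPe, ← mul_pow]
      have : l * E.eval (algebraMap k _ t) = (z⁻¹ * D.eval t) • a := by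
        rw [← smul_smul, ← e, smul_smul, inv_mul_cancel₀ hz, one_smul]
      rw [this, _root_.smul_pow, map_smul, hφS haS, smul_zero]
    have hP0 : P = 0 := by
      have h0 : P * (D * Gq) = 0 := Polynomial.funext fun t => by rw [hzero, eval_zero]
      rcases mul_eq_zero.1 h0 with h | h
      · exact h
      rcases mul_eq_zero.1 h with h | h
      · rw [h, coeff_zero] at hD0; exact absurd hD0 zero_ne_one
      · have h0' := (hGq 0).symm
        rw [h, eval_zero, zero_smul, add_zero] at h0'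
        exact absurd h0' hv₀
    have hcoef : ∀ i < N, φ (l ^ 2 * (E ^ 2).coeff i) = 0 := by
      intro i hi
      have := congrArg (fun p : k[X] => p.coeff i) hP0
      simpa [hP, finsetSum_coeff, coeff_C_mul_X_pow, Finset.mem_range.2 hi, hi] using this
    have hE0 : E.coeff 0 = 1 := by
      have := congrArg (fun p : (AdjoinRoot f)[X] => p.coeff 0) hE
      simpa [mul_coeff_zero, hD0] using this
    have hE1 : E.coeff 1 + y = algebraMap k _ (D.coeff 1) := by
      have := congrArg (fun p : (AdjoinRoot f)[X] => p.coeff 1) hE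
      rw [mul_add, mul_one, ← mul_assoc] at this
      simpa [hE0] using this
    have h1 := hcoef 1 (by omega)
    have e2 : (E ^ 2).coeff 1 = (2 : k) • E.coeff 1 := by
      rw [sq, coeff_mul, Finset.Nat.sum_antidiagonal_eq_sum_range_succ_mk, Finset.sum_range_succ,
        Finset.sum_range_one, hE0, Algebra.smul_def, map_ofNat]
      simp [hE0]; ring
    rw [e2, mul_smul_comm, map_smul, smul_eq_zero, eq_sub_of_add_eq hE1, mul_sub, map_sub,
      ← Algebra.commutes, ← Algebra.smul_def, map_smul, hφS hlS, smul_zero, zero_sub,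
      neg_eq_zero] at h1
    exact h1.resolve_left h2
  refine LinearMap.ext fun x => ?_
  have := key (v₀.1 ^ 2 * x)
  rwa [← mul_assoc, ← mul_pow, hlw, one_pow, one_mul] at this

end Cfsg.Agent.RootSubgroups.Dk
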