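import Mathlib
import Cfsg.Agent.Lib.RootSubgroups.DicksonField
import Cfsg.Agent.Lib.RootSubgroups.DicksonInfinite

/-!
`⟨u(k), v(k lam)⟩ = SL₂(k(lam))`.
-/

set_option autoImplicit false
open Polynomial

namespace Cfsg.Agent.RootSubgroups.Dk

variable {k : Type*} [Field k]

theorem two_ne_zero_of_ringChar (hk2 : ringChar k ≠ 2) : (2 : k) ≠ 0 := Ring.two_ne_zero hk2

theorem five_le_card [Finite k] (hk2 : ringChar k ≠ 2) (hk3 : Nat.card k ≠ 3) : 5 ≤ Nat.card k := by
  haveI : Fintype k := Fintype.ofFinite k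
  obtain ⟨n, hp, hn⟩ := FiniteField.card k (ringChar k)
  rw [Nat.card_eq_fintype_card] at hk3 ⊢
  rw [hn] at hk3 ⊢
  have h3 : 3 ≤ ringChar k := by
    have := hp.two_le
    omega
  have hle : ringChar k ≤ ringChar k ^ (n : ℕ) := Nat.le_self_pow n.ne_zero _
  have hodd : Odd (ringChar k ^ (n : ℕ)) := (hp.eq_two_or_odd'.resolve_left hk2).pow
  obtain ⟨m, hm⟩ := hodd
  omega

/-- `L(k, k[X]/(f), X) = SL₂` for `f` irreducible other than `X`. -/
theorem grp_adjoinRoot_eq_top (hk2 : ringChar k ≠ 2) (hk3 : Nat.card k ≠ 3) {f : k[X]}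
    [Fact (Irreducible f)] (hf : f.Monic) (h0 : AdjoinRoot.root f ≠ 0) :
    grp k (AdjoinRoot.root f) = ⊤ := by
  have h2 := two_ne_zero_of_ringChar hk2
  rcases finite_or_infinite k with hk | hk
  · haveI : Module.Finite k (AdjoinRoot f) := hf.finite_adjoinRoot
    haveI : Finite (AdjoinRoot f) := Module.finite_of_finite k
    exact grp_eq_top_finite h2 (five_le_card hk2 hk3) h0 AdjoinRoot.adjoinRoot_eq_top
  · exact eq_top_of_upp h0 (upp_mem_infinite h2 hf (Fact.out : Irreducible f).natDegree_pos)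

end Cfsg.Agent.RootSubgroups.Dk
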