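import Mathlib
import Cfsg.Agent.Lib.RootSubgroups.DicksonAlg

/-!
`grp k x` over `k[X]/(X^n)`, `x` the class of `X`, contains every matrix congruent to `1` modulo `x`.
-/

set_option autoImplicit false

namespace Cfsg.Agent.RootSubgroups.Dk

variable {k : Type*} [Field k] {R : Type*} [CommRing R] [Algebra k R] (x : R)

local notation "SLR" => Matrix.SpecialLinearGroup (Fin 2) R
local notation "MR" => Matrix (Fin 2) (Fin 2) R

/-- The constant matrix with entries from `k`. -/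
abbrev cst (R : Type*) [CommRing R] [Algebra k R] (Y : Matrix (Fin 2) (Fin 2) k) :
    Matrix (Fin 2) (Fin 2) R := (Algebra.ofId k R).mapMatrix Y

/-- Some element of the group is `1 + x^i Y` modulo `x^(i+1)`. -/
def Lay (i : ℕ) (Y : Matrix (Fin 2) (Fin 2) k) : Prop :=
  ∃ h ∈ grp k x, ∃ Z : MR, (h : SLR).1 = 1 + x ^ i • (cst R Y + x • Z)

theorem inv_form {i : ℕ} {A : MR} {g : SLR} (hg : g.1 = 1 + x ^ i • A) :
    ∃ W : MR, (g⁻¹).1 = 1 + x ^ i • W ∧ W = -A - x ^ i • (W * A) := by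
  have h : (g⁻¹).1 * g.1 = 1 := by
    rw [← Matrix.SpecialLinearGroup.coe_mul, inv_mul_cancel]; rfl
  rw [hg, mul_add, mul_one, mul_smul_comm] at h
  refine ⟨-((g⁻¹).1 * A), ?_, ?_⟩
  · rw [smul_neg]; exact eq_add_neg_of_add_eq h
  · have h' : (g⁻¹).1 = 1 - x ^ i • ((g⁻¹).1 * A) := eq_sub_of_add_eq h
    conv_lhs => rw [h']
    simp only [sub_mul, one_mul, smul_mul_assoc, neg_mul, smul_neg]
    abel

theorem lay_add {i : ℕ} (hi : 1 ≤ i) {Y Y' : Matrix (Fin 2) (Fin 2) k} (h : Lay x i Y)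
    (h' : Lay x i Y') : Lay x i (Y + Y') := by
  obtain ⟨g, hg, Z, e⟩ := h
  obtain ⟨g', hg', Z', e'⟩ := h'
  refine ⟨g * g', mul_mem hg hg', Z + Z' + x ^ (i - 1) • ((cst R Y + x • Z) * (cst R Y' + x • Z')), ?_⟩
  obtain ⟨j, rfl⟩ : ∃ j, i = j + 1 := ⟨i - 1, by omega⟩
  rw [Matrix.SpecialLinearGroup.coe_mul, e, e', cst, cst, cst, map_add, Nat.add_sub_cancel]
  generalize (Algebra.ofId k R).mapMatrix Y = A
  generalize (Algebra.ofId k R).mapMatrix Y' = A'
  simp only [mul_add, add_mul, one_mul, mul_one, smul_mul_assoc, mul_smul_comm, smul_smul, smul_add]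
  module

theorem lay_comm {i : ℕ} (hi : 1 ≤ i) {Y Y' : Matrix (Fin 2) (Fin 2) k} (h : Lay x i Y)
    (h' : Lay x 1 Y') : Lay x (i + 1) (Y * Y' - Y' * Y) := by
  obtain ⟨g, hg, Z, e⟩ := h
  obtain ⟨g', hg', Z', e'⟩ := h'
  rw [pow_one] at e'
  obtain ⟨W, hW, -⟩ := inv_form x e
  obtain ⟨W', hW', -⟩ := inv_form (i := 1) x (A := cst R Y' + x • Z') (by rw [pow_one]; exact e')
  rw [pow_one] at hW'
  obtain ⟨A, hA⟩ : ∃ A, A = cst R Y := ⟨_, rfl⟩
  obtain ⟨A', hA'⟩ : ∃ A', A' = cst R Y' := ⟨_, rfl⟩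
  rw [← hA] at e; rw [← hA'] at e'
  have hdiff : g.1 * g'.1 - g'.1 * g.1 = x ^ (i + 1) •
      ((A * A' - A' * A) + x • (Z * A' + A * Z' - Z' * A - A' * Z + x • (Z * Z' - Z' * Z))) := by
    rw [e, e']
    simp only [mul_add, add_mul, one_mul, mul_one, smul_mul_assoc, mul_smul_comm, smul_smul, smul_add,
      smul_sub]
    module
  refine ⟨g * g' * g⁻¹ * g'⁻¹, mul_mem (mul_mem (mul_mem hg hg') (inv_mem hg)) (inv_mem hg'), ?_⟩
  generalize hQ : Z * A' + A * Z' - Z' * A - A' * Z + x • (Z * Z' - Z' * Z) = Q at hdiff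
  obtain ⟨j, rfl⟩ : ∃ j, i = j + 1 := ⟨i - 1, by omega⟩
  obtain ⟨K, hK⟩ : ∃ K : MR, (g⁻¹).1 * (g'⁻¹).1 = 1 + x • K := by
    refine ⟨x ^ j • W + W' + x ^ (j + 1) • (W * W'), ?_⟩
    rw [hW, hW']
    simp only [mul_add, add_mul, one_mul, mul_one, smul_mul_assoc, mul_smul_comm, smul_smul, smul_add]
    module
  have hc : (g * g' * g⁻¹ * g'⁻¹).1 = 1 + (g.1 * g'.1 - g'.1 * g.1) * ((g⁻¹).1 * (g'⁻¹).1) := by
    have h2 : g'.1 * g.1 * ((g⁻¹).1 * (g'⁻¹).1) = 1 := by
      simp only [← Matrix.SpecialLinearGroup.coe_mul]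
      rw [show g' * g * (g⁻¹ * g'⁻¹) = 1 by group]
      rfl
    rw [sub_mul, h2, add_sub_cancel]
    simp only [← Matrix.SpecialLinearGroup.coe_mul, mul_assoc]
  rw [hc, hdiff, cst, map_sub, map_mul, map_mul]
  rw [show (Algebra.ofId k R).mapMatrix Y = A from hA.symm,
    show (Algebra.ofId k R).mapMatrix Y' = A' from hA'.symm]
  refine ⟨Q + (A * A' - A' * A + x • Q) * K, ?_⟩
  rw [hK]
  simp only [mul_add, add_mul, one_mul, mul_one, sub_mul, mul_sub, smul_mul_assoc, mul_smul_comm,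
    smul_smul, smul_add, smul_sub]
  module

/-- `E = e₁₂` -/
abbrev eM (c : k) : Matrix (Fin 2) (Fin 2) k := !![0, c; 0, 0]
/-- `F = e₂₁` -/
abbrev fM (c : k) : Matrix (Fin 2) (Fin 2) k := !![0, 0; c, 0]
/-- `D = e₁₁ - e₂₂` -/
abbrev dM (c : k) : Matrix (Fin 2) (Fin 2) k := !![c, 0; 0, -c]

theorem lay_one_f (c : k) : Lay x 1 (fM c) := by
  refine ⟨low (algebraMap k R c * x), low_mem_grp x c, 0, ?_⟩
  ext a b
  fin_cases a <;> fin_cases b <;> simp [fM, cst, Algebra.ofId_apply, mul_comm]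

theorem lay_one_conj (a c : k) : Lay x 1 !![a * c, -(a ^ 2 * c); c, -(a * c)] := by
  refine ⟨upp (algebraMap k R a) * low (algebraMap k R c * x) * (upp (algebraMap k R a))⁻¹,
    mul_mem (mul_mem (upp_mem_grp x a) (low_mem_grp x c)) (inv_mem (upp_mem_grp x a)), 0, ?_⟩
  rw [upp_inv, ← map_neg]
  ext i j
  fin_cases i <;> fin_cases j <;>
    simp [cst, Algebra.ofId_apply, -algebraMap_smul, Matrix.mul_apply, Fin.sum_univ_two] <;> ring

theorem lay_one_e (h2 : (2 : k) ≠ 0) (c : k) : Lay x 1 (eM c) := by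
  have h := lay_add x le_rfl (lay_add x le_rfl (lay_one_conj x 1 (-c / 2))
    (lay_one_conj x (-1) (-c / 2))) (lay_one_f x c)
  convert h using 1
  ext a b
  fin_cases a <;> fin_cases b <;> simp [eM, fM] <;> field_simp <;> ring

theorem lay_basis (h2 : (2 : k) ≠ 0) {i : ℕ} (hi : 1 ≤ i) :
    ∀ c : k, Lay x i (eM c) ∧ Lay x i (fM c) ∧ Lay x i (dM c) := by
  induction i, hi using Nat.le_induction with
  | base =>
    have hE : ∀ c : k, Lay x 1 (eM c) := lay_one_e x h2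
    intro c
    refine ⟨hE c, lay_one_f x c, ?_⟩
    have h := lay_add x le_rfl (lay_add x le_rfl (lay_one_conj x 1 c) (lay_one_f x (-c))) (hE c)
    convert h using 1
    ext a b
    fin_cases a <;> fin_cases b <;> simp [eM, fM, dM]
  | succ i hi ih =>
    have hb1 : Lay x 1 (eM (1 : k)) := lay_one_e x h2 1
    intro c
    refine ⟨?_, ?_, ?_⟩
    · have h := lay_comm x hi (ih (c / 2)).2.2 hb1
      convert h using 1
      ext a b
      fin_cases a <;> fin_cases b <;>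
        simp [eM, dM, Matrix.mul_apply, Fin.sum_univ_two] <;> field_simp <;> ring
    · have h := lay_comm x hi (ih (-c / 2)).2.2 (lay_one_f x 1)
      convert h using 1
      ext a b
      fin_cases a <;> fin_cases b <;>
        simp [fM, dM, Matrix.mul_apply, Fin.sum_univ_two] <;> field_simp <;> ring
    · have h := lay_comm x hi (ih c).1 (lay_one_f x 1)
      convert h using 1
      ext a b
      fin_cases a <;> fin_cases b <;> simp [eM, fM, dM, Matrix.mul_apply, Fin.sum_univ_two]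

theorem lay_sl (h2 : (2 : k) ≠ 0) {i : ℕ} (hi : 1 ≤ i) (a b c : k) :
    Lay x i !![a, b; c, -a] := by
  have h := lay_add x hi (lay_add x hi (lay_basis x h2 hi a).2.2 (lay_basis x h2 hi b).1)
    (lay_basis x h2 hi c).2.1
  convert h using 1
  ext p q
  fin_cases p <;> fin_cases q <;> simp [eM, fM, dM]

/-- The congruence subgroup modulo `x` lies in the group, `x` nilpotent and every element being a
constant plus a multiple of `x`. -/
theorem congr_mem (h2 : (2 : k) ≠ 0) {n : ℕ} (hn : x ^ n = 0)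
    (hdec : ∀ r : R, ∃ (c : k) (s : R), r = algebraMap k R c + x * s)
    {g : SLR} {i : ℕ} (hi : 1 ≤ i) {W : MR} (hg : g.1 = 1 + x ^ i • W) : g ∈ grp k x := by
  induction hd : n - i using Nat.strong_induction_on generalizing i g W with
  | _ d ih =>
  by_cases hxi : x ^ i = 0
  · rw [show g = 1 from Subtype.ext (by rw [hg, hxi, zero_smul, add_zero]; rfl)]
    exact one_mem _
  have hin : i < n := by
    by_contra h
    exact hxi (pow_eq_zero_of_le (by omega) hn)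
  choose C S hCS using hdec
  have htr : C (W 0 0) + C (W 1 1) = 0 := by
    by_contra hne
    have hd' := g.2
    rw [Matrix.det_fin_two, hg] at hd'
    simp at hd'
    have h' : x ^ i * algebraMap k R (C (W 0 0) + C (W 1 1)) =
        x ^ (i + 1) * -(S (W 0 0) + S (W 1 1)) +
          x ^ i * x ^ i * (W 0 1 * W 1 0 - W 0 0 * W 1 1) := by
      have e0 := hCS (W 0 0)
      have e1 := hCS (W 1 1)
      rw [map_add]
      linear_combination hd' - x ^ i * e0 - x ^ i * e1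
    obtain ⟨u, hu⟩ := (isUnit_iff_ne_zero.2 hne).map (algebraMap k R)
    rw [← hu] at h'
    obtain ⟨j, rfl⟩ : ∃ j, i = j + 1 := ⟨i - 1, by omega⟩
    set r := (-(S (W 0 0) + S (W 1 1)) + x ^ j * (W 0 1 * W 1 0 - W 0 0 * W 1 1)) * ((u⁻¹ : Rˣ) : R)
    have h'' : x ^ (j + 1) * (1 - x * r) = 0 := by
      have hu' : (u : R) * ((u⁻¹ : Rˣ) : R) = 1 := u.mul_inv
      linear_combination ((u⁻¹ : Rˣ) : R) * h' - x ^ (j + 1) * hu'
    have hnil : IsNilpotent (x * r) := ⟨n, by rw [mul_pow, hn, zero_mul]⟩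
    exact hxi (hnil.isUnit_one_sub.mul_left_eq_zero.1 h'')
  obtain ⟨h, hh, Z, hZ⟩ := lay_sl x h2 hi (C (W 0 0)) (C (W 0 1)) (C (W 1 0))
  obtain ⟨W', hW', hW''⟩ := inv_form x hZ
  have hm : (h⁻¹ * g).1 = 1 + x ^ i • (W' + W + x ^ i • (W' * W)) := by
    rw [Matrix.SpecialLinearGroup.coe_mul, hW', hg]
    simp only [mul_add, add_mul, one_mul, mul_one, smul_mul_assoc, mul_smul_comm, smul_smul, smul_add]
    module
  have hdiv : ∃ V : MR, W' + W + x ^ i • (W' * W) = x • V := by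
    have hW : ∃ V : MR, W = cst R !![C (W 0 0), C (W 0 1); C (W 1 0), -C (W 0 0)] + x • V := by
      refine ⟨!![S (W 0 0), S (W 0 1); S (W 1 0), S (W 1 1)], ?_⟩
      ext p q
      fin_cases p <;> fin_cases q <;> simp [cst, Algebra.ofId_apply]
      · exact hCS (W 0 0)
      · exact hCS (W 0 1)
      · exact hCS (W 1 0)
      · rw [← map_neg, neg_eq_of_add_eq_zero_right htr]; exact hCS (W 1 1)
    obtain ⟨V, hV⟩ := hW
    obtain ⟨j, rfl⟩ : ∃ j, i = j + 1 := ⟨i - 1, by omega⟩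
    refine ⟨-Z - x ^ j • (W' * (cst R !![C (W 0 0), C (W 0 1); C (W 1 0), -C (W 0 0)] + x • Z)) + V +
      x ^ j • (W' * W), ?_⟩
    generalize cst R !![C (W 0 0), C (W 0 1); C (W 1 0), -C (W 0 0)] = A at hV hW'' ⊢
    generalize hP : W' * W = P
    generalize hP' : W' * (A + x • Z) = P' at hW'' ⊢
    rw [hV, hW'']
    simp only [smul_add, smul_sub, smul_smul, smul_neg, neg_add, pow_succ']
    module
  obtain ⟨V, hV⟩ := hdiv
  rw [hV, smul_smul, ← pow_succ] at hm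
  have := ih (n - (i + 1)) (by omega) (by omega) hm rfl
  simpa using mul_mem hh this

end Cfsg.Agent.RootSubgroups.Dk
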