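import Mathlib
import Cfsg.Agent.Lib.RootSubgroups.DicksonCor
import Cfsg.Agent.H40.BlockEmbed
import Cfsg.Agent.Lib.Components.Basic

/-!
Kernels of reduction maps on the groups `grp k lam` over finite rings: `p`-elements commuting with
`upp 1`.
-/

set_option autoImplicit false
open Polynomial

namespace Cfsg.Agent.RootSubgroups.Dk

variable {p : ℕ} [Fact p.Prime]

/-- In a finite group a normal subgroup of order divisible by `p` has an element of order `p`
centralised by a given `p`-element. -/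
theorem exists_commute_mem {G : Type*} [Group G] [Finite G] {N : Subgroup G} [N.Normal]
    (hN : p ∣ Nat.card N) {u : G} (hu : u ^ p = 1) :
    ∃ n ∈ N, orderOf n = p ∧ n * u = u * n := by
  have hP : IsPGroup p (Subgroup.zpowers u) :=
    IsPGroup.of_card_dvd_pow (n := 1) (by rw [Nat.card_zpowers, pow_one]; exact orderOf_dvd_of_pow_eq_one hu)
  letI act : MulAction (Subgroup.zpowers u) N :=
    { smul := fun g n => ⟨(g : G) * (n : G) * (g : G)⁻¹, ‹N.Normal›.conj_mem _ n.2 _⟩
      one_smul := fun n => by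
        apply Subtype.ext
        show ((1 : Subgroup.zpowers u) : G) * (n : G) * ((1 : Subgroup.zpowers u) : G)⁻¹ = _
        simp
      mul_smul := fun g h n => by
        apply Subtype.ext
        show ((g * h : Subgroup.zpowers u) : G) * (n : G) * ((g * h : Subgroup.zpowers u) : G)⁻¹ =
          (g : G) * ((h : G) * (n : G) * (h : G)⁻¹) * (g : G)⁻¹
        rw [Subgroup.coe_mul, mul_inv_rev]; group }
  let C : Subgroup G := N ⊓ Subgroup.centralizer {u}
  have e : Nat.card (MulAction.fixedPoints (Subgroup.zpowers u) N) = Nat.card C := by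
    refine Nat.card_congr
      { toFun := fun n => ⟨((n : N) : G), (n : N).2, Subgroup.mem_centralizer_singleton_iff.2 ?_⟩
        invFun := fun c => ⟨⟨(c : G), c.2.1⟩, fun g => ?_⟩
        left_inv := fun _ => rfl
        right_inv := fun _ => rfl }
    · have h : u * ((n : N) : G) * u⁻¹ = ((n : N) : G) :=
        congrArg Subtype.val (n.2 ⟨u, Subgroup.mem_zpowers u⟩)
      exact (mul_inv_eq_iff_eq_mul.1 h).symm
    · obtain ⟨g, i, rfl⟩ := g
      apply Subtype.ext
      show u ^ i * (c : G) * (u ^ i)⁻¹ = c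
      have hc : Commute (c : G) u := Subgroup.mem_centralizer_singleton_iff.1 c.2.2
      rw [← (hc.zpow_right i).eq, mul_inv_cancel_right]
  have hC : p ∣ Nat.card C := by
    rw [← e]
    exact Nat.modEq_zero_iff_dvd.mp
      ((hP.card_modEq_card_fixedPoints (α := N)).symm.trans hN.modEq_zero_nat)
  obtain ⟨n, hn⟩ := exists_prime_orderOf_dvd_card' (G := C) p hC
  exact ⟨n, n.2.1, by rw [Subgroup.orderOf_coe, hn], Subgroup.mem_centralizer_singleton_iff.1 n.2.2⟩

variable {R : Type*} [CommRing R]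

theorem upp_char [CharP R p] (x : R) : upp x ^ p = 1 := by
  rw [upp_pow, nsmul_eq_mul, CharP.cast_eq_zero, zero_mul, upp_zero]

/-- An element commuting with `upp 1`. -/
theorem entries_of_commute {g : Matrix.SpecialLinearGroup (Fin 2) R}
    (h : g * upp 1 = upp 1 * g) : g.1 1 0 = 0 ∧ g.1 1 1 = g.1 0 0 ∧ g.1 0 0 ^ 2 = 1 := by
  have e00 := congrArg (fun m : Matrix.SpecialLinearGroup (Fin 2) R => m.1 0 0) h
  have e01 := congrArg (fun m : Matrix.SpecialLinearGroup (Fin 2) R => m.1 0 1) h
  simp [Matrix.mul_apply, Fin.sum_univ_two] at e00 e01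
  have h11 : g.1 1 1 = g.1 0 0 := by linear_combination -e01
  refine ⟨e00, h11, ?_⟩
  have hd := g.2
  rw [Matrix.det_fin_two, e00, h11, mul_zero, sub_zero] at hd
  rw [sq, hd]

theorem pow_entries {g : Matrix.SpecialLinearGroup (Fin 2) R} (h10 : g.1 1 0 = 0)
    (h11 : g.1 1 1 = g.1 0 0) (n : ℕ) :
    (g ^ n).1 1 0 = 0 ∧ (g ^ n).1 0 0 = g.1 0 0 ^ n ∧ (g ^ n).1 1 1 = g.1 0 0 ^ n ∧
      (g ^ n).1 0 1 * g.1 0 0 = (n : R) * g.1 0 0 ^ n * g.1 0 1 := by
  induction n with
  | zero => simp
  | succ n ih =>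
    obtain ⟨h1, h2, h3, h4⟩ := ih
    rw [pow_succ]
    generalize g ^ n = m at h1 h2 h3 h4
    simp [pow_succ, Matrix.mul_apply, Fin.sum_univ_two, h10, h11, h1, h2, h3]
    linear_combination g.1 0 0 * h4

/-- A `p`-element commuting with `upp 1` is upper unitriangular. -/
theorem eq_upp_of_commute [CharP R p] (hodd : Odd p) {g : Matrix.SpecialLinearGroup (Fin 2) R}
    (hg : g ^ p = 1) (h : g * upp 1 = upp 1 * g) : g = upp (g.1 0 1) := by
  obtain ⟨h10, h11, h00⟩ := entries_of_commute h
  have hp := (pow_entries h10 h11 p).2.1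
  rw [hg] at hp
  obtain ⟨m, rfl⟩ := hodd
  have : g.1 0 0 = 1 := by
    rw [pow_succ, pow_mul, h00, one_pow, one_mul] at hp
    simpa using hp.symm
  exact ext2 (by simp [this]) (by simp) (by simp [h10]) (by simp [h11, this])

/-- An element congruent to `1` modulo nilpotents has `p`-power order. -/
theorem pow_eq_one_of_nilpotent [IsNoetherianRing R] [CharP R p]
    {g : Matrix.SpecialLinearGroup (Fin 2) R}
    (h : ∀ i j, IsNilpotent ((g.1 - 1) i j)) : ∃ e : ℕ, g ^ (p ^ e) = 1 := by
  haveI : Nontrivial R := CharP.nontrivial_of_char_ne_one (Fact.out : p.Prime).ne_one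
  set Y := g.1 - 1
  obtain ⟨N, hN⟩ := IsNoetherianRing.isNilpotent_nilradical R
  have hmem : ∀ n : ℕ, ∀ i j, (Y ^ n) i j ∈ nilradical R ^ n := by
    intro n
    induction n with
    | zero => intro i j; simp
    | succ n ih =>
      intro i j
      rw [pow_succ Y, pow_succ (nilradical R), Matrix.mul_apply]
      exact Submodule.sum_mem _ fun l _ => Ideal.mul_mem_mul (ih i l) (mem_nilradical.2 (h l j))
  have hpow : Y ^ N = 0 := by
    ext i j
    have := hmem N i j
    rw [hN] at this
    simpa using this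
  refine ⟨N, Subtype.ext ?_⟩
  rw [Matrix.SpecialLinearGroup.coe_pow, show g.1 = 1 + Y by simp [Y], add_pow_char_pow_of_commute _ _ (Commute.one_left Y),
    one_pow, pow_eq_zero_of_le (Nat.lt_pow_self (Fact.out : p.Prime).one_lt).le hpow, add_zero]
  rfl

/-- If `p` divides the order of the kernel of a reduction, the kernel contains some `upp b`. -/
theorem exists_upp_ker [Finite R] [CharP R p] (hodd : Odd p) {S : Type*} [CommRing S] (π : R →+* S)
    {L : Subgroup (Matrix.SpecialLinearGroup (Fin 2) R)} (h1 : upp 1 ∈ L)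
    (hp : p ∣ Nat.card ((Matrix.SpecialLinearGroup.map π).comp L.subtype).ker) :
    ∃ b : R, b ≠ 0 ∧ π b = 0 ∧ upp b ∈ L := by
  haveI : Nontrivial R := CharP.nontrivial_of_char_ne_one (Fact.out : p.Prime).ne_one
  obtain ⟨n, hn, hord, hc⟩ := exists_commute_mem (u := (⟨upp 1, h1⟩ : L)) hp
    (Subtype.ext (upp_char _))
  have hc' : (n : Matrix.SpecialLinearGroup (Fin 2) R) * upp (1 : R) = upp (1 : R) * (n : Matrix.SpecialLinearGroup (Fin 2) R) := congrArg Subtype.val hc
  have hnp : (n : Matrix.SpecialLinearGroup (Fin 2) R) ^ p = 1 := by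
    rw [← hord, ← Subgroup.orderOf_coe, pow_orderOf_eq_one]
  have he := eq_upp_of_commute hodd hnp hc'
  refine ⟨_, fun hb => ?_, ?_, he ▸ n.2⟩
  · have : n = 1 := Subtype.ext (by rw [he, hb, upp_zero]; rfl)
    rw [this, orderOf_one] at hord
    exact (Fact.out : p.Prime).ne_one hord.symm
  · have h := MonoidHom.mem_ker.1 hn
    have := congrArg (fun m : Matrix.SpecialLinearGroup (Fin 2) S => m.1 0 1) h
    simpa using this

theorem exists_sq_ne_one {K : Type*} [Field K] (h : 5 ≤ Nat.card K) :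
    ∃ a : K, a ≠ 0 ∧ a ^ 2 ≠ 1 := by
  classical
  haveI : Finite K := Nat.finite_of_card_ne_zero (by omega)
  haveI : Fintype K := Fintype.ofFinite K
  rw [Nat.card_eq_fintype_card] at h
  have hlt : ({0, 1, -1} : Finset K).card < (Finset.univ : Finset K).card :=
    lt_of_le_of_lt Finset.card_le_three (by rw [Finset.card_univ]; omega)
  obtain ⟨a, -, ha⟩ := Finset.exists_mem_notMem_of_card_lt_card hlt
  simp only [Finset.mem_insert, Finset.mem_singleton, not_or] at ha
  exact ⟨a, ha.1, fun h2 => (sq_eq_one_iff.1 h2).elim ha.2.1 ha.2.2⟩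

/-- A normal subgroup of order prime to `p` of a preimage of `SL₂(K)` maps into the centre. -/
theorem map_le_center {K : Type*} [Field K] [Finite K] [CharP K p] (h5 : 5 ≤ Nat.card K)
    {G : Type*} [Group G] [Finite G] (φ : G →* Matrix.SpecialLinearGroup (Fin 2) K)
    (hφ : Function.Surjective φ) (N : Subgroup G) [N.Normal] (hp : ¬ p ∣ Nat.card N) :
    N.map φ ≤ Subgroup.center _ := by
  haveI : (N.map φ).Normal := Subgroup.Normal.map ‹_› φ hφ
  refine (Components.normal_eq_top_or_le_center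
    (H40.isQuasisimple_SL (ι := Fin 2) (F := K) fun _ => exists_sq_ne_one h5) (N.map φ)).resolve_left
    fun htop => hp ?_
  have hdvd : Nat.card (N.map φ) ∣ Nat.card N := Subgroup.card_map_dvd _ _
  rw [htop, Subgroup.card_top] at hdvd
  refine Dvd.dvd.trans ?_ hdvd
  have h1 : orderOf (upp (1 : K)) = p :=
    orderOf_eq_prime (upp_char (1 : K)) fun e => one_ne_zero (α := K)
      (upp_injective (e.trans upp_zero.symm))
  exact h1 ▸ orderOf_dvd_natCard _

end Cfsg.Agent.RootSubgroups.Dk
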