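import Mathlib
import Cfsg.Agent.Lib.RootSubgroups.DicksonP
import Cfsg.Agent.Lib.RootSubgroups.DicksonLayers

/-!
Reduction maps between quotients of `k[X]`.
-/

set_option autoImplicit false
open Polynomial

namespace Cfsg.Agent.RootSubgroups.Dk

variable {k : Type*} [Field k]

/-- The reduction map between quotients of `k[X]`. -/
noncomputable def red (f m : k[X]) (h : m ∣ f) : AdjoinRoot f →ₐ[k] AdjoinRoot m :=
  AdjoinRoot.liftAlgHom f (Algebra.ofId k _) (AdjoinRoot.root m) (by
    show aeval (AdjoinRoot.root m) f = 0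
    rw [AdjoinRoot.aeval_eq, AdjoinRoot.mk_eq_zero]; exact h)

theorem red_root (f m : k[X]) (h : m ∣ f) :
    red f m h (AdjoinRoot.root f) = AdjoinRoot.root m := AdjoinRoot.liftAlgHom_root _ _ _ _

theorem red_mk (f m : k[X]) (h : m ∣ f) (q : k[X]) :
    red f m h (AdjoinRoot.mk f q) = AdjoinRoot.mk m q := by
  rw [← AdjoinRoot.aeval_eq, ← aeval_algHom_apply, red_root, AdjoinRoot.aeval_eq]

theorem exists_dvd_pow {f q : k[X]} (hf : f ≠ 0)
    (h : ∀ m : k[X], m.Monic → Irreducible m → m ∣ f → m ∣ q) : ∃ e : ℕ, f ∣ q ^ e := by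
  classical
  refine ⟨Multiset.card (UniqueFactorizationMonoid.normalizedFactors f), ?_⟩
  refine (UniqueFactorizationMonoid.prod_normalizedFactors hf).symm.dvd.trans ?_
  have := Multiset.prod_dvd_prod_of_dvd (S := UniqueFactorizationMonoid.normalizedFactors f) id
    (fun _ => q) fun a ha => h a ?_ (UniqueFactorizationMonoid.irreducible_of_normalized_factor a ha)
      (UniqueFactorizationMonoid.dvd_of_mem_normalizedFactors ha)
  · simpa using this
  · rw [← UniqueFactorizationMonoid.normalize_normalized_factor a ha]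
    exact Polynomial.monic_normalize (UniqueFactorizationMonoid.irreducible_of_normalized_factor a ha).ne_zero

theorem root_ne_zero {m : k[X]} (hm : m.Monic) (hmi : Irreducible m) (h0 : m.coeff 0 ≠ 0) :
    AdjoinRoot.root m ≠ 0 := by
  intro e
  rw [← AdjoinRoot.mk_X, AdjoinRoot.mk_eq_zero] at e
  have hmX : m = X := by
    refine eq_of_monic_of_associated hm monic_X (hmi.associated_of_dvd irreducible_X e)
  exact h0 (by rw [hmX, coeff_X_zero])

theorem coeff_zero_ne_of_dvd {f m : k[X]} (h : m ∣ f) (h0 : f.coeff 0 ≠ 0) : m.coeff 0 ≠ 0 := by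
  obtain ⟨c, rfl⟩ := h
  rw [mul_coeff_zero] at h0
  exact left_ne_zero_of_mul h0

theorem not_isCoprime_of_dvd {f q m : k[X]} (hm : Irreducible m) (h1 : m ∣ q) (h2 : m ∣ f) :
    ¬ IsCoprime q f := fun h => hm.not_isUnit (h.isUnit_of_dvd' h1 h2)

theorem map_entry_sub_one {R S : Type*} [CommRing R] [CommRing S] (π : R →+* S)
    (g : Matrix.SpecialLinearGroup (Fin 2) R) (i j : Fin 2) :
    π ((g.1 - 1) i j) = ((Matrix.SpecialLinearGroup.map π g).1 - 1) i j := by
  fin_cases i <;> fin_cases j <;> simp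

theorem inv_mul_eq_div' {K : Type*} [Field K] {x lam : K} : (x * lam)⁻¹ = lam⁻¹ / x := by
  rw [mul_inv, div_eq_mul_inv, mul_comm]

theorem neg_inv_mul_cancel {K : Type*} [Field K] {lam : K} (h : lam ≠ 0) (y : K) :
    -(y * lam)⁻¹ * lam = -y⁻¹ := by
  rw [mul_inv, neg_mul, inv_mul_cancel_right₀ h]

theorem braid_conj {K : Type*} [Field K] {x : K} (hx : x ≠ 0) :
    upp x * low (-x⁻¹) * upp x * upp 1 = low (-(x ^ 2)⁻¹) * (upp x * low (-x⁻¹) * upp x) := by
  apply ext2 <;> simp [Matrix.mul_apply, Fin.sum_univ_two] <;> field_simp <;> simp <;> ring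

/-- An additive map with `θ x θ (l / x) = θ l`, `θ l` a unit, is multiplicative. -/
theorem mul_of_hua {K : Type*} [Field K] {R : Type*} [CommRing R] (θ : K → R) {l : K} (hl0 : l ≠ 0)
    {α : R} (hβ : θ l * α = 1) (h2R : IsUnit (2 : R))
    (hθadd : ∀ x x', θ (x + x') = θ x + θ x') (hθ1 : θ 1 = 1)
    (hinv : ∀ x, x ≠ 0 → θ x * θ (l / x) = θ l) : ∀ a b, θ (a * b) = θ a * θ b := by
  have hθ0 : θ 0 = 0 := by
    have h := hθadd 0 0
    rw [add_zero] at h
    linear_combination -h
  have hsub : ∀ x x', θ (x - x') = θ x - θ x' := fun x x' => by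
    rw [eq_sub_iff_add_eq, ← hθadd, sub_add_cancel]
  have hua : ∀ a b : K, θ (a ^ 2 * b / l) * θ l = θ a ^ 2 * θ b := by
    intro a b
    by_cases ha : a = 0
    · simp [ha, hθ0]
    by_cases hb : b = 0
    · simp [hb, hθ0]
    by_cases hab : a * b = l
    · rw [show a ^ 2 * b / l = a by rw [← hab]; field_simp, show b = l / a by rw [← hab]; field_simp]
      linear_combination (-θ a) * hinv a ha
    set c := l / b - a with hc
    have hc0 : c ≠ 0 := fun h => hab (by rw [hc] at h; field_simp at h; linear_combination -h)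
    set e := l / a + l / c with he
    have he0 : e ≠ 0 := by
      rw [he, div_add_div _ _ ha hc0, show l * c + a * l = l * (l / b) by rw [hc]; ring]
      exact div_ne_zero (mul_ne_zero hl0 (div_ne_zero hl0 hb)) (mul_ne_zero ha hc0)
    have hid : a ^ 2 * b / l = a - l / e := by
      have h3 : l - b * a ≠ 0 := fun h => hab (by linear_combination -h)
      have e1 : l / a + l / c = l ^ 2 / (a * (l - b * a)) := by
        rw [hc, eq_div_iff (mul_ne_zero ha h3)]
        field_simp
        ring
      rw [he, e1]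
      field_simp
      ring
    have A1 := hinv a ha
    have B1 := hinv b hb
    have C1 := hinv c hc0
    have E1 := hinv e he0
    have C2 : θ c = θ (l / b) - θ a := hsub _ _
    have E2 : θ e = θ (l / a) + θ (l / c) := hθadd _ _
    have s1 : θ e * θ a * θ c = θ l * θ (l / b) := by
      rw [E2]
      linear_combination θ c * A1 + θ a * C1 + θ l * C2
    have s2 : θ (l / b) * θ (l / e) = θ a * θ c := by
      have hs : θ l * (θ (l / b) * θ (l / e)) = θ l * (θ a * θ c) := by
        linear_combination (-θ (l / e)) * s1 + θ a * θ c * E1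
      linear_combination α * hs - (θ (l / b) * θ (l / e) - θ a * θ c) * hβ
    rw [hid, hsub]
    linear_combination θ (l / e) * B1 - θ b * s2 - θ a * θ b * C2 - θ a * B1
  have hl' : ∀ y, θ y * θ l = θ (y * l) := fun y => by
    have := hua 1 (y * l)
    rw [hθ1, one_pow, one_pow, one_mul, one_mul, mul_div_cancel_right₀ _ hl0] at this
    exact this
  have hsq : ∀ a y, θ (a ^ 2 * y) = θ a ^ 2 * θ y := by
    intro a y
    have h := hua a (y * l)
    rw [← mul_assoc, mul_div_cancel_right₀ _ hl0, ← hl'] at h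
    linear_combination α * h - (θ (a ^ 2 * y) - θ a ^ 2 * θ y) * hβ
  intro a b
  have h1 := hsq (a + b) 1
  have h2 := hsq a 1
  have h3 := hsq b 1
  rw [hθ1, mul_one, mul_one] at h1 h2 h3
  rw [add_sq, hθadd, hθadd, hθadd, show (2 : K) * a * b = a * b + a * b by ring, hθadd] at h1
  refine h2R.mul_left_cancel ?_
  linear_combination h1 - h2 - h3

end Cfsg.Agent.RootSubgroups.Dk
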