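import Mathlib
import Cfsg.Agent.Lib.RootSubgroups.DicksonRedBase

/-!
Over a finite field, a reducible modulus with invertible root: a non-trivial upper unitriangular
element with entry not coprime to the modulus.
-/

set_option autoImplicit false
open Polynomial
open scoped commutatorElement

namespace Cfsg.Agent.RootSubgroups.Dk

variable {k : Type*} [Field k] [Finite k] (hk2 : ringChar k ≠ 2) (hk3 : Nat.card k ≠ 3)
include hk2 hk3

/-- **Reducible modulus with invertible root.** -/
theorem exists_upp_noncoprime {f : k[X]} (hf : f.Monic) (hn : 1 ≤ f.natDegree)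
    (h0 : f.coeff 0 ≠ 0) (hred : ¬ Irreducible f) :
    ∃ q : k[X], upp (AdjoinRoot.mk f q) ∈ grp k (AdjoinRoot.root f) ∧ ¬ f ∣ q ∧ ¬ IsCoprime q f := by
  classical
  set p := ringChar k with hp
  haveI : CharP k p := ringChar.charP k
  haveI : Fact p.Prime := ⟨(CharP.char_is_prime k p)⟩
  have hodd : Odd p := (Fact.out : p.Prime).eq_two_or_odd'.resolve_left hk2
  obtain ⟨m, hm, hmi, hmf⟩ := exists_monic_irreducible_factor f
    (fun h => by have := natDegree_eq_zero_of_isUnit h; omega)
  haveI : Fact (Irreducible m) := ⟨hmi⟩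
  set R := AdjoinRoot f
  set K := AdjoinRoot m
  haveI : Nontrivial R := AdjoinRoot.nontrivial f (fun e => by
    rw [natDegree_eq_of_degree_eq_some (n := 0) e] at hn; omega)
  haveI : CharP R p := charP_of_injective_algebraMap (algebraMap k R).injective p
  haveI : CharP K p := charP_of_injective_algebraMap (algebraMap k K).injective p
  haveI : Module.Finite k R := hf.finite_adjoinRoot
  haveI : Finite R := Module.finite_of_finite k
  haveI : Module.Finite k K := hm.finite_adjoinRoot
  haveI : Finite K := Module.finite_of_finite k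
  have hcard : ∀ (K' : Type _) [Field K'] [Algebra k K'] [Finite K'], 5 ≤ Nat.card K' :=
    fun K' _ _ _ => le_trans (five_le_card hk2 hk3)
      (Nat.card_le_card_of_injective _ (algebraMap k K').injective)
  set α := AdjoinRoot.root f
  set lam := AdjoinRoot.root m
  set π := red f m hmf
  have hlam : lam ≠ 0 := root_ne_zero hm hmi (coeff_zero_ne_of_dvd hmf h0)
  have hπc : ∀ c : k, π (algebraMap k R c) = algebraMap k K c := π.commutes
  have hπα : π α = lam := red_root _ _ _
  set L := grp k α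
  set φ := (Matrix.SpecialLinearGroup.map (π : R →+* K)).comp L.subtype with hφdef
  have hφ : Function.Surjective φ := by
    intro g
    have : g ∈ L.map (Matrix.SpecialLinearGroup.map (π : R →+* K)) := by
      rw [map_grp, hπα, grp_adjoinRoot_eq_top hk2 hk3 hm hlam]; exact Subgroup.mem_top g
    obtain ⟨h, hh, e⟩ := this
    exact ⟨⟨h, hh⟩, e⟩
  by_cases hker : p ∣ Nat.card φ.ker
  · obtain ⟨b, hb0, hbπ, hbL⟩ := exists_upp_ker hodd (π : R →+* K)
      (by simpa using upp_mem_grp α (1 : k)) hker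
    obtain ⟨q, rfl⟩ := AdjoinRoot.mk_surjective b
    refine ⟨q, hbL, fun h => hb0 (AdjoinRoot.mk_eq_zero.2 h), not_isCoprime_of_dvd hmi ?_ hmf⟩
    rw [← AdjoinRoot.mk_eq_zero, ← red_mk f m hmf]; exact hbπ
  exfalso
  -- the kernel is central
  have hpN : ∀ n ∈ φ.ker, ∀ e : ℕ, n ^ (p ^ e) = 1 → n = 1 := by
    intro n hn e he
    rw [← orderOf_eq_one_iff]
    have h1 : orderOf n ∣ p ^ e := orderOf_dvd_of_pow_eq_one he
    have h2 : orderOf n ∣ Nat.card φ.ker := Subgroup.orderOf_dvd_natCard _ hn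
    exact Nat.eq_one_of_dvd_coprimes
      (((Fact.out : p.Prime).coprime_iff_not_dvd.2 hker).pow_left e) h1 h2
  have hcen : ∀ n ∈ φ.ker, ∀ g : L, n * g = g * n := by
    intro n hn g
    rw [← commutatorElement_eq_one_iff_mul_comm]
    have hcN : ⁅n, g⁆ ∈ φ.ker := by
      rw [MonoidHom.mem_ker, map_commutatorElement, MonoidHom.mem_ker.1 hn, commutatorElement_one_left]
    suffices h : ∃ e : ℕ, (⁅n, g⁆ : L).1 ^ (p ^ e) = 1 by
      obtain ⟨e, he⟩ := h
      exact hpN _ hcN e (Subtype.ext he)
    refine pow_eq_one_of_nilpotent fun i j => ?_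
    obtain ⟨q, hq⟩ := AdjoinRoot.mk_surjective ((((⁅n, g⁆ : L).1).1 - 1) i j)
    obtain ⟨e, he⟩ := exists_dvd_pow (q := q) hf.ne_zero fun m' hm' hmi' hmf' => by
      haveI : Fact (Irreducible m') := ⟨hmi'⟩
      haveI : CharP (AdjoinRoot m') p :=
        charP_of_injective_algebraMap (algebraMap k (AdjoinRoot m')).injective p
      haveI : Module.Finite k (AdjoinRoot m') := hm'.finite_adjoinRoot
      haveI : Finite (AdjoinRoot m') := Module.finite_of_finite k
      set π' := red f m' hmf'
      set φ' := (Matrix.SpecialLinearGroup.map (π' : R →+* AdjoinRoot m')).comp L.subtype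
      have hφ' : Function.Surjective φ' := by
        intro g
        have : g ∈ L.map (Matrix.SpecialLinearGroup.map (π' : R →+* AdjoinRoot m')) := by
          rw [map_grp, red_root, grp_adjoinRoot_eq_top hk2 hk3 hm'
            (root_ne_zero hm' hmi' (coeff_zero_ne_of_dvd hmf' h0))]
          exact Subgroup.mem_top g
        obtain ⟨h, hh, e⟩ := this
        exact ⟨⟨h, hh⟩, e⟩
      have hc : φ' n ∈ Subgroup.center _ :=
        map_le_center (hcard _) φ' hφ' φ.ker hker ⟨n, hn, rfl⟩
      have h1 : φ' ⁅n, g⁆ = 1 := by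
        rw [map_commutatorElement, commutatorElement_eq_one_iff_mul_comm]
        exact (Subgroup.mem_center_iff.1 hc _).symm
      have h2 := congrArg (fun x : Matrix.SpecialLinearGroup (Fin 2) (AdjoinRoot m') => (x.1 - 1) i j) h1
      rw [← AdjoinRoot.mk_eq_zero, ← red_mk f m' hmf', hq]
      simp only [φ', MonoidHom.comp_apply, Subgroup.coe_subtype, Matrix.SpecialLinearGroup.coe_one, sub_self, Matrix.zero_apply] at h2
      exact (map_entry_sub_one _ _ i j).trans h2
    exact ⟨e, by rw [← hq, ← map_pow, AdjoinRoot.mk_eq_zero]; exact he⟩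
  -- lifts of the upper unitriangular elements
  have hu1 : upp (1 : R) ∈ L := by simpa using upp_mem_grp α (1 : k)
  have huniq0 : ∀ y : R, π y = 0 → upp y ∈ L → y = 0 := by
    intro y hy hyL
    have hk : (⟨upp y, hyL⟩ : L) ∈ φ.ker := by
      rw [MonoidHom.mem_ker]
      show Matrix.SpecialLinearGroup.map (π : R →+* K) (upp y) = 1
      rw [map_upp]
      show upp (π y) = 1
      rw [hy, upp_zero]
    have := hpN _ hk 1 (Subtype.ext (by rw [pow_one]; exact upp_char y))
    exact upp_injective ((congrArg Subtype.val this).trans upp_zero.symm)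
  have hlift : ∀ x : K, ∃ y : R, π y = x ∧ upp y ∈ L := by
    intro x
    obtain ⟨g, hg⟩ := hφ (upp x)
    set u : L := ⟨upp 1, hu1⟩
    have hφu : φ u = upp 1 := by
      show Matrix.SpecialLinearGroup.map (π : R →+* K) (upp 1) = upp 1
      rw [map_upp]; simp
    have hzN : ⁅g, u⁆ ∈ φ.ker := by
      rw [MonoidHom.mem_ker, map_commutatorElement, hg, hφu, commutatorElement_eq_one_iff_mul_comm,
        ← upp_add, ← upp_add, add_comm]
    have hup : u ^ p = 1 := Subtype.ext (upp_char _)
    have hzp : ⁅g, u⁆ ^ p = 1 := by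
      have h : (⁅g, u⁆ * u) ^ p = ⁅g, u⁆ ^ p * u ^ p := Commute.mul_pow (hcen _ hzN u) p
      rw [show ⁅g, u⁆ * u = g * u * g⁻¹ by rw [commutatorElement_def]; group, conj_pow, hup] at h
      simpa using h.symm
    have hcomm := commutatorElement_eq_one_iff_mul_comm.1 (hpN _ hzN 1 (by rw [pow_one]; exact hzp))
    obtain ⟨h10, h11, h00⟩ := entries_of_commute (congrArg Subtype.val hcomm :
      (g : Matrix.SpecialLinearGroup (Fin 2) R) * upp (1 : R) = upp (1 : R) * (g : Matrix.SpecialLinearGroup (Fin 2) R))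
    obtain ⟨e10, e00, e11, e01⟩ := pow_entries h10 h11 (p + 1)
    have hpe : g.1.1 0 0 ^ (p + 1) = 1 := by
      obtain ⟨t, ht⟩ := hodd.add_odd odd_one
      rw [ht, ← two_mul, pow_mul, h00, one_pow]
    rw [hpe] at e00 e11 e01
    have e : (g : Matrix.SpecialLinearGroup (Fin 2) R) ^ (p + 1) = upp (g.1.1 0 0 * g.1.1 0 1) := by
      apply ext2
      · simpa using e00
      · have : (((g : Matrix.SpecialLinearGroup (Fin 2) R) ^ (p + 1)).1 0 1) * (g.1.1 0 0 ^ 2) =
            g.1.1 0 0 * g.1.1 0 1 := by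
          rw [sq, ← mul_assoc, e01, Nat.cast_succ, CharP.cast_eq_zero, zero_add, one_mul, one_mul,
            mul_comm]
        rw [h00, mul_one] at this
        simpa using this
      · simpa using e10
      · simpa using e11
    refine ⟨g.1.1 0 0 * g.1.1 0 1, ?_, e ▸ L.pow_mem g.2 _⟩
    have g00 := congrArg (fun z : Matrix.SpecialLinearGroup (Fin 2) K => z.1 0 0) hg
    have g01 := congrArg (fun z : Matrix.SpecialLinearGroup (Fin 2) K => z.1 0 1) hg
    simp [φ] at g00 g01
    rw [map_mul, g00, g01, one_mul]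
  choose θ hθπ hθL using hlift
  have huniq : ∀ x y, π y = x → upp y ∈ L → θ x = y := fun x y h1 h2 => sub_eq_zero.1
    (huniq0 _ (by rw [map_sub, hθπ, h1, sub_self])
      (by rw [sub_eq_add_neg, upp_add, ← upp_inv]; exact mul_mem (hθL x) (inv_mem h2)))
  have hθadd : ∀ x x', θ (x + x') = θ x + θ x' := fun x x' =>
    huniq _ _ (by rw [map_add, hθπ, hθπ]) (by rw [upp_add]; exact mul_mem (hθL x) (hθL x'))
  have hθc : ∀ c : k, θ (algebraMap k K c) = algebraMap k R c := fun c =>
    huniq _ _ (hπc c) (upp_mem_grp α c)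
  have hθ0 : θ 0 = 0 := by simpa using hθc 0
  have hθ1 : θ 1 = 1 := by simpa using hθc 1
  have hθneg : ∀ x, θ (-x) = -θ x := fun x =>
    eq_neg_of_add_eq_zero_left (by rw [← hθadd, neg_add_cancel, hθ0])
  -- the braid relation
  obtain ⟨q₀, hq₀⟩ := AdjoinRoot.mk_surjective (algebraMap k R 0)
  have hαu : IsUnit α := by
    have h : AdjoinRoot.mk f (X * f.divX + C (f.coeff 0)) = 0 := by
      rw [X_mul_divX_add, AdjoinRoot.mk_self]
    rw [map_add, map_mul, AdjoinRoot.mk_X, AdjoinRoot.mk_C] at h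
    refine isUnit_of_mul_isUnit_left (y := AdjoinRoot.mk f f.divX) ?_
    rw [eq_neg_of_add_eq_zero_left h]
    exact ((isUnit_iff_ne_zero.2 h0).map _).neg
  obtain ⟨αi, hαi⟩ := isUnit_iff_exists_inv'.1 hαu
  have hlowL : ∀ x, low (θ x * α) ∈ L := fun x => low_mem_of_upp α αi hαi (hθL x)
  have hbraid : ∀ x : K, x ≠ 0 → θ x * θ ((x * lam)⁻¹) * α = 1 := by
    intro x hx
    set Y := θ (-(x * lam)⁻¹) with hY
    let E : L := ⟨upp (θ x) * low (Y * α) * upp (θ x), mul_mem (mul_mem (hθL x) (hlowL _)) (hθL x)⟩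
    let u : L := ⟨upp 1, hu1⟩
    let B : L := ⟨low (θ (-((x ^ 2 * lam)⁻¹)) * α), hlowL _⟩
    have hφ' : ∀ (a : R) (h : upp a ∈ L), φ ⟨upp a, h⟩ = upp (π a) := fun a h => map_upp _ a
    have hEA : φ (E * u * E⁻¹) = φ B := by
      have e1 : φ E = upp x * low (-x⁻¹) * upp x := by
        show Matrix.SpecialLinearGroup.map (π : R →+* K) (upp (θ x) * low (Y * α) * upp (θ x)) = _
        rw [map_mul, map_mul, map_upp, map_low]
        show upp (π (θ x)) * low (π (Y * α)) * upp (π (θ x)) = _
        rw [map_mul, hY, hθπ, hθπ, hπα]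
        rw [neg_inv_mul_cancel hlam x]
      have e2 : φ B = low (-(x ^ 2)⁻¹) := by
        show Matrix.SpecialLinearGroup.map (π : R →+* K) (low (θ (-((x ^ 2 * lam)⁻¹)) * α)) = _
        rw [map_low]
        show low (π (θ (-((x ^ 2 * lam)⁻¹)) * α)) = _
        rw [map_mul, hθπ, hπα]
        rw [neg_inv_mul_cancel hlam (x ^ 2)]
      have e3 : φ u = upp 1 := by rw [hφ', map_one]
      rw [map_mul, map_mul, map_inv, e1, e2, e3, mul_inv_eq_iff_eq_mul]
      exact braid_conj hx
    set z := E * u * E⁻¹ * B⁻¹ with hz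
    have hzN : z ∈ φ.ker := by rw [MonoidHom.mem_ker, hz, map_mul, hEA, map_inv, mul_inv_cancel]
    have hBp : B ^ p = 1 := Subtype.ext (by
      show low (_ : R) ^ p = (1 : Matrix.SpecialLinearGroup (Fin 2) R)
      rw [← inv_inj, ← inv_pow, low_inv, inv_one]
      have h := congrArg (swap α αi hαi) (upp_char (p := p) (θ (-((x ^ 2 * lam)⁻¹))))
      rwa [map_pow, map_one, swap_upp] at h)
    have hz1 : z = 1 := by
      refine hpN z hzN 1 ?_
      rw [pow_one]
      have h : (z * B) ^ p = z ^ p * B ^ p := Commute.mul_pow (hcen _ hzN B) p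
      rw [show z * B = E * u * E⁻¹ by rw [hz]; group, conj_pow, hBp,
        show u ^ p = 1 from Subtype.ext (upp_char _)] at h
      simpa using h.symm
    have hEu : E * u = B * E := by
      rw [hz, mul_inv_eq_one, mul_inv_eq_iff_eq_mul] at hz1
      exact hz1
    have h01 := congrArg (fun g : L => g.1.1 0 1) hEu
    simp [E, u, B, Matrix.mul_apply, Fin.sum_univ_two] at h01
    rw [hY, hθneg] at h01
    linear_combination -h01
  set l := lam⁻¹ with hl
  have hβ : θ l * α = 1 := by simpa [hl, hθ1] using hbraid 1 one_ne_zero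
  have hinv : ∀ x, x ≠ 0 → θ x * θ (l / x) = θ l := by
    intro x hx
    have h := hbraid x hx
    rw [inv_mul_eq_div'] at h
    linear_combination θ l * h - θ x * θ (l / x) * hβ
  have h2R : IsUnit (2 : R) := by
    have := (isUnit_iff_ne_zero.2 (two_ne_zero_of_ringChar hk2)).map (algebraMap k R)
    rwa [map_ofNat] at this
  have hmul := mul_of_hua θ (inv_ne_zero hlam) hβ h2R hθadd hθ1 hinv
  have hθlam : θ lam = α := by
    have h : θ lam * θ l = 1 := by rw [← hmul, hl, mul_inv_cancel₀ hlam, hθ1]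
    linear_combination α * h - θ lam * hβ
  let Θ : K →ₐ[k] R :=
    { toFun := θ, map_one' := hθ1, map_mul' := hmul, map_zero' := hθ0, map_add' := hθadd,
      commutes' := hθc }
  have hzero : AdjoinRoot.mk f m = 0 := by
    rw [← AdjoinRoot.aeval_eq, show AdjoinRoot.root f = Θ lam from hθlam.symm, aeval_algHom_apply,
      AdjoinRoot.aeval_eq, AdjoinRoot.mk_self, map_zero]
  exact hred (eq_of_monic_of_associated hf hm
    (associated_of_dvd_dvd (AdjoinRoot.mk_eq_zero.1 hzero) hmf) ▸ hmi)

end Cfsg.Agent.RootSubgroups.Dk
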