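import Mathlib
import Cfsg.Agent.Lib.RootSubgroups.DicksonRedBase

/-!
Over a finite field, a modulus divisible by `X`: a non-trivial upper unitriangular element with
entry not coprime to the modulus.
-/

set_option autoImplicit false
open Polynomial
open scoped commutatorElement

namespace Cfsg.Agent.RootSubgroups.Dk

variable {k : Type*} [Field k] [Finite k] (hk2 : ringChar k ≠ 2) (hk3 : Nat.card k ≠ 3)
include hk2 hk3

/-- **Modulus divisible by `X`.** -/
theorem exists_upp_dvd_X {f : k[X]} (hf : f.Monic) (h0 : X ∣ f) (hfX : f ≠ X) :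
    ∃ q : k[X], upp (AdjoinRoot.mk (X ^ 2 * f) q) ∈ grp k (AdjoinRoot.root (X ^ 2 * f)) ∧
      ¬ f ∣ q ∧ ¬ IsCoprime q f := by
  classical
  have h2 := two_ne_zero_of_ringChar hk2
  set p := ringChar k with hp
  haveI : CharP k p := ringChar.charP k
  haveI : Fact p.Prime := ⟨(CharP.char_is_prime k p)⟩
  have hodd : Odd p := (Fact.out : p.Prime).eq_two_or_odd'.resolve_left hk2
  obtain ⟨f₁, hf₁, hX₁⟩ := exists_eq_pow_rootMultiplicity_mul_and_not_dvd f hf.ne_zero 0
  rw [map_zero, sub_zero] at hf₁ hX₁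
  set j := rootMultiplicity 0 f
  have hj : 1 ≤ j := by
    by_contra hj
    rw [Nat.eq_zero_of_not_pos (by omega : ¬ 0 < j), pow_zero, one_mul] at hf₁
    exact hX₁ (hf₁ ▸ h0)
  have hm1 : f₁.Monic := (monic_X_pow j).of_mul_monic_left (hf₁ ▸ hf)
  set F := X ^ 2 * f
  have hF : F.Monic := (monic_X_pow 2).mul hf
  haveI : Module.Finite k (AdjoinRoot F) := hF.finite_adjoinRoot
  haveI : Finite (AdjoinRoot F) := Module.finite_of_finite k
  haveI : Nontrivial (AdjoinRoot F) := AdjoinRoot.nontrivial F (fun e => by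
    have h1 := natDegree_eq_of_degree_eq_some (n := 0) e
    rw [(monic_X_pow 2).natDegree_mul hf, natDegree_X_pow] at h1
    omega)
  haveI : CharP (AdjoinRoot F) p :=
    charP_of_injective_algebraMap (algebraMap k (AdjoinRoot F)).injective p
  haveI : IsNoetherianRing (AdjoinRoot F) := isNoetherian_of_finite _ _
  have hnil : ∀ n : ℕ, F = X ^ n → ∀ q : k[X], X ∣ q → IsNilpotent (AdjoinRoot.mk F q) := by
    intro n hn q hq
    exact ⟨n, by rw [← map_pow, AdjoinRoot.mk_eq_zero, hn]; exact pow_dvd_pow_of_dvd hq n⟩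
  by_cases hf1 : f₁.natDegree = 0
  · rw [hm1.natDegree_eq_zero.1 hf1, mul_one] at hf₁
    have hj2 : 2 ≤ j := by
      by_contra hj2
      exact hfX (by rw [hf₁, show j = 1 by omega, pow_one])
    have hFn : F = X ^ (2 + j) := by rw [pow_add, ← hf₁]
    refine ⟨X, ?_, ?_, not_isCoprime_of_dvd irreducible_X dvd_rfl h0⟩
    · rw [AdjoinRoot.mk_X]
      refine congr_mem (AdjoinRoot.root F) h2 (n := 2 + j) ?_ (fun r => ?_) (i := 1) le_rfl
        (W := !![0, 1; 0, 0]) ?_
      · rw [← AdjoinRoot.mk_X, ← map_pow, ← hFn, AdjoinRoot.mk_self]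
      · obtain ⟨q, rfl⟩ := AdjoinRoot.mk_surjective r
        refine ⟨q.coeff 0, AdjoinRoot.mk F q.divX, ?_⟩
        conv_lhs => rw [← X_mul_divX_add q]
        rw [map_add, map_mul, AdjoinRoot.mk_X, AdjoinRoot.mk_C, AdjoinRoot.algebraMap_eq, add_comm]
      · ext a b
        fin_cases a <;> fin_cases b <;> simp
    · rw [hf₁]
      intro h
      have := natDegree_le_of_dvd h X_ne_zero
      rw [natDegree_X_pow, natDegree_X] at this
      omega
  obtain ⟨m, hm, hmi, hmf⟩ := exists_monic_irreducible_factor f₁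
    (fun h => hf1 (natDegree_eq_zero_of_isUnit h))
  haveI : Fact (Irreducible m) := ⟨hmi⟩
  haveI : CharP (AdjoinRoot m) p := charP_of_injective_algebraMap (algebraMap k _).injective p
  haveI : Module.Finite k (AdjoinRoot m) := hm.finite_adjoinRoot
  haveI : Finite (AdjoinRoot m) := Module.finite_of_finite k
  set G : k[X] := X ^ (2 + j) with hG
  have hFG : F = G * f₁ := by rw [hG, pow_add, mul_assoc, ← hf₁]
  have hGF : G ∣ F := Dvd.intro _ hFG.symm
  have hmF : m ∣ F := hFG ▸ hmf.mul_left G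
  set L := grp k (AdjoinRoot.root F)
  set π := red F G hGF
  set φ := (Matrix.SpecialLinearGroup.map (π : AdjoinRoot F →+* AdjoinRoot G)).comp L.subtype
  by_cases hker : p ∣ Nat.card φ.ker
  · obtain ⟨b, hb0, hbπ, hbL⟩ := exists_upp_ker hodd (π : AdjoinRoot F →+* AdjoinRoot G)
      (by simpa using upp_mem_grp (AdjoinRoot.root F) (1 : k)) hker
    obtain ⟨q, rfl⟩ := AdjoinRoot.mk_surjective b
    have hGq : G ∣ q := by rw [← AdjoinRoot.mk_eq_zero, ← red_mk F G hGF]; exact hbπ
    refine ⟨q, hbL, fun hfq => hb0 (AdjoinRoot.mk_eq_zero.2 (hFG ▸ ?_)),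
      not_isCoprime_of_dvd irreducible_X ((dvd_pow_self X (by omega)).trans hGq) h0⟩
    exact ((irreducible_X.coprime_iff_not_dvd.2 hX₁).pow_left).mul_dvd hGq
      ((Dvd.intro_left _ hf₁.symm).trans hfq)
  exfalso
  have hm0 : AdjoinRoot.root m ≠ 0 := by
    refine root_ne_zero hm hmi fun h => ?_
    exact hX₁ ((X_dvd_iff.2 h).trans hmf)
  set π₁ := red F m hmF
  set φ₁ := (Matrix.SpecialLinearGroup.map (π₁ : AdjoinRoot F →+* AdjoinRoot m)).comp L.subtype
  have hφ₁ : Function.Surjective φ₁ := by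
    intro g
    have : g ∈ L.map (Matrix.SpecialLinearGroup.map (π₁ : AdjoinRoot F →+* AdjoinRoot m)) := by
      rw [map_grp, red_root, grp_adjoinRoot_eq_top hk2 hk3 hm hm0]; exact Subgroup.mem_top g
    obtain ⟨h, hh, e⟩ := this
    exact ⟨⟨h, hh⟩, e⟩
  have hcard : 5 ≤ Nat.card (AdjoinRoot m) := le_trans (five_le_card hk2 hk3)
    (Nat.card_le_card_of_injective _ (algebraMap k (AdjoinRoot m)).injective)
  have hcen := map_le_center hcard φ₁ hφ₁ φ.ker hker
  -- the quotient modulo `X^(2+j)` is a `p`-group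
  haveI : Module.Finite k (AdjoinRoot G) := (monic_X_pow (2 + j)).finite_adjoinRoot
  haveI : Nontrivial (AdjoinRoot G) := AdjoinRoot.nontrivial G (fun e => by
    have := natDegree_eq_of_degree_eq_some (n := 0) e
    rw [natDegree_X_pow] at this; omega)
  haveI : CharP (AdjoinRoot G) p :=
    charP_of_injective_algebraMap (algebraMap k (AdjoinRoot G)).injective p
  haveI : Finite (AdjoinRoot G) := Module.finite_of_finite k
  haveI : IsNoetherianRing (AdjoinRoot G) := isNoetherian_of_finite _ _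
  have hpgrp : ∀ g ∈ grp k (AdjoinRoot.root G), ∃ e : ℕ, g ^ (p ^ e) = 1 := by
    intro g hg
    have hXG : X ∣ G := dvd_pow_self X (by omega)
    set π0 := red G X hXG
    obtain ⟨y, hy⟩ : ∃ y, Matrix.SpecialLinearGroup.map (π0 : AdjoinRoot G →+* AdjoinRoot (X : k[X])) g = upp y := by
      refine grp_induction (k := k) (p := fun g => ∃ y, Matrix.SpecialLinearGroup.map
        (π0 : AdjoinRoot G →+* AdjoinRoot (X : k[X])) g = upp y) ⟨0, by rw [map_one, upp_zero]⟩ ?_ ?_ hg
      · rintro g - ⟨y, hy⟩ c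
        exact ⟨y + π0 (algebraMap k _ c), by rw [map_mul, hy, map_upp, upp_add]; rfl⟩
      · rintro g - ⟨y, hy⟩ c
        refine ⟨y, ?_⟩
        rw [map_mul, hy, map_low]
        show upp y * low (π0 (algebraMap k _ c * AdjoinRoot.root G)) = upp y
        rw [map_mul, red_root, ← AdjoinRoot.mk_X, AdjoinRoot.mk_self, mul_zero, low_zero, mul_one]
    obtain ⟨e, he⟩ := pow_eq_one_of_nilpotent (p := p) (g := g ^ p) fun a b => by
      obtain ⟨q, hq⟩ := AdjoinRoot.mk_surjective (((g ^ p).1 - 1) a b)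
      rw [← hq]
      have hXq : X ∣ q := by
        rw [← AdjoinRoot.mk_eq_zero, ← red_mk G X hXG, hq]
        haveI : Fact (Irreducible (X : k[X])) := ⟨irreducible_X⟩
        haveI : CharP (AdjoinRoot (X : k[X])) p :=
          charP_of_injective_algebraMap (algebraMap k _).injective p
        have h : Matrix.SpecialLinearGroup.map (π0 : AdjoinRoot G →+* AdjoinRoot (X : k[X])) (g ^ p) = 1 := by
          rw [map_pow, hy, upp_char]
        have h2 := congrArg (fun x : Matrix.SpecialLinearGroup (Fin 2) (AdjoinRoot (X : k[X])) => (x.1 - 1) a b) h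
        simp only [Matrix.SpecialLinearGroup.coe_one, sub_self, Matrix.zero_apply] at h2
        exact (map_entry_sub_one _ _ a b).trans h2
      exact ⟨2 + j, by rw [← map_pow, AdjoinRoot.mk_eq_zero]; exact pow_dvd_pow_of_dvd hXq _⟩
    exact ⟨e + 1, by rw [pow_succ', pow_mul]; exact he⟩
  obtain ⟨g, hg⟩ := hφ₁ (upp 1 * low (-1) * upp 1)
  obtain ⟨e, he⟩ := hpgrp (φ g) (by
    rw [← red_root F G hGF, ← map_grp π]
    exact ⟨g, g.2, rfl⟩)
  have hmem : g ^ (p ^ e) ∈ φ.ker := by rw [MonoidHom.mem_ker, map_pow]; exact he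
  have hc := hcen ⟨_, hmem, rfl⟩
  rw [map_pow, hg] at hc
  set w := upp (1 : AdjoinRoot m) * low (-1) * upp 1 with hw
  obtain ⟨t, ht⟩ := (hodd.pow (n := e))
  have hw2 : w ^ 2 = -1 := by
    rw [hw, pow_two]
    apply ext2 <;> simp [Matrix.mul_apply, Fin.sum_univ_two]
  rw [ht, pow_succ, pow_mul, hw2] at hc
  have hcom := Subgroup.mem_center_iff.1 hc (upp 1)
  rcases neg_one_pow_eq_or (Matrix.SpecialLinearGroup (Fin 2) (AdjoinRoot m)) t with h | h <;>
    rw [h] at hcom
  all_goals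
    have h00 := congrArg (fun x : Matrix.SpecialLinearGroup (Fin 2) (AdjoinRoot m) => x.1 0 0) hcom
    simp [hw, Matrix.mul_apply, Fin.sum_univ_two] at h00

end Cfsg.Agent.RootSubgroups.Dk
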