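import Mathlib
import Cfsg.Prelude.Def_RootSubgroups

/-!
Basic facts on quadratically acting elements and on the classes `E_σ`.
-/

set_option autoImplicit false
open Cfsg

namespace Cfsg.Agent.RootSubgroups.Quad

variable {k : Type*} [Field k] {M : Type*} [AddCommGroup M] [Module k M]

local notation "GLM" => LinearMap.GeneralLinearGroup k M
local notation "EndM" => Module.End k M

variable {G : Subgroup (LinearMap.GeneralLinearGroup k M)} {σ τ : LinearMap.GeneralLinearGroup k M}

/-- The nilpotent part `σ - 1`. -/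
abbrev nil (σ : LinearMap.GeneralLinearGroup k M) : Module.End k M := (σ : Module.End k M) - 1

/-- The unit `1 + X` for `X² = 0`. -/
def unit (X : Module.End k M) (h : X * X = 0) : LinearMap.GeneralLinearGroup k M :=
  ⟨1 + X, 1 - X, by rw [mul_sub, mul_one, add_mul, one_mul, h]; abel,
    by rw [mul_add, mul_one, sub_mul, one_mul, h]; abel⟩

theorem val_eq (σ : GLM) : (σ : EndM) = 1 + nil σ := by rw [add_sub_cancel]

theorem nil_unit (X : EndM) (h : X * X = 0) : nil (unit X h) = X := add_sub_cancel_left _ _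

theorem nil_inj {σ τ : GLM} (h : nil σ = nil τ) : σ = τ := Units.ext (sub_left_injective h)

theorem nil_eq_zero {σ : GLM} : nil σ = 0 ↔ σ = 1 :=
  ⟨fun h => nil_inj (h.trans (sub_self _).symm), fun h => by subst h; exact sub_self _⟩

theorem nil_mul (σ τ : GLM) : nil (σ * τ) = nil σ * nil τ + (nil σ + nil τ) := by
  change ((σ * τ : GLM) : EndM) - 1 = ((σ : EndM) - 1) * ((τ : EndM) - 1) + (((σ : EndM) - 1) + ((τ : EndM) - 1))
  rw [Units.val_mul]; noncomm_ring

theorem smul_sq {X : EndM} (h : X * X = 0) (c : k) : (c • X) * (c • X) = 0 := by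
  rw [smul_mul_smul_comm, h, smul_zero]

theorem nil_inv {σ : GLM} (h : nil σ * nil σ = 0) : nil σ⁻¹ = -nil σ := by
  have e : σ⁻¹ = unit (-nil σ) (by rw [neg_mul_neg, h]) := by
    refine inv_eq_of_mul_eq_one_right (Units.ext ?_)
    change (σ : EndM) * (1 + -nil σ) = 1
    rw [val_eq σ, mul_add, mul_one, mul_neg, add_mul, one_mul, h]
    abel
  rw [e, nil_unit]

theorem mem_scalarFamily {τ : GLM} : τ ∈ scalarFamily σ ↔ ∃ c : k, nil τ = c • nil σ := by
  constructor
  · rintro ⟨c, hc⟩
    exact ⟨c, by change (τ : EndM) - 1 = _; rw [show (τ : EndM) = 1 + c • nil σ from hc, add_sub_cancel_left]⟩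
  · rintro ⟨c, hc⟩
    exact ⟨c, by rw [val_eq τ, hc]⟩

/-- Membership in `𝒬(G)` in terms of the nilpotent part. -/
theorem mem_quadratic :
    σ ∈ quadraticElements G ↔ ∃ h : nil σ * nil σ = 0, nil σ ≠ 0 ∧
      ∀ c : k, unit (c • nil σ) (smul_sq h c) ∈ G := by
  constructor
  · rintro ⟨-, ⟨h1, h2⟩, h3⟩
    exact ⟨h1, h2, fun c => h3 (mem_scalarFamily.2 ⟨c, nil_unit _ _⟩)⟩
  · rintro ⟨h1, h2, h3⟩
    refine ⟨?_, ⟨h1, h2⟩, fun τ hτ => ?_⟩
    · rw [show σ = unit ((1 : k) • nil σ) (smul_sq h1 1) from nil_inj (by rw [nil_unit, one_smul])]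
      exact h3 1
    · obtain ⟨c, hc⟩ := mem_scalarFamily.1 hτ
      rw [show τ = unit (c • nil σ) (smul_sq h1 c) from nil_inj (by rw [nil_unit, hc])]
      exact h3 c

/-- The product of two quadratic elements with annihilating nilpotent parts. -/
theorem mul_quadratic (hσ : σ ∈ quadraticElements G) (hτ : τ ∈ quadraticElements G)
    (h1 : nil σ * nil τ = 0) (h2 : nil τ * nil σ = 0) (hne : nil σ + nil τ ≠ 0) :
    σ * τ ∈ quadraticElements G ∧ nil (σ * τ) = nil σ + nil τ := by
  obtain ⟨hs, -, hsG⟩ := mem_quadratic.1 hσ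
  obtain ⟨ht, -, htG⟩ := mem_quadratic.1 hτ
  have e : nil (σ * τ) = nil σ + nil τ := by rw [nil_mul, h1, zero_add]
  refine ⟨mem_quadratic.2 ⟨?_, e ▸ hne, fun c => ?_⟩, e⟩
  · rw [e, mul_add, add_mul, add_mul, hs, ht, h1, h2]; abel
  · have e' : unit (c • nil σ) (smul_sq hs c) * unit (c • nil τ) (smul_sq ht c)
        = unit (c • nil (σ * τ)) (smul_sq (by rw [e, mul_add, add_mul, add_mul, hs, ht, h1, h2]; abel) c) := by
      refine nil_inj ?_
      rw [nil_mul, nil_unit, nil_unit, nil_unit, smul_mul_smul_comm, h1, smul_zero, zero_add, e,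
        smul_add]
    exact e' ▸ mul_mem (hsG c) (htG c)

theorem inv_quadratic (hσ : σ ∈ quadraticElements G) : σ⁻¹ ∈ quadraticElements G := by
  obtain ⟨hs, hs0, hsG⟩ := mem_quadratic.1 hσ
  refine mem_quadratic.2 ⟨by rw [nil_inv hs, neg_mul_neg, hs], by rw [nil_inv hs, neg_ne_zero]; exact hs0,
    fun c => ?_⟩
  rw [show unit (c • nil σ⁻¹) _ = unit ((-c) • nil σ) (smul_sq hs _) from
    nil_inj (by rw [nil_unit, nil_unit, nil_inv hs, smul_neg, neg_smul])]
  exact hsG _

theorem nil_mul_eq_zero (h : LinearMap.range (nil τ) ≤ LinearMap.ker (nil σ)) :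
    nil σ * nil τ = 0 := LinearMap.ext fun m => h (LinearMap.mem_range_self _ m)

theorem range_le_ker (h : σ ∈ quadraticElements G) : LinearMap.range (nil σ) ≤ LinearMap.ker (nil σ) := by
  rintro _ ⟨m, rfl⟩
  exact LinearMap.congr_fun (mem_quadratic.1 h).1 m

theorem sameAction_annihilate (hρ : σ ∈ sameActionClass G τ) {ρ : GLM} (hρ' : ρ ∈ sameActionClass G τ) :
    nil σ * nil ρ = 0 := by
  refine nil_mul_eq_zero ?_
  change LinearMap.range ((ρ : M →ₗ[k] M) - 1) ≤ LinearMap.ker ((σ : M →ₗ[k] M) - 1)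
  rw [hρ'.2.2, ← hρ.2.2]
  exact range_le_ker hρ.1.1

theorem mem_sameActionClass_self (hσ : σ ∈ minimalQuadraticElements G) : σ ∈ sameActionClass G σ :=
  ⟨hσ, rfl, rfl⟩

/-- `E_σ ∪ {1}` is a subgroup. -/
theorem sameActionSubgroup_eq [FiniteDimensional k M] :
    (sameActionSubgroup G σ : Set GLM) = sameActionClass G σ ∪ {1} := by
  refine Set.Subset.antisymm (fun x hx => ?_) ?_
  · change x ∈ Subgroup.closure (sameActionClass G σ) at hx
    induction hx using Subgroup.closure_induction with
    | mem y hy => exact Or.inl hy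
    | one => exact Or.inr rfl
    | mul y z _ _ hy hz =>
      rcases hy with hy | rfl
      · rcases hz with hz | rfl
        · by_cases h0 : nil y + nil z = 0
          · exact Or.inr (nil_eq_zero.1 (by rw [nil_mul, sameAction_annihilate hy hz, zero_add, h0]))
          obtain ⟨hq, e⟩ := mul_quadratic hy.1.1 hz.1.1 (sameAction_annihilate hy hz)
            (sameAction_annihilate hz hy) h0
          have hr : LinearMap.range (nil (y * z)) ≤ LinearMap.range ((σ : M →ₗ[k] M) - 1) := by
            rintro _ ⟨m, rfl⟩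
            rw [e, LinearMap.add_apply]
            exact add_mem (hy.2.2 ▸ LinearMap.mem_range_self _ m) (hz.2.2 ▸ LinearMap.mem_range_self _ m)
          have hd : commutatorRank y = Module.finrank k (LinearMap.range ((σ : M →ₗ[k] M) - 1)) := by
            rw [commutatorRank, hy.2.2]
          have hre := Submodule.eq_of_le_of_finrank_le hr (hd ▸ hy.1.2 _ hq)
          have hk : LinearMap.ker ((σ : M →ₗ[k] M) - 1) ≤ LinearMap.ker (nil (y * z)) := by
            intro m hm
            rw [LinearMap.mem_ker, e, LinearMap.add_apply,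
              LinearMap.mem_ker.1 (hy.2.1.symm ▸ hm : m ∈ LinearMap.ker (nil y)),
              LinearMap.mem_ker.1 (hz.2.1.symm ▸ hm : m ∈ LinearMap.ker (nil z)), add_zero]
          refine Or.inl ⟨⟨hq, fun t ht => le_trans (le_of_eq ?_) (hy.1.2 t ht)⟩, ?_, hre⟩
          · rw [hd]; exact congrArg (fun N : Submodule k M => Module.finrank k N) hre
          · refine (Submodule.eq_of_le_of_finrank_le hk (le_of_eq ?_)).symm
            have h1 := LinearMap.finrank_range_add_finrank_ker (nil (y * z))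
            have h2 := LinearMap.finrank_range_add_finrank_ker ((σ : M →ₗ[k] M) - 1)
            rw [hre] at h1
            omega
        · rw [mul_one]; exact Or.inl hy
      · rw [one_mul]; exact hz
    | inv y _ hy =>
      rcases hy with hy | rfl
      · have e : ((y⁻¹ : GLM) : M →ₗ[k] M) - 1 = -((y : M →ₗ[k] M) - 1) :=
          nil_inv (mem_quadratic.1 hy.1.1).1
        refine Or.inl ⟨⟨inv_quadratic hy.1.1, fun t ht => ?_⟩, ?_, ?_⟩
        · rw [commutatorRank, e, LinearMap.range_neg]; exact hy.1.2 t ht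
        · rw [e, LinearMap.ker_neg]; exact hy.2.1
        · rw [e, LinearMap.range_neg]; exact hy.2.2
      · exact Or.inr inv_one
  · rintro x (hx | rfl)
    · exact Subgroup.subset_closure hx
    · exact one_mem (sameActionSubgroup G σ)

theorem sameActionSubgroup_annihilate [FiniteDimensional k M] {x y : GLM}
    (hx : x ∈ sameActionSubgroup G σ) (hy : y ∈ sameActionSubgroup G σ) : nil x * nil y = 0 := by
  rw [← SetLike.mem_coe, sameActionSubgroup_eq] at hx hy
  rcases hx with hx | rfl
  · rcases hy with hy | rfl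
    · exact sameAction_annihilate hx hy
    · rw [nil_eq_zero.2 rfl, mul_zero]
  · rw [nil_eq_zero.2 rfl, zero_mul]

theorem nil_pow {x : GLM} (h : nil x * nil x = 0) (n : ℕ) : nil (x ^ n) = n • nil x := by
  induction n with
  | zero => rw [pow_zero, zero_nsmul, nil_eq_zero.2 rfl]
  | succ n ih => rw [pow_succ, nil_mul, ih, smul_mul_assoc, h, smul_zero, zero_add, succ_nsmul]

end Cfsg.Agent.RootSubgroups.Quad
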