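import Mathlib
import Cfsg.Agent.Lib.RootSubgroups.QuadPair
import Cfsg.Agent.Lib.RootSubgroups.DicksonCor
import Cfsg.Agent.Lib.RootSubgroups.DicksonRedUnit
import Cfsg.Agent.Lib.RootSubgroups.DicksonRedX

/-!
The elements of the group generated by two quadratic scalar families `1 + cS`, `1 + cT`, seen through
`⟨u(k), v(kX)⟩` over `k[X]`, with `X` standing for `ST`.
-/

set_option autoImplicit false
open Cfsg Polynomial

namespace Cfsg.Agent.RootSubgroups.Gamma

variable {k : Type*} [Field k] {M : Type*} [AddCommGroup M] [Module k M]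

local notation "GLM" => LinearMap.GeneralLinearGroup k M
local notation "EndM" => Module.End k M
local notation "SLX" => Matrix.SpecialLinearGroup (Fin 2) (Polynomial k)

variable (S T : Module.End k M)

/-- The value attached to an element over `k[X]`. -/
noncomputable def val (g : SLX) : EndM :=
  1 + aeval (S * T) (g.1 0 0 - 1).divX * (S * T) + aeval (S * T) (g.1 0 1) * S +
    T * aeval (S * T) (g.1 1 0).divX + aeval (T * S) (g.1 1 1 - 1).divX * (T * S)

variable {S T}

theorem semiconj (p : k[X]) : T * aeval (S * T) p = aeval (T * S) p * T := by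
  induction p using Polynomial.induction_on' with
  | add p q hp hq => rw [map_add, map_add, mul_add, add_mul, hp, hq]
  | monomial n c =>
    rw [aeval_monomial, aeval_monomial, Algebra.algebraMap_eq_smul_one, smul_mul_assoc, one_mul,
      smul_mul_assoc, one_mul, mul_smul_comm, smul_mul_assoc]
    congr 1
    induction n with
    | zero => simp
    | succ n ih => rw [pow_succ, ← mul_assoc, ih, pow_succ, mul_assoc, mul_assoc, mul_assoc]

theorem semiconj' (p : k[X]) : S * aeval (T * S) p = aeval (S * T) p * S := semiconj p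

theorem commX (A : EndM) (p : k[X]) : aeval A p * A = A * aeval A p := by
  have h := ((Commute.all p X).map (aeval A)).eq
  rwa [aeval_X] at h

/-- The constant terms of an element of `grp k X`. -/
theorem const_terms {g : SLX} (hg : g ∈ Dk.grp k (X : k[X])) :
    (g.1 0 0).coeff 0 = 1 ∧ (g.1 1 0).coeff 0 = 0 ∧ (g.1 1 1).coeff 0 = 1 := by
  refine Dk.grp_induction (k := k) (p := fun g => (g.1 0 0).coeff 0 = 1 ∧ (g.1 1 0).coeff 0 = 0 ∧
    (g.1 1 1).coeff 0 = 1) (by simp) ?_ ?_ hg <;>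
    rintro g - ⟨h1, h2, h3⟩ c <;>
    simp [Matrix.mul_apply, Fin.sum_univ_two, h1, h2, h3, mul_coeff_zero]

theorem val_mul_upp (hS : S * S = 0) {g : SLX} (hg : g ∈ Dk.grp k (X : k[X])) (c : k) :
    val S T (g * Dk.upp (algebraMap k k[X] c)) = val S T g * (1 + c • S) := by
  obtain ⟨h00, h10, h11⟩ := const_terms hg
  obtain ⟨p, hp⟩ : ∃ p, p = (g.1 0 0 - 1).divX := ⟨_, rfl⟩
  obtain ⟨r, hr⟩ : ∃ r, r = (g.1 1 0).divX := ⟨_, rfl⟩
  obtain ⟨s, hs⟩ : ∃ s, s = (g.1 1 1 - 1).divX := ⟨_, rfl⟩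
  obtain ⟨q, hq⟩ : ∃ q, q = g.1 0 1 := ⟨_, rfl⟩
  have e00 : g.1 0 0 = 1 + X * p := by
    have h := X_mul_divX_add (g.1 0 0 - 1)
    rw [← hp, coeff_sub, h00, coeff_one_zero, sub_self, C_0, add_zero] at h
    rw [h, add_sub_cancel]
  have e10 : g.1 1 0 = X * r := by
    have h := X_mul_divX_add (g.1 1 0)
    rw [← hr, h10, C_0, add_zero] at h
    exact h.symm
  have e11 : g.1 1 1 = 1 + X * s := by
    have h := X_mul_divX_add (g.1 1 1 - 1)
    rw [← hs, coeff_sub, h11, coeff_one_zero, sub_self, C_0, add_zero] at h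
    rw [h, add_sub_cancel]
  have dX : ∀ a : k[X], (X * a).divX = a := fun a => by ext i; simp [coeff_divX]
  have n00 : (g * Dk.upp (algebraMap k k[X] c)).1 0 0 = g.1 0 0 := by
    simp [Matrix.mul_apply, Fin.sum_univ_two]
  have n10 : (g * Dk.upp (algebraMap k k[X] c)).1 1 0 = g.1 1 0 := by
    simp [Matrix.mul_apply, Fin.sum_univ_two]
  have n01 : (g * Dk.upp (algebraMap k k[X] c)).1 0 1 = q + C c + C c * (X * p) := by
    simp [Matrix.mul_apply, Fin.sum_univ_two, e00, ← hq]; ring
  have n11 : ((g * Dk.upp (algebraMap k k[X] c)).1 1 1 - 1).divX = s + C c * r := by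
    rw [← dX (s + C c * r)]; congr 1
    simp [Matrix.mul_apply, Fin.sum_univ_two, e10, e11]; ring
  simp only [val]
  rw [n00, n10, n01, n11]
  simp only [← hp, ← hr, ← hs, ← hq, map_add, map_mul, aeval_C, aeval_X,
    Algebra.algebraMap_eq_smul_one]
  obtain ⟨P, hP⟩ : ∃ P, P = aeval (S * T) p := ⟨_, rfl⟩
  have e1 : P * (S * T) * S = (S * T) * (P * S) := by
    rw [hP, commX, mul_assoc]
  have e2 : T * aeval (S * T) r * S = aeval (T * S) r * (T * S) := by rw [semiconj, mul_assoc]
  have e3 : aeval (S * T) q * S * S = 0 := by rw [mul_assoc, hS, mul_zero]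
  have e4 : aeval (T * S) s * (T * S) * S = 0 := by rw [mul_assoc, mul_assoc T, hS, mul_zero, mul_zero]
  rw [← hP]
  simp only [add_mul, mul_add, mul_one, one_mul, mul_smul_comm, smul_mul_assoc, e1, e2, e3, e4,
    smul_zero, smul_add, mul_assoc (S * T) P S]
  abel

theorem val_mul_low (hT : T * T = 0) {g : SLX} (hg : g ∈ Dk.grp k (X : k[X])) (c : k) :
    val S T (g * Dk.low (algebraMap k k[X] c * X)) = val S T g * (1 + c • T) := by
  obtain ⟨h00, h10, h11⟩ := const_terms hg
  obtain ⟨p, hp⟩ : ∃ p, p = (g.1 0 0 - 1).divX := ⟨_, rfl⟩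
  obtain ⟨r, hr⟩ : ∃ r, r = (g.1 1 0).divX := ⟨_, rfl⟩
  obtain ⟨s, hs⟩ : ∃ s, s = (g.1 1 1 - 1).divX := ⟨_, rfl⟩
  obtain ⟨q, hq⟩ : ∃ q, q = g.1 0 1 := ⟨_, rfl⟩
  have e00 : g.1 0 0 = 1 + X * p := by
    have h := X_mul_divX_add (g.1 0 0 - 1)
    rw [← hp, coeff_sub, h00, coeff_one_zero, sub_self, C_0, add_zero] at h
    rw [h, add_sub_cancel]
  have e10 : g.1 1 0 = X * r := by
    have h := X_mul_divX_add (g.1 1 0)
    rw [← hr, h10, C_0, add_zero] at h
    exact h.symm
  have e11 : g.1 1 1 = 1 + X * s := by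
    have h := X_mul_divX_add (g.1 1 1 - 1)
    rw [← hs, coeff_sub, h11, coeff_one_zero, sub_self, C_0, add_zero] at h
    rw [h, add_sub_cancel]
  have dX : ∀ a : k[X], (X * a).divX = a := fun a => by ext i; simp [coeff_divX]
  have n00 : ((g * Dk.low (algebraMap k k[X] c * X)).1 0 0 - 1).divX = p + C c * q := by
    rw [← dX (p + C c * q)]; congr 1
    simp [Matrix.mul_apply, Fin.sum_univ_two, e00, ← hq]; ring
  have n10 : ((g * Dk.low (algebraMap k k[X] c * X)).1 1 0).divX = r + C c + C c * (X * s) := by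
    rw [← dX (r + C c + C c * (X * s))]; congr 1
    simp [Matrix.mul_apply, Fin.sum_univ_two, e10, e11]; ring
  have n01 : (g * Dk.low (algebraMap k k[X] c * X)).1 0 1 = q := by
    simp [Matrix.mul_apply, Fin.sum_univ_two, ← hq]
  have n11 : (g * Dk.low (algebraMap k k[X] c * X)).1 1 1 = g.1 1 1 := by
    simp [Matrix.mul_apply, Fin.sum_univ_two]
  simp only [val]
  rw [n00, n10, n01, n11]
  simp only [← hp, ← hr, ← hs, ← hq, map_add, map_mul, aeval_C, aeval_X,
    Algebra.algebraMap_eq_smul_one]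
  obtain ⟨P, hP⟩ : ∃ P, P = aeval (T * S) s := ⟨_, rfl⟩
  obtain ⟨P', hP'⟩ : ∃ P', P' = aeval (S * T) s := ⟨_, rfl⟩
  have e1 : P * (T * S) * T = T * (S * T * P') := by
    rw [hP', ← commX]
    conv_rhs => rw [← mul_assoc, semiconj, ← hP]
    simp only [mul_assoc]
  have e2 : aeval (S * T) p * (S * T) * T = 0 := by rw [mul_assoc, mul_assoc S, hT, mul_zero, mul_zero]
  have e3 : T * aeval (S * T) r * T = 0 := by rw [semiconj, mul_assoc, hT, mul_zero]
  rw [← hP, ← hP']
  simp only [add_mul, mul_add, mul_one, one_mul, mul_smul_comm, smul_mul_assoc, e1, e2, e3,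
    smul_zero, smul_add, mul_assoc (aeval (S * T) q) S T]
  abel

theorem val_one : val S T (1 : SLX) = 1 := by simp [val]

theorem val_mul (hS : S * S = 0) (hT : T * T = 0) {g h : SLX} (hg : g ∈ Dk.grp k (X : k[X]))
    (hh : h ∈ Dk.grp k (X : k[X])) : val S T (g * h) = val S T g * val S T h := by
  refine Dk.grp_induction (k := k) (p := fun h => val S T (g * h) = val S T g * val S T h) ?_ ?_ ?_ hh
  · rw [mul_one, val_one, mul_one]
  · intro h hh ih c
    rw [← mul_assoc, val_mul_upp hS (mul_mem hg hh), val_mul_upp hS hh, ih, mul_assoc]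
  · intro h hh ih c
    rw [← mul_assoc, val_mul_low hT (mul_mem hg hh), val_mul_low hT hh, ih, mul_assoc]

/-- The homomorphism from `grp k X`. -/
noncomputable def hom (hS : S * S = 0) (hT : T * T = 0) : Dk.grp k (X : k[X]) →* GLM :=
  MonoidHom.toHomUnits
    { toFun := fun g => val S T g.1
      map_one' := val_one
      map_mul' := fun g h => val_mul hS hT g.2 h.2 }

theorem hom_val (hS : S * S = 0) (hT : T * T = 0) (g : Dk.grp k (X : k[X])) :
    ((hom hS hT g : GLM) : EndM) = val S T g.1 := rfl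

/-- Its image is the group generated by the two scalar families. -/
theorem hom_range (hS : S * S = 0) (hT : T * T = 0) :
    (hom hS hT).range = Subgroup.closure ({x : GLM | ∃ c : k, (x : EndM) = 1 + c • S} ∪
      {x : GLM | ∃ c : k, (x : EndM) = 1 + c • T}) := by
  have hu : ∀ c, val S T (Dk.upp (algebraMap k k[X] c)) = 1 + c • S := fun c => by
    rw [← one_mul (Dk.upp _), val_mul_upp hS (one_mem _), val_one, one_mul]
  have hv : ∀ c, val S T (Dk.low (algebraMap k k[X] c * X)) = 1 + c • T := fun c => by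
    rw [← one_mul (Dk.low _), val_mul_low hT (one_mem _), val_one, one_mul]
  refine le_antisymm ?_ ((Subgroup.closure_le _).2 ?_)
  · rintro _ ⟨⟨g, hg⟩, rfl⟩
    refine Dk.grp_induction (k := k) (p := fun g => ∀ hg : g ∈ Dk.grp k (X : k[X]), hom hS hT ⟨g, hg⟩ ∈ _)
      ?_ ?_ ?_ hg hg
    · intro h
      rw [show (⟨1, h⟩ : Dk.grp k (X : k[X])) = 1 from rfl, map_one]; exact one_mem _
    · intro g hg ih c h
      rw [show (⟨_, h⟩ : Dk.grp k (X : k[X])) = ⟨g, hg⟩ * ⟨_, Dk.upp_mem_grp X c⟩ from rfl, map_mul]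
      exact mul_mem (ih hg) (Subgroup.subset_closure (Or.inl ⟨c, (hom_val hS hT _).trans (hu c)⟩))
    · intro g hg ih c h
      rw [show (⟨_, h⟩ : Dk.grp k (X : k[X])) = ⟨g, hg⟩ * ⟨_, Dk.low_mem_grp X c⟩ from rfl, map_mul]
      exact mul_mem (ih hg) (Subgroup.subset_closure (Or.inr ⟨c, (hom_val hS hT _).trans (hv c)⟩))
  · rintro x (⟨c, hc⟩ | ⟨c, hc⟩)
    · exact ⟨⟨_, Dk.upp_mem_grp X c⟩, Units.ext ((hom_val hS hT _).trans ((hu c).trans hc.symm))⟩
    · exact ⟨⟨_, Dk.low_mem_grp X c⟩, Units.ext ((hom_val hS hT _).trans ((hv c).trans hc.symm))⟩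

/-- The monic generator of `{q | q(ST) S = 0}`. -/
theorem exists_modulus [FiniteDimensional k M] (hS0 : S ≠ 0) :
    ∃ f : k[X], f.Monic ∧ 1 ≤ f.natDegree ∧ ∀ q, aeval (S * T) q * S = 0 ↔ f ∣ q := by
  classical
  let I : Ideal k[X] :=
    { carrier := {q | aeval (S * T) q * S = 0}
      zero_mem' := by simp
      add_mem' := fun {a b} ha hb => by
        show aeval (S * T) (a + b) * S = 0
        rw [map_add, add_mul, ha, hb, add_zero]
      smul_mem' := fun a b hb => by
        show aeval (S * T) (a * b) * S = 0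
        rw [map_mul, mul_assoc, hb, mul_zero] }
  obtain ⟨g, hg⟩ := (inferInstance : I.IsPrincipal)
  have hmem : ∀ q, aeval (S * T) q * S = 0 ↔ g ∣ q := fun q => by
    rw [← Ideal.mem_span_singleton, Ideal.span, ← hg]; rfl
  have hg0 : g ≠ 0 := fun h0 => by
    have := (hmem (minpoly k (S * T))).1 (by rw [minpoly.aeval, zero_mul])
    rw [h0, zero_dvd_iff] at this
    exact minpoly.ne_zero (Algebra.IsIntegral.isIntegral (S * T)) this
  have hnd : ∀ q, aeval (S * T) q * S = 0 ↔ normalize g ∣ q := fun q => by rw [hmem, normalize_dvd_iff]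
  refine ⟨normalize g, monic_normalize hg0, ?_, hnd⟩
  rw [Nat.one_le_iff_ne_zero]
  intro h0
  refine hS0 ?_
  have := (hnd 1).2 (by rw [(monic_normalize hg0).natDegree_eq_zero.1 h0])
  rwa [map_one, one_mul] at this

theorem aeval_S_nilpotent (hS : S * S = 0) (q : k[X]) :
    (aeval (S * T) q * S) * (aeval (S * T) q * S) = 0 := by
  have h : S * aeval (S * T) q * S = 0 := by
    induction q using Polynomial.induction_on' with
    | add p q hp hq => rw [map_add, mul_add, add_mul, hp, hq, add_zero]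
    | monomial n c =>
      rw [aeval_monomial, Algebra.algebraMap_eq_smul_one, smul_mul_assoc, one_mul, mul_smul_comm,
        smul_mul_assoc]
      cases n with
      | zero => rw [pow_zero, mul_one, hS, smul_zero]
      | succ n => rw [pow_succ', ← mul_assoc, ← mul_assoc, hS, zero_mul, zero_mul, zero_mul, smul_zero]
  rw [mul_assoc, ← mul_assoc S, h, mul_zero]

/-- A multiple sharing a factor with the modulus lowers the rank. -/
theorem rank_lt [FiniteDimensional k M] {f q : k[X]}
    (hf : ∀ q, aeval (S * T) q * S = 0 ↔ f ∣ q) (hf0 : f ≠ 0) (hq : ¬ IsCoprime q f) :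
    Module.finrank k (LinearMap.range (aeval (S * T) q * S)) <
      Module.finrank k (LinearMap.range S) := by
  obtain ⟨m, hm, hmq, hmf⟩ : ∃ m, Irreducible m ∧ m ∣ q ∧ m ∣ f := by
    by_contra h
    refine hq (isCoprime_of_irreducible_dvd (fun h0 => hf0 h0.2) fun z hz hzq hzf => h ⟨z, hz, hzq, hzf⟩)
  obtain ⟨f₁, hf₁⟩ := hmf
  obtain ⟨q₁, hq₁⟩ := hmq
  have hf10 : f₁ ≠ 0 := fun h0 => hf0 (by rw [hf₁, h0, mul_zero])
  have hne : aeval (S * T) f₁ * S ≠ 0 := fun h => by
    have h' := (hf f₁).1 h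
    rw [hf₁] at h'
    nth_rewrite 2 [← one_mul f₁] at h'
    exact hm.not_isUnit (isUnit_iff_dvd_one.2 ((mul_dvd_mul_iff_right hf10).1 h'))
  obtain ⟨x, hx⟩ : ∃ x, (aeval (S * T) f₁ * S) x ≠ 0 := by
    by_contra h
    push Not at h
    exact hne (LinearMap.ext h)
  set W := LinearMap.range S
  set φ := (aeval (S * T) q).comp W.subtype
  have hr : LinearMap.range (aeval (S * T) q * S) = LinearMap.range φ := by
    rw [LinearMap.range_comp, Submodule.range_subtype, show aeval (S * T) q * S =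
      (aeval (S * T) q).comp S from rfl, LinearMap.range_comp]
  rw [hr]
  refine lt_of_le_of_ne (LinearMap.finrank_range_le φ) fun heq => ?_
  have h := LinearMap.finrank_range_add_finrank_ker φ
  have hker : LinearMap.ker φ = ⊥ := Submodule.finrank_eq_zero.1 (by omega)
  have hy : (aeval (S * T) f₁ * S) x ∈ W := by
    rw [← semiconj']; exact LinearMap.mem_range_self S _
  have h0 : φ ⟨_, hy⟩ = 0 := by
    show ((aeval (S * T) q) * (aeval (S * T) f₁ * S)) x = 0
    have : aeval (S * T) (q₁ * f) * S = 0 := (hf _).2 (dvd_mul_left _ _)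
    rw [← mul_assoc, ← map_mul, show q * f₁ = q₁ * f by rw [hq₁, hf₁]; ring, this]
    rfl
  rw [← LinearMap.mem_ker, hker, Submodule.mem_bot] at h0
  exact hx (congrArg Subtype.val h0)

end Cfsg.Agent.RootSubgroups.Gamma
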