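import Mathlib
import Cfsg.Prelude.Def_RootSubgroups
import Cfsg.Agent.Lib.RootSubgroups.Basic

/-!
Groups of linear maps acting unipotently: the span of `g - 1`, saturation, products, and the
normaliser condition.
-/

set_option autoImplicit false
open Cfsg

namespace Cfsg.Agent.RootSubgroups.Unipotent

variable {k : Type*} [Field k] {M : Type*} [AddCommGroup M] [Module k M]

local notation "GLM" => LinearMap.GeneralLinearGroup k M
local notation "EndM" => Module.End k M

variable {U V H : Subgroup (LinearMap.GeneralLinearGroup k M)}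

/-- The span of the maps `g - 1`, `g ∈ H`; it is closed under multiplication. -/
def sp (H : Subgroup (LinearMap.GeneralLinearGroup k M)) : Submodule k (Module.End k M) :=
  Submodule.span k {x | ∃ g ∈ H, (g : Module.End k M) - 1 = x}

theorem sub_one_mem {g : GLM} (hg : g ∈ H) : (g : EndM) - 1 ∈ sp H :=
  Submodule.subset_span ⟨g, hg, rfl⟩

theorem sp_le {N : Submodule k EndM} (h : ∀ g ∈ H, (g : EndM) - 1 ∈ N) : sp H ≤ N :=
  Submodule.span_le.2 fun _ ⟨g, hg, e⟩ => e ▸ h g hg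

theorem sp_mono (h : U ≤ V) : sp U ≤ sp V := sp_le fun _ hg => sub_one_mem (h hg)

theorem sp_mul_sp : sp H * sp H ≤ sp H := by
  rw [sp, Submodule.span_mul_span, Submodule.span_le]
  rintro _ ⟨_, ⟨g, hg, rfl⟩, _, ⟨g', hg', rfl⟩, rfl⟩
  have e : ((g : EndM) - 1) * ((g' : EndM) - 1)
      = ((g * g' : GLM) : EndM) - 1 - ((g : EndM) - 1) - ((g' : EndM) - 1) := by
    rw [Units.val_mul]; noncomm_ring
  change ((g : EndM) - 1) * ((g' : EndM) - 1) ∈ sp H
  rw [e]
  exact sub_mem (sub_mem (sub_one_mem (mul_mem hg hg')) (sub_one_mem hg)) (sub_one_mem hg')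

/-- The elements `g` with `g - 1` and `g⁻¹ - 1` in the span of `H`. -/
def inSp (H : Subgroup (LinearMap.GeneralLinearGroup k M)) :
    Subgroup (LinearMap.GeneralLinearGroup k M) where
  carrier := {g | (g : Module.End k M) - 1 ∈ sp H ∧
    ((g⁻¹ : LinearMap.GeneralLinearGroup k M) : Module.End k M) - 1 ∈ sp H}
  one_mem' := by simp
  mul_mem' := by
    rintro g g' ⟨h1, h2⟩ ⟨h1', h2'⟩
    have key : ∀ {x y : Module.End k M}, x - 1 ∈ sp H → y - 1 ∈ sp H → x * y - 1 ∈ sp H := by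
      intro x y hx hy
      rw [show x * y - 1 = (x - 1) * (y - 1) + ((x - 1) + (y - 1)) by noncomm_ring]
      exact add_mem (sp_mul_sp (Submodule.mul_mem_mul hx hy)) (add_mem hx hy)
    exact ⟨by rw [Units.val_mul]; exact key h1 h1', by
      rw [mul_inv_rev, Units.val_mul]; exact key h2' h2⟩
  inv_mem' := by rintro g ⟨h1, h2⟩; exact ⟨h2, by rwa [inv_inv]⟩

theorem le_inSp : H ≤ inSp H := fun _ hg => ⟨sub_one_mem hg, sub_one_mem (inv_mem hg)⟩

theorem sp_le_of_le_inSp (h : V ≤ inSp U) : sp V ≤ sp U := sp_le fun _ hg => (h hg).1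

theorem list_eq (l : List GLM) :
    List.map (fun g : M →ₗ[k] M => g - 1) (do let a ← l; pure (a : M →ₗ[k] M)) =
      l.map fun g : GLM => (g : EndM) - 1 := by
  induction l with
  | nil => simp
  | cons a l ih =>
    simp only [List.bind_eq_flatMap, List.pure_def, List.flatMap_cons, List.map_cons,
      List.singleton_append]
    simp only [List.bind_eq_flatMap, List.pure_def] at ih
    rw [ih]

/-- Acting unipotently means that the span of the `g - 1` is nilpotent. -/
theorem isUnipotentOn_iff : IsUnipotentOn H ↔ ∃ n, sp H ^ n = ⊥ := by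
  constructor
  · rintro ⟨n, hn⟩
    refine ⟨n, eq_bot_iff.2 ?_⟩
    have key : ∀ i, ∀ x ∈ sp H ^ i, ∀ l : List GLM, (∀ g ∈ l, g ∈ H) → i + l.length = n →
        x * (l.map fun g : GLM => (g : EndM) - 1).prod = 0 := by
      intro i
      induction i with
      | zero =>
        intro x hx l hl he
        rw [pow_zero, Submodule.one_eq_span] at hx
        obtain ⟨c, rfl⟩ := Submodule.mem_span_singleton.1 hx
        have h0 := hn l hl (by omega)
        rw [list_eq] at h0
        rw [smul_mul_assoc, one_mul, h0, smul_zero]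
      | succ i ih =>
        intro x hx l hl he
        rw [pow_succ] at hx
        induction hx using Submodule.mul_induction_on' with
        | mem_mul_mem y hy z hz =>
          induction hz using Submodule.span_induction with
          | mem w hw =>
            obtain ⟨g, hg, rfl⟩ := hw
            have h := ih y hy (g :: l) (by simpa [hg] using hl)
              (by rw [List.length_cons]; omega)
            rwa [List.map_cons, List.prod_cons, ← mul_assoc] at h
          | zero => simp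
          | add u v _ _ hu hv => rw [mul_add, add_mul, hu, hv, add_zero]
          | smul c u _ hu => rw [mul_smul_comm, smul_mul_assoc, hu, smul_zero]
        | add u hu' v hv' hu hv => rw [add_mul, hu, hv, add_zero]
    intro x hx
    simpa using key n x hx [] (by simp) (by simp)
  · rintro ⟨n, hn⟩
    refine ⟨n, fun l hl he => ?_⟩
    have key : ∀ l : List GLM, (∀ g ∈ l, g ∈ H) →
        (l.map fun g : GLM => (g : EndM) - 1).prod ∈ sp H ^ l.length := by
      intro l hl
      induction l with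
      | nil => simp [Submodule.one_eq_span, Submodule.mem_span_singleton_self]
      | cons g l ih =>
        rw [List.map_cons, List.prod_cons, List.length_cons, pow_succ']
        exact Submodule.mul_mem_mul (sub_one_mem (hl g (List.mem_cons_self ..)))
          (ih fun x hx => hl x (List.mem_cons_of_mem _ hx))
    have h := key l hl
    rw [he, hn] at h
    rw [list_eq]
    exact (Submodule.mem_bot k).1 h

theorem isUnipotentOn_mono (h : sp V ≤ sp U) (hU : IsUnipotentOn U) : IsUnipotentOn V := by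
  rw [isUnipotentOn_iff] at hU ⊢
  obtain ⟨n, hn⟩ := hU
  exact ⟨n, eq_bot_iff.2 (hn ▸ pow_le_pow_left' h n)⟩

theorem sup_normal (hU : IsUnipotentOn U) (hV : IsUnipotentOn V)
    (hn : V ≤ Subgroup.normalizer (U : Set (LinearMap.GeneralLinearGroup k M))) :
    IsUnipotentOn (U ⊔ V) := by
  rw [isUnipotentOn_iff] at hU hV ⊢
  obtain ⟨m, hm⟩ := hU
  obtain ⟨n, hn'⟩ := hV
  obtain ⟨a, rfl⟩ : ∃ a, a = sp U := ⟨_, rfl⟩
  obtain ⟨I, hI⟩ : ∃ I, I = sp U ⊔ sp U * sp V := ⟨_, rfl⟩
  have hba : sp V * sp U ≤ I := by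
    rw [sp, sp, Submodule.span_mul_span, Submodule.span_le]
    rintro _ ⟨_, ⟨v, hv, rfl⟩, _, ⟨u, hu, rfl⟩, rfl⟩
    have hu' : v * u * v⁻¹ ∈ U := (Subgroup.mem_normalizer_iff.1 (hn hv) u).1 hu
    have e : ((v : EndM) - 1) * ((u : EndM) - 1) = (((v * u * v⁻¹ : GLM) : EndM) - 1) * ((v : EndM) - 1)
        + ((((v * u * v⁻¹ : GLM) : EndM) - 1) - ((u : EndM) - 1)) := by
      have h : ((v * u * v⁻¹ : GLM) : EndM) * (v : EndM) = (v : EndM) * (u : EndM) := by
        rw [← Units.val_mul, ← Units.val_mul, inv_mul_cancel_right]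
      simp only [sub_mul, mul_sub, one_mul, mul_one, h]
      abel
    change ((v : EndM) - 1) * ((u : EndM) - 1) ∈ I
    rw [hI, e]
    refine add_mem ?_ ?_
    · exact Submodule.mem_sup_right (Submodule.mul_mem_mul (sub_one_mem hu') (sub_one_mem hv))
    · exact Submodule.mem_sup_left (sub_mem (sub_one_mem hu') (sub_one_mem hu))
  have habb : sp U * sp V * sp V ≤ sp U * sp V := by
    rw [mul_assoc]; exact mul_le_mul' le_rfl sp_mul_sp
  have hbab : sp V * sp U * sp V ≤ sp U * sp V := by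
    refine (mul_le_mul' hba le_rfl).trans ?_
    rw [hI, Submodule.sup_mul]
    exact sup_le le_rfl habb
  have hbI : sp V * I ≤ I := by
    rw [hI, Submodule.mul_sup, ← mul_assoc]
    exact sup_le (hI ▸ hba) (hbab.trans le_sup_right)
  have haab : sp U * (sp U * sp V) ≤ sp U * sp V := by
    rw [← mul_assoc]; exact mul_le_mul' sp_mul_sp le_rfl
  have hab_a : sp U * sp V * sp U ≤ I := by
    rw [mul_assoc]
    refine (mul_le_mul' le_rfl hba).trans ?_
    rw [hI, Submodule.mul_sup]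
    exact sup_le (sp_mul_sp.trans le_sup_left) (haab.trans le_sup_right)
  have hab_ab : sp U * sp V * (sp U * sp V) ≤ I := by
    rw [mul_assoc, ← mul_assoc (sp V)]
    exact (mul_le_mul' le_rfl hbab).trans (hI ▸ haab.trans le_sup_right)
  obtain ⟨J, hJ⟩ : ∃ J, J = sp U ⊔ sp V ⊔ sp U * sp V := ⟨_, rfl⟩
  have hJle : sp (U ⊔ V) ≤ J := by
    refine sp_le fun g hg => ?_
    rw [← SetLike.mem_coe, sup_comm, Subgroup.coe_mul_of_left_le_normalizer_right _ _ hn] at hg
    obtain ⟨v, hv, u, hu, rfl⟩ := hg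
    have hu' : v * u * v⁻¹ ∈ U := (Subgroup.mem_normalizer_iff.1 (hn hv) u).1 hu
    change ((v * u : GLM) : EndM) - 1 ∈ J
    have e : ((v * u : GLM) : EndM) = ((v * u * v⁻¹ : GLM) : EndM) * (v : EndM) := by
      rw [← Units.val_mul, inv_mul_cancel_right]
    rw [e, show
      ((v * u * v⁻¹ : GLM) : EndM) * (v : EndM) - 1 = (((v * u * v⁻¹ : GLM) : EndM) - 1) * ((v : EndM) - 1)
        + ((((v * u * v⁻¹ : GLM) : EndM) - 1) + ((v : EndM) - 1)) by noncomm_ring]
    rw [hJ]
    exact add_mem (Submodule.mem_sup_right (Submodule.mul_mem_mul (sub_one_mem hu') (sub_one_mem hv)))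
      (add_mem (Submodule.mem_sup_left (Submodule.mem_sup_left (sub_one_mem hu')))
        (Submodule.mem_sup_left (Submodule.mem_sup_right (sub_one_mem hv))))
  have hIJ : I * J ≤ I := by
    rw [hI, hJ, Submodule.sup_mul, Submodule.mul_sup, Submodule.mul_sup, Submodule.mul_sup,
      Submodule.mul_sup]
    refine sup_le (sup_le (sup_le ?_ ?_) ?_) (sup_le (sup_le ?_ ?_) ?_)
    · exact sp_mul_sp.trans le_sup_left
    · exact le_sup_right
    · exact haab.trans le_sup_right
    · exact hI ▸ hab_a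
    · exact habb.trans le_sup_right
    · exact hI ▸ hab_ab
  have hJn : ∀ i, J ^ (i + 1) ≤ sp V ^ (i + 1) ⊔ I := by
    intro i
    induction i with
    | zero =>
      rw [zero_add, pow_one, pow_one, hJ, hI]
      exact sup_le (sup_le (le_sup_left.trans le_sup_right) le_sup_left)
        (le_sup_right.trans le_sup_right)
    | succ i ih =>
      rw [pow_succ J, pow_succ (sp V)]
      refine (mul_le_mul' ih le_rfl).trans ?_
      rw [Submodule.sup_mul]
      refine sup_le ?_ (hIJ.trans le_sup_right)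
      have hpI : ∀ j, sp V ^ (j + 1) * I ≤ I := by
        intro j
        induction j with
        | zero => rw [zero_add, pow_one]; exact hbI
        | succ j ihj =>
          rw [pow_succ', mul_assoc]
          exact (mul_le_mul' le_rfl ihj).trans hbI
      rw [hJ]
      rw [Submodule.mul_sup, Submodule.mul_sup]
      refine sup_le (sup_le ?_ le_sup_left) ?_
      · exact (mul_le_mul' le_rfl (hI ▸ le_sup_left)).trans ((hpI i).trans le_sup_right)
      · exact (mul_le_mul' le_rfl (hI ▸ le_sup_right)).trans ((hpI i).trans le_sup_right)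
  have hIn : ∀ i, I ^ (i + 1) ≤ sp U ^ (i + 1) ⊔ sp U ^ (i + 1) * sp V := by
    intro i
    induction i with
    | zero => rw [zero_add, pow_one, pow_one, hI]
    | succ i ih =>
      rw [pow_succ I, pow_succ (sp U)]
      refine (mul_le_mul' ih le_rfl).trans ?_
      rw [Submodule.sup_mul]
      refine sup_le ?_ ?_
      · rw [hI, Submodule.mul_sup, mul_assoc]
      · rw [mul_assoc, hI, Submodule.mul_sup, Submodule.mul_sup, ← mul_assoc (sp V)]
        refine sup_le ?_ ?_
        · refine (mul_le_mul' le_rfl hba).trans ?_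
          rw [hI, Submodule.mul_sup, mul_assoc]
        · refine (mul_le_mul' le_rfl hbab).trans ?_
          rw [mul_assoc]; exact le_sup_right
  refine ⟨(n + 1) * (m + 1), eq_bot_iff.2 ?_⟩
  refine (pow_le_pow_left' hJle _).trans ?_
  rw [pow_mul]
  have h1 : J ^ (n + 1) ≤ I := by
    have h := hJn n
    rwa [pow_succ (sp V), hn', Submodule.bot_mul, bot_sup_eq] at h
  refine (pow_le_pow_left' h1 _).trans ((hIn m).trans ?_)
  rw [pow_succ (sp U), hm, Submodule.bot_mul, Submodule.bot_mul, bot_sup_eq]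

/-- The normaliser condition inside a group acting unipotently. -/
theorem normalizer_condition (hU : IsUnipotentOn U) {N : Subgroup GLM} (hne : ¬ U ≤ N)
    (hN : N ≤ U) : ∃ g ∈ U, g ∉ N ∧ conjBy N g = N := by
  obtain ⟨n, hn⟩ := isUnipotentOn_iff.1 hU
  have hex : ∃ i, ∀ g ∈ U, (g : EndM) - 1 ∈ sp U ^ (i + 1) → g ∈ N := by
    refine ⟨n, fun g _ hg => ?_⟩
    rw [pow_succ, hn, Submodule.bot_mul, Submodule.mem_bot, sub_eq_zero] at hg
    rw [show g = 1 from Units.ext hg]
    exact one_mem N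
  classical
  obtain ⟨i, hi, hmin⟩ : ∃ i, (∀ g ∈ U, (g : EndM) - 1 ∈ sp U ^ (i + 1) → g ∈ N) ∧
      ∀ j < i, ¬ ∀ g ∈ U, (g : EndM) - 1 ∈ sp U ^ (j + 1) → g ∈ N :=
    ⟨Nat.find hex, Nat.find_spec hex, fun j hj => Nat.find_min hex hj⟩
  rcases i with _ | i
  · exact absurd (fun g hg => hi g hg (by rw [zero_add, pow_one]; exact sub_one_mem hg)) hne
  have h := hmin i (Nat.lt_succ_self i)
  push Not at h
  obtain ⟨g, hgU, hgp, hgN⟩ := h
  refine ⟨g, hgU, hgN, ?_⟩
  have hpu : ∀ x ∈ sp U ^ (i + 2), ∀ w ∈ U, x * (w : EndM) ∈ sp U ^ (i + 2) := by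
    intro x hx w hw
    have e : x * (w : EndM) = x * ((w : EndM) - 1) + x := by noncomm_ring
    rw [e]
    refine add_mem ?_ hx
    have hle : sp U ^ (i + 2) * sp U ≤ sp U ^ (i + 2) := by
      rw [show i + 2 = (i + 1) + 1 from rfl, pow_succ (sp U) (i + 1), mul_assoc]
      exact mul_le_mul' le_rfl sp_mul_sp
    exact hle (Submodule.mul_mem_mul hx (sub_one_mem hw))
  have comm : ∀ y ∈ U, (y : EndM) - 1 ∈ sp U ^ (i + 1) → ∀ x ∈ N, y * x * y⁻¹ ∈ N := by
    intro y hy hyp x hx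
    have hd : ((y : EndM) - 1) * ((x : EndM) - 1) - ((x : EndM) - 1) * ((y : EndM) - 1)
        ∈ sp U ^ (i + 2) :=
      sub_mem (by rw [pow_succ (sp U) (i + 1)]; exact Submodule.mul_mem_mul hyp (sub_one_mem (hN hx)))
        (by rw [pow_succ' (sp U) (i + 1)]; exact Submodule.mul_mem_mul (sub_one_mem (hN hx)) hyp)
    have h1 := hpu _ hd _ (mul_mem (inv_mem hy) (inv_mem (hN hx)))
    have h2 : ((y * x * y⁻¹ * x⁻¹ : GLM) : EndM) - 1
        = (((y : EndM) - 1) * ((x : EndM) - 1) - ((x : EndM) - 1) * ((y : EndM) - 1))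
          * ((y⁻¹ * x⁻¹ : GLM) : EndM) := by
      have h3 : (y : EndM) * (x : EndM) - (x : EndM) * (y : EndM)
          = ((y : EndM) - 1) * ((x : EndM) - 1) - ((x : EndM) - 1) * ((y : EndM) - 1) := by
        noncomm_ring
      rw [← h3, sub_mul, ← Units.val_mul, ← Units.val_mul, ← Units.val_mul,
        show y * x * (y⁻¹ * x⁻¹) = y * x * y⁻¹ * x⁻¹ by group, ← Units.val_mul,
        show x * y * (y⁻¹ * x⁻¹) = 1 by group, Units.val_one]
    have h4 := hi _ (mul_mem (mul_mem (mul_mem hy (hN hx)) (inv_mem hy)) (inv_mem (hN hx))) (h2 ▸ h1)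
    simpa using mul_mem h4 hx
  have hgp' : ((g⁻¹ : GLM) : EndM) - 1 ∈ sp U ^ (i + 1) := by
    have e : ((g⁻¹ : GLM) : EndM) - 1
        = -(((g : EndM) - 1) * (((g⁻¹ : GLM) : EndM) - 1) + ((g : EndM) - 1)) := by
      have h1 : (g : EndM) * ((g⁻¹ : GLM) : EndM) = 1 := g.mul_inv
      rw [show ((g : EndM) - 1) * (((g⁻¹ : GLM) : EndM) - 1) + ((g : EndM) - 1)
        = (g : EndM) * ((g⁻¹ : GLM) : EndM) - ((g⁻¹ : GLM) : EndM) by noncomm_ring, h1, neg_sub]
    rw [e]
    refine neg_mem (add_mem ?_ hgp)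
    have hle : sp U ^ (i + 1) * sp U ≤ sp U ^ (i + 1) := by
      rw [pow_succ (sp U) i, mul_assoc]
      exact mul_le_mul' le_rfl sp_mul_sp
    exact hle (Submodule.mul_mem_mul hgp (sub_one_mem (inv_mem hgU)))
  apply conjBy_of_mem_normalizer
  rw [Subgroup.mem_normalizer_iff]
  exact fun x => ⟨comm g hgU hgp x, fun hx => by
    simpa [mul_assoc] using comm g⁻¹ (inv_mem hgU) hgp' _ hx⟩

/-- A conjugation invariant family, any two members of which generate a group acting unipotently,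
generates a group acting unipotently. -/
theorem iSup_unipotent [FiniteDimensional k M] {W : Set (Subgroup GLM)}
    (hWW : ∀ A ∈ W, ∀ B ∈ W, IsUnipotentOn (A ⊔ B))
    (hWconj : ∀ A ∈ W, ∀ B ∈ W, ∀ b ∈ B, conjBy A b ∈ W) :
    IsUnipotentOn (⨆ A ∈ W, A) := by
  classical
  let sat : Subgroup GLM → Subgroup GLM := fun U => ⨆ A ∈ {A | A ∈ W ∧ A ≤ inSp U}, A
  have hsat_le : ∀ U, sat U ≤ inSp U := fun U => iSup₂_le fun A hA => hA.2
  have hmem : ∀ {U A}, A ∈ W → A ≤ inSp U → A ≤ sat U := fun {U A} hA h =>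
    le_iSup₂_of_le (f := fun (A : Subgroup GLM) (_ : A ∈ {A | A ∈ W ∧ A ≤ inSp U}) => A) A ⟨hA, h⟩ le_rfl
  -- the saturated unipotent subgroups
  let P : Subgroup GLM → Prop := fun U => IsUnipotentOn U ∧ sat U = U
  have satP : ∀ U, IsUnipotentOn U → P (sat U) := by
    intro U hU
    have h1 : sp (sat U) ≤ sp U := sp_le_of_le_inSp (hsat_le U)
    refine ⟨isUnipotentOn_mono h1 hU, le_antisymm (iSup₂_le fun A hA => hmem hA.1 ?_) ?_⟩
    · exact fun a ha => ⟨h1 (hA.2 ha).1, h1 (hA.2 ha).2⟩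
    · exact iSup₂_le fun A hA => hmem hA.1 ((hmem hA.1 hA.2).trans le_inSp)
  have hstrict : ∀ U V, P U → P V → U ≤ V →
      Module.finrank k (sp V) ≤ Module.finrank k (sp U) → U = V := by
    intro U V hU hV hle hr
    have he : sp U = sp V := Submodule.eq_of_le_of_finrank_le (sp_mono hle) hr
    refine le_antisymm hle ?_
    rw [← hV.2]
    exact iSup₂_le fun A hA => hU.2 ▸ hmem hA.1 fun a ha => ⟨he ▸ (hA.2 ha).1, he ▸ (hA.2 ha).2⟩
  let Pm : Subgroup GLM → Prop := fun U => P U ∧ ∀ V, P V → U ≤ V → V = U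
  have hbound : ∀ U : Subgroup GLM, Module.finrank k (sp U) ≤ Module.finrank k EndM :=
    fun U => Submodule.finrank_le _
  have hext : ∀ U, P U → ∃ V, Pm V ∧ U ≤ V := by
    intro U hU
    obtain ⟨r, hr⟩ : ∃ r, r = Module.finrank k EndM - Module.finrank k (sp U) := ⟨_, rfl⟩
    induction r using Nat.strong_induction_on generalizing U with
    | _ r ih =>
      by_cases h : ∀ V, P V → U ≤ V → V = U
      · exact ⟨U, ⟨hU, h⟩, le_rfl⟩
      push Not at h
      obtain ⟨V, hV, hle, hne⟩ := h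
      have hlt : Module.finrank k (sp U) < Module.finrank k (sp V) := by
        by_contra hcon
        exact hne (hstrict U V hU hV hle (not_lt.1 hcon)).symm
      obtain ⟨Z, hZ, hVZ⟩ := ih _ (by have := hbound V; omega) V hV rfl
      exact ⟨Z, hZ, hle.trans hVZ⟩
  have hunitbot : IsUnipotentOn (⊥ : Subgroup GLM) := ⟨1, fun l hl he => by
    obtain ⟨g, rfl⟩ := List.length_eq_one_iff.1 he
    simp [Subgroup.mem_bot.1 (hl g (List.mem_singleton_self g))]⟩
  obtain ⟨U₁, hU₁, -⟩ := hext _ (satP ⊥ hunitbot)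
  by_cases hall : ∀ A ∈ W, A ≤ U₁
  · exact isUnipotentOn_mono (sp_mono (iSup₂_le hall)) hU₁.1.1
  exfalso
  push Not at hall
  obtain ⟨A₀, hA₀, hA₀U⟩ := hall
  obtain ⟨U₂, hU₂, hle₂⟩ := hext _ (satP _ (hWW A₀ hA₀ A₀ hA₀))
  have hne₁₂ : U₂ ≠ U₁ := fun e => hA₀U (e ▸ ((hmem hA₀ (le_sup_left.trans le_inSp)).trans hle₂))
  let meet : Subgroup GLM → Subgroup GLM → Subgroup GLM := fun U V =>
    ⨆ A ∈ {A | A ∈ W ∧ A ≤ U ∧ A ≤ V}, A
  have meetP : ∀ U V, P U → P V → P (meet U V) := by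
    intro U V hU hV
    have hlU : meet U V ≤ U := iSup₂_le fun A hA => hA.2.1
    have hlV : meet U V ≤ V := iSup₂_le fun A hA => hA.2.2
    refine ⟨isUnipotentOn_mono (sp_mono hlU) hU.1, le_antisymm (iSup₂_le fun A hA => ?_)
      (iSup₂_le fun A hA => ?_)⟩
    · refine le_iSup₂_of_le (f := fun (B : Subgroup GLM) (_ : B ∈ {B | B ∈ W ∧ B ≤ U ∧ B ≤ V}) => B)
        A ⟨hA.1, ?_, ?_⟩ le_rfl
      · exact hU.2 ▸ hmem hA.1 fun a ha => ⟨sp_mono hlU (hA.2 ha).1, sp_mono hlU (hA.2 ha).2⟩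
      · exact hV.2 ▸ hmem hA.1 fun a ha => ⟨sp_mono hlV (hA.2 ha).1, sp_mono hlV (hA.2 ha).2⟩
    · exact hmem hA.1 ((le_iSup₂_of_le
        (f := fun (B : Subgroup GLM) (_ : B ∈ {B | B ∈ W ∧ B ≤ U ∧ B ≤ V}) => B) A hA le_rfl).trans
        le_inSp)
  let T : Set ℕ := {r | ∃ U V, Pm U ∧ Pm V ∧ U ≠ V ∧ r = Module.finrank k (sp (meet U V))}
  have hTb : BddAbove T := ⟨Module.finrank k EndM, by rintro r ⟨U, V, -, -, -, rfl⟩; exact hbound _⟩
  have hTne : T.Nonempty := ⟨_, U₂, U₁, hU₂, hU₁, hne₁₂, rfl⟩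
  obtain ⟨U, V, hU, hV, hUV, hr⟩ := Nat.sSup_mem hTne hTb
  obtain ⟨D, hD⟩ : ∃ D, D = meet U V := ⟨_, rfl⟩
  have hDP : P D := hD ▸ meetP U V hU.1 hV.1
  -- a member outside `D` normalising `D`, inside a given member of `{U, V}`
  have key : ∀ U', P U' → D ≤ U' → D ≠ U' →
      ∃ A ∈ W, A ≤ U' ∧ ¬ A ≤ D ∧ A ≤ Subgroup.normalizer (D : Set GLM) := by
    intro U' hU' hle hne
    by_contra hcon
    push Not at hcon
    obtain ⟨N, hN⟩ : ∃ N, N = U' ⊓ Subgroup.normalizer (D : Set GLM) := ⟨_, rfl⟩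
    have hDN : D ≤ N := hN ▸ le_inf hle Subgroup.le_normalizer
    have hUN : ¬ U' ≤ N := by
      intro h
      refine hne (le_antisymm hle ?_)
      rw [← hU'.2]
      refine iSup₂_le fun A hA => ?_
      have hAU : A ≤ U' := hU'.2 ▸ hmem hA.1 hA.2
      by_contra hAD
      exact hcon A hA.1 hAU hAD ((hAU.trans h).trans (hN ▸ inf_le_right))
    obtain ⟨g, hgU, hgN, hgfix⟩ := normalizer_condition hU'.1 hUN (hN ▸ inf_le_left)
    refine hgN (hN ▸ ⟨hgU, mem_normalizer_iff_conjBy.2 ?_⟩)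
    have hconjle : ∀ h : GLM, conjBy N h = N → h ∈ U' → conjBy D h ≤ D := by
      intro h hfix hh
      have hD' : D = ⨆ A ∈ {A | A ∈ W ∧ A ≤ D}, A :=
        le_antisymm (hD ▸ iSup₂_le fun A hA => le_iSup₂_of_le
          (f := fun (B : Subgroup GLM) (_ : B ∈ {B | B ∈ W ∧ B ≤ meet U V}) => B) A
          ⟨hA.1, le_iSup₂_of_le (f := fun (B : Subgroup GLM) (_ : B ∈ {B | B ∈ W ∧ B ≤ U ∧ B ≤ V}) => B)
            A hA le_rfl⟩ le_rfl) (iSup₂_le fun A hA => hA.2)
      have hWh : ∀ A ∈ W, conjBy A h ∈ W := by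
        rw [← hU'.2] at hh
        have hcl : sat U' ≤ Subgroup.closure (⋃ A ∈ {A | A ∈ W ∧ A ≤ inSp U'}, (A : Set GLM)) :=
          iSup₂_le fun A hA a ha => Subgroup.subset_closure (Set.mem_biUnion hA ha)
        have hc := hcl hh
        clear hfix hh
        have both : ∀ A ∈ W, conjBy A h ∈ W ∧ conjBy A h⁻¹ ∈ W := by
          induction hc using Subgroup.closure_induction with
          | mem y hy =>
            obtain ⟨B, hB, hy⟩ := Set.mem_iUnion₂.1 hy
            exact fun A hA => ⟨hWconj A hA B hB.1 y hy, hWconj A hA B hB.1 _ (inv_mem hy)⟩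
          | one => intro A hA; simp [conjBy_one, hA]
          | mul y z _ _ ihy ihz =>
            intro A hA
            refine ⟨?_, ?_⟩
            · rw [← conjBy_conjBy]; exact (ihy _ (ihz A hA).1).1
            · rw [mul_inv_rev, ← conjBy_conjBy]; exact (ihz _ (ihy A hA).2).2
          | inv y _ ih => intro A hA; rw [inv_inv]; exact (ih A hA).symm
        exact fun A hA => (both A hA).1
      rw [hD', conjBy, Subgroup.map_iSup]
      refine iSup_le fun A => ?_
      rw [Subgroup.map_iSup]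
      refine iSup_le fun hA => ?_
      rw [← hD']
      have hAN : conjBy A h ≤ N := hfix ▸ conjBy_mono (hA.2.trans hDN)
      by_contra hAD
      exact hcon _ (hWh A hA.1) (hAN.trans (hN ▸ inf_le_left)) hAD (hAN.trans (hN ▸ inf_le_right))
    refine le_antisymm (hconjle g hgfix hgU) ?_
    have h := conjBy_mono (g := g) (hconjle g⁻¹ (by rw [← hgfix, conjBy_inv_cancel, hgfix]) (inv_mem hgU))
    rwa [conjBy_cancel_inv] at h
  have hDU : D ≤ U := hD ▸ iSup₂_le fun A hA => hA.2.1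
  have hDV : D ≤ V := hD ▸ iSup₂_le fun A hA => hA.2.2
  have hDU' : D ≠ U := fun e => hUV (hU.2 V hV.1 (e ▸ hDV)).symm
  have hDV' : D ≠ V := fun e => hUV (hV.2 U hU.1 (e ▸ hDU))
  obtain ⟨A, hAW, hAU, hAD, hAn⟩ := key U hU.1 hDU hDU'
  obtain ⟨B, hBW, hBV, hBD, hBn⟩ := key V hV.1 hDV hDV'
  obtain ⟨Z, hZ, hleZ⟩ := hext _ (satP _ (sup_normal hDP.1 (hWW A hAW B hBW) (sup_le hAn hBn)))
  have hin : ∀ {C}, C ∈ W → C ≤ D ⊔ (A ⊔ B) → C ≤ Z := fun hC h =>
    (hmem hC (h.trans le_inSp)).trans hleZ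
  have bigger : ∀ U', Pm U' → ∀ C ∈ W, C ≤ U' → C ≤ Z → ¬ C ≤ D → D ≤ U' → Z = U' := by
    intro U' hU' C hC hCU hCZ hCD hDU''
    by_contra hZU
    have hle : D ≤ meet Z U' := by
      rw [← hDP.2]
      refine iSup₂_le fun E hE => ?_
      have hED : E ≤ D := hDP.2 ▸ hmem hE.1 hE.2
      exact le_iSup₂_of_le (f := fun (B : Subgroup GLM) (_ : B ∈ {B | B ∈ W ∧ B ≤ Z ∧ B ≤ U'}) => B) E
        ⟨hE.1, hin hE.1 (hED.trans le_sup_left), hED.trans hDU''⟩ le_rfl
    have hm : Module.finrank k (sp (meet Z U')) ≤ Module.finrank k (sp D) := by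
      rw [hD, ← hr]
      exact le_csSup hTb ⟨Z, U', hZ, hU', hZU, rfl⟩
    refine hCD ?_
    rw [hstrict D _ hDP (meetP Z U' hZ.1 hU'.1) hle hm]
    exact le_iSup₂_of_le (f := fun (B : Subgroup GLM) (_ : B ∈ {B | B ∈ W ∧ B ≤ Z ∧ B ≤ U'}) => B) C
      ⟨hC, hCZ, hCU⟩ le_rfl
  exact hUV ((bigger U hU A hAW hAU (hin hAW (le_sup_left.trans le_sup_right)) hAD hDU).symm.trans
    (bigger V hV B hBW hBV (hin hBW (le_sup_right.trans le_sup_right)) hBD hDV))

end Cfsg.Agent.RootSubgroups.Unipotent
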