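import Mathlib
import Cfsg.Agent.Lib.RootSubgroups.Gamma
import Cfsg.Agent.Lib.RootSubgroups.Unipotent

/-!
Two quadratic elements of minimal rank: they act unipotently, or generate `SL₂(k(λ))`.
-/

set_option autoImplicit false
open Cfsg Polynomial

namespace Cfsg.Agent.RootSubgroups

namespace Dk

variable {k : Type*} [Field k] {R : Type*} [CommRing R] [Algebra k R]

/-- Conjugation by `diag(s, 1/s)`, as a map. -/
def scaleFun (s si : R) (h : si * s = 1) (g : Matrix.SpecialLinearGroup (Fin 2) R) :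
    Matrix.SpecialLinearGroup (Fin 2) R :=
  ⟨!![g.1 0 0, g.1 0 1 * s ^ 2; g.1 1 0 * si ^ 2, g.1 1 1], by
    have hd := g.2
    rw [Matrix.det_fin_two] at hd
    rw [Matrix.det_fin_two_of]
    linear_combination hd - g.1 0 1 * g.1 1 0 * (si * s + 1) * h⟩

@[simp] theorem scaleFun_val (s si : R) (h : si * s = 1) (g : Matrix.SpecialLinearGroup (Fin 2) R) :
    (scaleFun s si h g).1 = !![g.1 0 0, g.1 0 1 * s ^ 2; g.1 1 0 * si ^ 2, g.1 1 1] := rfl

/-- Conjugation by `diag(s, 1/s)`. -/
def scale (s si : R) (h : si * s = 1) :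
    Matrix.SpecialLinearGroup (Fin 2) R →* Matrix.SpecialLinearGroup (Fin 2) R :=
  MonoidHom.mk' (scaleFun s si h) fun g g' => by
    apply ext2 <;> simp [Matrix.mul_apply, Fin.sum_univ_two]
    · linear_combination (-(g.1 0 1 * g'.1 1 0) * (si * s + 1)) * h
    · ring
    · ring
    · linear_combination (-(g.1 1 0 * g'.1 0 1) * (si * s + 1)) * h

theorem upp_smul_mem (h2 : (2 : k) ≠ 0) {lam b : R} (hb : upp b ∈ grp k lam) (c : k) :
    upp (c • b) ∈ grp k lam := by
  have sq : ∀ t : k, upp (t ^ 2 • b) ∈ grp k lam := by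
    intro t
    rcases eq_or_ne t 0 with rfl | ht
    · rw [zero_pow two_ne_zero, zero_smul, upp_zero]; exact one_mem _
    have hs : algebraMap k R t⁻¹ * algebraMap k R t = 1 := by
      rw [← map_mul, inv_mul_cancel₀ ht, map_one]
    set φ := scale (algebraMap k R t) (algebraMap k R t⁻¹) hs
    have hφ : ∀ g ∈ grp k lam, φ g ∈ grp k lam := by
      intro g hg
      refine grp_induction (k := k) (p := fun g => φ g ∈ grp k lam) ?_ ?_ ?_ hg
      · rw [map_one]; exact one_mem _
      · intro g _ ih a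
        have e : φ (upp (algebraMap k R a)) = upp (algebraMap k R (a * t ^ 2)) := by
          apply ext2 <;> simp [φ, scale]
        rw [map_mul, e]; exact mul_mem ih (upp_mem_grp lam _)
      · intro g _ ih a
        have e : φ (low (algebraMap k R a * lam)) = low (algebraMap k R (a * t⁻¹ * t⁻¹) * lam) := by
          apply ext2 <;> simp [φ, scale]; ring
        rw [map_mul, e]; exact mul_mem ih (low_mem_grp lam _)
    have e : φ (upp b) = upp (t ^ 2 • b) := by
      apply ext2 <;> simp [φ, scale, Algebra.smul_def]; ring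
    exact e ▸ hφ _ hb
  have e : c = ((c + 1) / 2) ^ 2 - ((c - 1) / 2) ^ 2 := by field_simp; ring
  rw [e, sub_smul, sub_eq_add_neg, upp_add, ← upp_inv]
  exact mul_mem (sq _) (inv_mem (sq _))

end Dk

namespace Gamma

variable {k : Type*} [Field k] {M : Type*} [AddCommGroup M] [Module k M]

local notation "GLM" => LinearMap.GeneralLinearGroup k M
local notation "EndM" => Module.End k M

variable {S T : Module.End k M}

theorem commP (A : EndM) (p q : k[X]) : aeval A p * aeval A q = aeval A q * aeval A p :=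
  ((Commute.all p q).map (aeval A)).eq

/-- If `X` does not divide the modulus, `T` kills it as well and `T = T h(ST) ST`. -/
theorem T_kills [FiniteDimensional k M] {f : k[X]}
    (hf : ∀ q, aeval (S * T) q * S = 0 ↔ f ∣ q) (h0 : f.coeff 0 ≠ 0)
    (hrank : Module.finrank k (LinearMap.range T) = Module.finrank k (LinearMap.range S)) :
    T * aeval (S * T) f = 0 := by
  set a := f.coeff 0
  set h := C (-a⁻¹) * f.divX
  have hfS : aeval (S * T) f * S = 0 := (hf f).2 dvd_rfl
  have hS : aeval (S * T) h * (S * T) * S = S := by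
    have e : aeval (S * T) (X * f.divX + C a) * S = 0 := by rw [X_mul_divX_add]; exact hfS
    rw [map_add, map_mul, aeval_X, aeval_C, Algebra.algebraMap_eq_smul_one, add_mul, smul_mul_assoc,
      one_mul, add_eq_zero_iff_eq_neg] at e
    rw [map_mul, aeval_C, Algebra.algebraMap_eq_smul_one, smul_mul_assoc, one_mul, smul_mul_assoc,
      smul_mul_assoc, commX, e, smul_neg, neg_smul, neg_neg, smul_smul, inv_mul_cancel₀ h0, one_smul]
  set e := aeval (S * T) h * (S * T) with he
  have hr : LinearMap.range e = LinearMap.range S := by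
    refine le_antisymm ?_ ?_
    · rintro _ ⟨m, rfl⟩
      refine ⟨(aeval (T * S) h * T) m, ?_⟩
      show (S * (aeval (T * S) h * T)) m = e m
      rw [he, ← mul_assoc, semiconj', mul_assoc]
    · rintro _ ⟨m, rfl⟩
      exact ⟨S m, LinearMap.congr_fun hS m⟩
  have hk : LinearMap.ker e = LinearMap.ker T := by
    refine (Submodule.eq_of_le_of_finrank_le (fun m hm => ?_) (le_of_eq ?_)).symm
    · rw [LinearMap.mem_ker] at hm ⊢
      show aeval (S * T) h (S (T m)) = 0
      rw [hm, map_zero, map_zero]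
    · have h1 := LinearMap.finrank_range_add_finrank_ker e
      have h2 := LinearMap.finrank_range_add_finrank_ker T
      rw [hr] at h1
      omega
  have hTe : T * e = T := by
    refine LinearMap.ext fun m => ?_
    have : e (e m) = e m := by
      obtain ⟨y, hy⟩ : e m ∈ LinearMap.range S := hr ▸ LinearMap.mem_range_self e m
      rw [← hy]; exact LinearMap.congr_fun hS y
    have h' : e m - m ∈ LinearMap.ker T := hk ▸ by rw [LinearMap.mem_ker, map_sub, this, sub_self]
    rw [LinearMap.mem_ker, map_sub, sub_eq_zero] at h'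
    exact h'
  calc T * aeval (S * T) f = T * (aeval (S * T) h * (aeval (S * T) (X : k[X]) * aeval (S * T) f)) := by
        conv_lhs => arg 1; rw [← hTe]
        rw [he, aeval_X, mul_assoc, mul_assoc]
    _ = 0 := by
        rw [commP, aeval_X, ← mul_assoc (aeval (S * T) f) S T, hfS, zero_mul, mul_zero, mul_zero]

/-- The value of an element congruent to `upp q`. -/
theorem val_eq {f F q : k[X]}
    (hf : ∀ q, aeval (S * T) q * S = 0 ↔ f ∣ q)
    (hcase : (f.coeff 0 ≠ 0 ∧ T * aeval (S * T) f = 0 ∧ F = f) ∨ F = X ^ 2 * f)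
    {g : Matrix.SpecialLinearGroup (Fin 2) k[X]} (hg : g ∈ Dk.grp k (X : k[X]))
    (h00 : F ∣ g.1 0 0 - 1) (h01 : F ∣ g.1 0 1 - q) (h10 : F ∣ g.1 1 0) (h11 : F ∣ g.1 1 1 - 1) :
    val S T g = 1 + aeval (S * T) q * S := by
  obtain ⟨c00, c10, c11⟩ := const_terms hg
  have hfF : f ∣ F := by rcases hcase with ⟨-, -, rfl⟩ | rfl <;> simp
  have key : ∀ a : k[X], a.coeff 0 = 0 → F ∣ a → f ∣ a.divX ∧ (F = X ^ 2 * f → X * f ∣ a.divX) := by
    intro a ha hFa
    have e : a = X * a.divX := by
      conv_lhs => rw [← X_mul_divX_add a, ha, C_0, add_zero]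
    rw [e] at hFa
    have h2 : F = X ^ 2 * f → X * f ∣ a.divX := fun hF => by
      rw [hF, sq, mul_assoc] at hFa
      exact (mul_dvd_mul_iff_left X_ne_zero).1 hFa
    refine ⟨?_, h2⟩
    rcases hcase with ⟨h0, -, hF⟩ | hF
    · rw [hF] at hFa
      exact ((irreducible_X.coprime_iff_not_dvd.2 (fun hd => h0 (X_dvd_iff.1 hd))).symm).dvd_of_dvd_mul_left hFa
    · exact dvd_of_mul_left_dvd (h2 hF)
  have d00 := key (g.1 0 0 - 1) (by rw [coeff_sub, c00, coeff_one_zero, sub_self]) h00
  have d10 := key (g.1 1 0) c10 h10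
  have d11 := key (g.1 1 1 - 1) (by rw [coeff_sub, c11, coeff_one_zero, sub_self]) h11
  have t1 : aeval (S * T) (g.1 0 0 - 1).divX * (S * T) = 0 := by
    rw [← mul_assoc, (hf _).2 d00.1, zero_mul]
  have t2 : aeval (S * T) (g.1 0 1) * S = aeval (S * T) q * S := by
    rw [← sub_eq_zero, ← sub_mul, ← map_sub]; exact (hf _).2 (hfF.trans h01)
  have t3 : T * aeval (S * T) (g.1 1 0).divX = 0 := by
    rcases hcase with ⟨-, hT, -⟩ | hF
    · obtain ⟨r, hr⟩ := d10.1
      rw [hr, map_mul, ← mul_assoc, hT, zero_mul]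
    · obtain ⟨r, hr⟩ := d10.2 hF
      rw [hr, show X * f * r = r * f * X by ring, map_mul, aeval_X, ← mul_assoc, ← mul_assoc, mul_assoc T,
        (hf _).2 (dvd_mul_left _ _), mul_zero, zero_mul]
  have t4 : aeval (T * S) (g.1 1 1 - 1).divX * (T * S) = 0 := by
    rw [← mul_assoc, ← semiconj, mul_assoc, (hf _).2 d11.1, mul_zero]
  rw [val, t1, t2, t3, t4, add_zero, add_zero, add_zero]

theorem exists_lift {F : k[X]} {b : Matrix.SpecialLinearGroup (Fin 2) (AdjoinRoot F)}
    (hb : b ∈ Dk.grp k (AdjoinRoot.root F)) :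
    ∃ g ∈ Dk.grp k (X : k[X]), Matrix.SpecialLinearGroup.map (AdjoinRoot.mk F) g = b := by
  have h := Dk.map_grp (k := k) (Polynomial.aeval (AdjoinRoot.root F)) (X : k[X])
  rw [aeval_X] at h
  rw [← h] at hb
  obtain ⟨g, hg, e⟩ := hb
  refine ⟨g, hg, ?_⟩
  rw [← e]
  apply Dk.ext2 <;> simp [AdjoinRoot.aeval_eq]

theorem dvd_of_map_eq {F : k[X]} {g h : Matrix.SpecialLinearGroup (Fin 2) k[X]}
    (e : Matrix.SpecialLinearGroup.map (AdjoinRoot.mk F) g =
      Matrix.SpecialLinearGroup.map (AdjoinRoot.mk F) h) (i j : Fin 2) :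
    F ∣ g.1 i j - h.1 i j := by
  rw [← AdjoinRoot.mk_eq_zero, map_sub, sub_eq_zero]
  have := congrArg (fun x : Matrix.SpecialLinearGroup (Fin 2) (AdjoinRoot F) => x.1 i j) e
  simpa using this

theorem map_eq_one_iff {F : k[X]} (g : Matrix.SpecialLinearGroup (Fin 2) k[X]) :
    Matrix.SpecialLinearGroup.map (AdjoinRoot.mk F) g = 1 ↔
      F ∣ g.1 0 0 - 1 ∧ F ∣ g.1 0 1 ∧ F ∣ g.1 1 0 ∧ F ∣ g.1 1 1 - 1 := by
  simp only [← AdjoinRoot.mk_eq_zero, map_sub, map_one, sub_eq_zero]
  constructor
  · intro h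
    have := fun i j => congrArg (fun x : Matrix.SpecialLinearGroup (Fin 2) (AdjoinRoot F) => x.1 i j) h
    exact ⟨by simpa using this 0 0, by simpa using this 0 1, by simpa using this 1 0, by simpa using this 1 1⟩
  · rintro ⟨a, b, c, d⟩
    apply Dk.ext2 <;> simp [a, b, c, d]

section Pair

variable [FiniteDimensional k M] {G : Subgroup (LinearMap.GeneralLinearGroup k M)}
  {σ τ : LinearMap.GeneralLinearGroup k M}

theorem closure_le (hσ : σ ∈ quadraticElements G) (hτ : τ ∈ quadraticElements G) :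
    Subgroup.closure (scalarFamily σ ∪ scalarFamily τ) ≤ G :=
  (Subgroup.closure_le _).2 (Set.union_subset hσ.2.2 hτ.2.2)

theorem range_eq (hσ : σ ∈ quadraticElements G) (hτ : τ ∈ quadraticElements G) :
    (hom (Quad.mem_quadratic.1 hσ).1 (Quad.mem_quadratic.1 hτ).1).range =
      Subgroup.closure (scalarFamily σ ∪ scalarFamily τ) :=
  hom_range _ _

/-- The structure of a pair of minimal quadratic elements. -/
theorem dichotomy (hk2 : ringChar k ≠ 2) (hk3 : Nat.card k ≠ 3)
    (hσ : σ ∈ minimalQuadraticElements G) (hτ : τ ∈ minimalQuadraticElements G) :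
    (Quad.nil σ * Quad.nil τ * Quad.nil σ = 0 ∧ Quad.nil τ * Quad.nil σ * Quad.nil τ = 0) ∨
    ∃ f : k[X], f.Monic ∧ Irreducible f ∧ f.coeff 0 ≠ 0 ∧
      (∀ q, aeval (Quad.nil σ * Quad.nil τ) q * Quad.nil σ = 0 ↔ f ∣ q) ∧
      Quad.nil τ * aeval (Quad.nil σ * Quad.nil τ) f = 0 := by
  have h2 := Dk.two_ne_zero_of_ringChar hk2
  have hrk : commutatorRank τ = commutatorRank σ := le_antisymm (hτ.2 σ hσ.1) (hσ.2 τ hτ.1)
  have main : ∀ {σ τ : GLM}, σ ∈ minimalQuadraticElements G → τ ∈ minimalQuadraticElements G →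
      commutatorRank τ = commutatorRank σ → Quad.nil σ * Quad.nil τ * Quad.nil σ = 0 ∨
      ∃ f : k[X], f.Monic ∧ Irreducible f ∧ f.coeff 0 ≠ 0 ∧
        (∀ q, aeval (Quad.nil σ * Quad.nil τ) q * Quad.nil σ = 0 ↔ f ∣ q) ∧
        Quad.nil τ * aeval (Quad.nil σ * Quad.nil τ) f = 0 := by
    intro σ τ hσ hτ hrk
    obtain ⟨hS, hS0, -⟩ := Quad.mem_quadratic.1 hσ.1
    obtain ⟨hT, -, -⟩ := Quad.mem_quadratic.1 hτ.1
    set S := Quad.nil σ
    set T := Quad.nil τ
    obtain ⟨f, hfm, hfd, hf⟩ := exists_modulus (S := S) (T := T) hS0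
    have contra : ∀ F q : k[X], ((f.coeff 0 ≠ 0 ∧ T * aeval (S * T) f = 0 ∧ F = f) ∨ F = X ^ 2 * f) →
        Dk.upp (AdjoinRoot.mk F q) ∈ Dk.grp k (AdjoinRoot.root F) → ¬ f ∣ q → ¬ IsCoprime q f → False := by
      intro F q hcase hq hfq hcop
      set Y := aeval (S * T) q * S with hY
      have hY2 : Y * Y = 0 := aeval_S_nilpotent hS q
      have hYG : ∀ c : k, Quad.unit (c • Y) (Quad.smul_sq hY2 c) ∈ G := by
        intro c
        obtain ⟨g, hg, e⟩ := exists_lift (Dk.upp_smul_mem h2 hq c)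
        have hd := fun i j => dvd_of_map_eq (h := Dk.upp (C c * q)) (e.trans (by
          rw [Dk.map_upp, map_mul, AdjoinRoot.mk_C, Algebra.smul_def, AdjoinRoot.algebraMap_eq])) i j
        have hv := val_eq (q := C c * q) hf hcase hg (by simpa using hd 0 0) (by simpa using hd 0 1)
          (by simpa using hd 1 0) (by simpa using hd 1 1)
        rw [map_mul, aeval_C, Algebra.algebraMap_eq_smul_one, smul_mul_assoc, one_mul, smul_mul_assoc] at hv
        rw [show Quad.unit (c • Y) _ = hom hS hT ⟨g, hg⟩ from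
          Units.ext ((hom_val hS hT ⟨g, hg⟩).trans hv).symm]
        exact closure_le hσ.1 hτ.1 ((range_eq hσ.1 hτ.1).le ⟨_, rfl⟩)
      have hu : Quad.unit Y hY2 ∈ quadraticElements G := Quad.mem_quadratic.2
        ⟨by rw [Quad.nil_unit]; exact hY2, by rw [Quad.nil_unit]; exact fun h => hfq ((hf q).1 h),
          fun c => by
            have := hYG c
            convert this using 2
            rw [Quad.nil_unit]⟩
      have h1 := hσ.2 _ hu
      have e : commutatorRank (Quad.unit Y hY2) = Module.finrank k (LinearMap.range Y) :=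
        congrArg (fun Z : EndM => Module.finrank k (LinearMap.range Z)) (Quad.nil_unit Y hY2)
      rw [e] at h1
      exact absurd h1 (not_le.2 (rank_lt hf hfm.ne_zero hcop))
    by_cases h0 : f.coeff 0 = 0
    · left
      by_cases hfX : f = X
      · have h := (hf X).2 (hfX ▸ dvd_rfl)
        rwa [aeval_X] at h
      exfalso
      have hXf : X ∣ f := X_dvd_iff.2 h0
      rcases finite_or_infinite k with hk | hk
      · obtain ⟨q, hq, h1, h2⟩ := Dk.exists_upp_dvd_X hk2 hk3 hfm hXf hfX
        exact contra _ q (Or.inr rfl) hq h1 h2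
      · have hdeg : 1 ≤ (X ^ 2 * f).natDegree := by
          rw [(monic_X_pow 2).natDegree_mul hfm]; omega
        refine contra _ X (Or.inr rfl) (Dk.upp_mem_infinite h2 ((monic_X_pow 2).mul hfm) hdeg _) ?_
          (Dk.not_isCoprime_of_dvd irreducible_X dvd_rfl hXf)
        intro h
        exact hfX (eq_of_monic_of_associated hfm monic_X (associated_of_dvd_dvd h hXf))
    · right
      have hT' : T * aeval (S * T) f = 0 := T_kills hf h0 hrk
      by_cases hirr : Irreducible f
      · exact ⟨f, hfm, hirr, h0, hf, hT'⟩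
      exfalso
      rcases finite_or_infinite k with hk | hk
      · obtain ⟨q, hq, h1, h2⟩ := Dk.exists_upp_noncoprime hk2 hk3 hfm hfd h0 hirr
        exact contra f q (Or.inl ⟨h0, hT', rfl⟩) hq h1 h2
      · obtain ⟨m, hm, hmi, hmf⟩ := exists_monic_irreducible_factor f
          (fun h => by have := natDegree_eq_zero_of_isUnit h; omega)
        refine contra f m (Or.inl ⟨h0, hT', rfl⟩) (Dk.upp_mem_infinite h2 hfm hfd _) ?_
          (Dk.not_isCoprime_of_dvd hmi dvd_rfl hmf)
        intro h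
        exact hirr (eq_of_monic_of_associated hfm hm (associated_of_dvd_dvd h hmf) ▸ hmi)
  rcases main hσ hτ hrk with h1 | h1
  · left
    refine ⟨h1, ?_⟩
    rcases main hτ hσ hrk.symm with h | ⟨f, -, -, h0, hf, -⟩
    · exact h
    exfalso
    refine h0 (X_dvd_iff.1 ?_)
    have hQ : aeval (Quad.nil τ * Quad.nil σ) ((X : k[X]) ^ 2) * Quad.nil τ = 0 := by
      rw [map_pow, aeval_X, sq]
      calc Quad.nil τ * Quad.nil σ * (Quad.nil τ * Quad.nil σ) * Quad.nil τ
          = Quad.nil τ * (Quad.nil σ * Quad.nil τ * Quad.nil σ) * Quad.nil τ := by noncomm_ring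
        _ = 0 := by rw [h1, mul_zero, zero_mul]
    have hdvd := (hf _).1 hQ
    by_contra hX
    have hu : IsUnit _ := ((irreducible_X.coprime_iff_not_dvd.2 hX).pow_left (m := 2)).isUnit_of_dvd'
      hdvd dvd_rfl
    have h := (hf 1).2 hu.dvd
    rw [map_one, one_mul] at h
    exact (Quad.mem_quadratic.1 hτ.1).2.1 h
  · exact Or.inr h1

/-- The group generated by a pair of the second kind is `SL₂` of the field `k[X]/(f)`. -/
theorem nonempty_equiv (hk2 : ringChar k ≠ 2) (hk3 : Nat.card k ≠ 3)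
    (hσ : σ ∈ quadraticElements G) (hτ : τ ∈ quadraticElements G) {f : k[X]} [Fact (Irreducible f)]
    (hfm : f.Monic) (h0 : f.coeff 0 ≠ 0)
    (hf : ∀ q, aeval (Quad.nil σ * Quad.nil τ) q * Quad.nil σ = 0 ↔ f ∣ q)
    (hT' : Quad.nil τ * aeval (Quad.nil σ * Quad.nil τ) f = 0) :
    Nonempty (Subgroup.closure (scalarFamily σ ∪ scalarFamily τ) ≃*
      Matrix.SpecialLinearGroup (Fin 2) (AdjoinRoot f)) := by
  obtain ⟨hS, -, -⟩ := Quad.mem_quadratic.1 hσ
  obtain ⟨hT, -, -⟩ := Quad.mem_quadratic.1 hτ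
  set S := Quad.nil σ
  set T := Quad.nil τ
  set π := (Matrix.SpecialLinearGroup.map (AdjoinRoot.mk f)).comp (Dk.grp k (X : k[X])).subtype
  have hπ : π.range = ⊤ := by
    rw [eq_top_iff]
    intro b _
    obtain ⟨g, hg, e⟩ := exists_lift (F := f) (b := b) (by
      rw [Dk.grp_adjoinRoot_eq_top hk2 hk3 hfm (Dk.root_ne_zero hfm (Fact.out) h0)]
      exact Subgroup.mem_top b)
    exact ⟨⟨g, hg⟩, e⟩
  have hker : (hom hS hT).ker = π.ker := by
    ext ⟨g, hg⟩
    rw [MonoidHom.mem_ker, MonoidHom.mem_ker]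
    show hom hS hT ⟨g, hg⟩ = 1 ↔ Matrix.SpecialLinearGroup.map (AdjoinRoot.mk f) g = 1
    rw [map_eq_one_iff, Units.ext_iff, hom_val, Units.val_one]
    constructor
    · intro h
      obtain ⟨c00, c10, c11⟩ := const_terms hg
      obtain ⟨p, hp⟩ : ∃ p, p = (g.1 0 0 - 1).divX := ⟨_, rfl⟩
      obtain ⟨r, hr⟩ : ∃ r, r = (g.1 1 0).divX := ⟨_, rfl⟩
      obtain ⟨s, hs⟩ : ∃ s, s = (g.1 1 1 - 1).divX := ⟨_, rfl⟩
      rw [val, ← hp, ← hr, ← hs, add_assoc, add_assoc, add_assoc, add_eq_left] at h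
      have e3 : T * aeval (S * T) r * S = aeval (T * S) r * (T * S) := by rw [semiconj, mul_assoc]
      have hX0 : aeval (S * T) (X * p) * S + aeval (T * S) r * (T * S) = 0 := by
        have := congrArg (fun x => x * S) h
        simp only [add_mul, zero_mul] at this
        have e1 : aeval (S * T) p * (S * T) * S = aeval (S * T) (X * p) * S := by
          rw [map_mul, aeval_X, ← commX]
        have e2 : aeval (S * T) (g.1 0 1) * S * S = 0 := by rw [mul_assoc, hS, mul_zero]
        have e4 : aeval (T * S) s * (T * S) * S = 0 := by rw [mul_assoc, mul_assoc T, hS, mul_zero, mul_zero]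
        rwa [e1, e2, e3, e4, zero_add, add_zero] at this
      have hS1 : ∀ w : k[X], S * aeval (S * T) (X * w) = 0 := fun w => by
        rw [map_mul, aeval_X, ← mul_assoc, ← mul_assoc, hS, zero_mul, zero_mul]
      have hfr : f ∣ r := by
        have h1 := congrArg (fun x => S * x) hX0
        simp only [mul_add, mul_zero] at h1
        rw [← mul_assoc, hS1, zero_mul, zero_add, ← mul_assoc, semiconj', mul_assoc] at h1
        have h2 : aeval (S * T) (r * X) * S = 0 := by rw [map_mul, aeval_X]; simpa [mul_assoc] using h1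
        exact (irreducible_X.coprime_iff_not_dvd.2 fun hd => h0 (X_dvd_iff.1 hd)).symm.dvd_of_dvd_mul_right
          ((hf _).1 h2)
      have hfp : f ∣ p := by
        obtain ⟨r', hr'⟩ := hfr
        have h2 : aeval (S * T) (X * p) * S = 0 := by
          have h3 : aeval (T * S) r * (T * S) = 0 := by
            rw [← e3, hr', map_mul, ← mul_assoc, hT', zero_mul, zero_mul]
          rwa [h3, add_zero] at hX0
        exact (irreducible_X.coprime_iff_not_dvd.2 fun hd => h0 (X_dvd_iff.1 hd)).symm.dvd_of_dvd_mul_left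
          ((hf _).1 h2)
      have t1 : aeval (S * T) p * (S * T) = 0 := by rw [← mul_assoc, (hf _).2 hfp, zero_mul]
      have t3 : T * aeval (S * T) r = 0 := by
        obtain ⟨r', hr'⟩ := hfr
        rw [hr', map_mul, ← mul_assoc, hT', zero_mul]
      rw [t1, t3, zero_add, zero_add] at h
      have hfs : f ∣ s := by
        have h1 := congrArg (fun x => S * x) h
        simp only [mul_add, mul_zero] at h1
        have e1 : S * (aeval (S * T) (g.1 0 1) * S) = 0 := by
          rw [← semiconj', ← mul_assoc, hS, zero_mul]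
        have e2 : S * (aeval (T * S) s * (T * S)) = aeval (S * T) (s * X) * S := by
          rw [← mul_assoc, semiconj', map_mul, aeval_X]; simp only [mul_assoc]
        rw [e1, zero_add, e2] at h1
        exact (irreducible_X.coprime_iff_not_dvd.2 fun hd => h0 (X_dvd_iff.1 hd)).symm.dvd_of_dvd_mul_right
          ((hf _).1 h1)
      have t4 : aeval (T * S) s * (T * S) = 0 := by
        rw [← mul_assoc, ← semiconj, mul_assoc, (hf _).2 hfs, mul_zero]
      rw [t4, add_zero] at h
      have b00 : g.1 0 0 - 1 = X * p := by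
        conv_lhs => rw [← X_mul_divX_add (g.1 0 0 - 1), ← hp, coeff_sub, c00, coeff_one_zero, sub_self,
          C_0, add_zero]
      have b10 : g.1 1 0 = X * r := by
        conv_lhs => rw [← X_mul_divX_add (g.1 1 0), ← hr, c10, C_0, add_zero]
      have b11 : g.1 1 1 - 1 = X * s := by
        conv_lhs => rw [← X_mul_divX_add (g.1 1 1 - 1), ← hs, coeff_sub, c11, coeff_one_zero, sub_self,
          C_0, add_zero]
      exact ⟨b00 ▸ hfp.mul_left X, (hf _).1 h, b10 ▸ hfr.mul_left X, b11 ▸ hfs.mul_left X⟩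
    · rintro ⟨a, b, c, d⟩
      rw [val_eq (q := 0) hf (Or.inl ⟨h0, hT', rfl⟩) hg a (by simpa using b) c d, map_zero, zero_mul,
        add_zero]
  exact ⟨(MulEquiv.subgroupCongr (range_eq hσ hτ).symm).trans
    ((QuotientGroup.quotientKerEquivRange (hom hS hT)).symm.trans
    ((QuotientGroup.quotientMulEquivOfEq hker).trans
    ((QuotientGroup.quotientKerEquivRange π).trans
    ((MulEquiv.subgroupCongr hπ).trans Subgroup.topEquiv))))⟩

end Pair

end Gamma

end Cfsg.Agent.RootSubgroups
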