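import Mathlib
import Cfsg.Agent.Lib.RootSubgroups.Dichotomy

/-!
A pair with `STS = TST = 0` acts unipotently.
-/

set_option autoImplicit false
open Cfsg

namespace Cfsg.Agent.RootSubgroups.Gamma

variable {k : Type*} [Field k] {M : Type*} [AddCommGroup M] [Module k M]

local notation "GLM" => LinearMap.GeneralLinearGroup k M
local notation "EndM" => Module.End k M

/-- The span `⟨S, T, ST, TS⟩`. -/
def span4 (S T : Module.End k M) : Submodule k (Module.End k M) :=
  Submodule.span k {S, T, S * T, T * S}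

theorem span4_mul {S T : EndM} (hS : S * S = 0) (hT : T * T = 0) (h1 : S * T * S = 0)
    (h2 : T * S * T = 0) :
    span4 S T * span4 S T ≤ Submodule.span k {S * T, T * S} ∧
      Submodule.span k {S * T, T * S} * span4 S T = ⊥ := by
  have z1 : ∀ x : EndM, S * (S * x) = 0 := fun x => by rw [← mul_assoc, hS, zero_mul]
  have z2 : ∀ x : EndM, T * (T * x) = 0 := fun x => by rw [← mul_assoc, hT, zero_mul]
  have z3 : S * (T * S) = 0 := by rw [← mul_assoc, h1]
  have z4 : T * (S * T) = 0 := by rw [← mul_assoc, h2]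
  constructor
  · rw [span4, Submodule.span_mul_span, Submodule.span_le]
    rintro _ ⟨a, ha, b, hb, rfl⟩
    simp only [Set.mem_insert_iff, Set.mem_singleton_iff] at ha hb
    rcases ha with rfl | rfl | rfl | rfl <;> rcases hb with rfl | rfl | rfl | rfl <;>
      simp only [SetLike.mem_coe, mul_assoc, hS, hT, z1, z2, z3, z4, mul_zero] <;>
      first
      | exact zero_mem _
      | exact Submodule.subset_span (Or.inl rfl)
      | exact Submodule.subset_span (Or.inr rfl)
  · rw [span4, Submodule.span_mul_span, Submodule.span_eq_bot]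
    rintro _ ⟨a, ha, b, hb, rfl⟩
    simp only [Set.mem_insert_iff, Set.mem_singleton_iff] at ha hb
    rcases ha with rfl | rfl <;> rcases hb with rfl | rfl | rfl | rfl <;>
      simp only [mul_assoc, hS, hT, z1, z2, z3, z4, mul_zero]

variable [FiniteDimensional k M] {G : Subgroup (LinearMap.GeneralLinearGroup k M)}
  {σ τ : LinearMap.GeneralLinearGroup k M}

theorem unipotent_of_zero (hσ : σ ∈ quadraticElements G) (hτ : τ ∈ quadraticElements G)
    (h1 : Quad.nil σ * Quad.nil τ * Quad.nil σ = 0) (h2 : Quad.nil τ * Quad.nil σ * Quad.nil τ = 0) :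
    IsUnipotentOn (Subgroup.closure (scalarFamily σ ∪ scalarFamily τ)) := by
  obtain ⟨hS, -, -⟩ := Quad.mem_quadratic.1 hσ
  obtain ⟨hT, -, -⟩ := Quad.mem_quadratic.1 hτ
  obtain ⟨m1, m2⟩ := span4_mul hS hT h1 h2
  set H := Subgroup.closure (scalarFamily σ ∪ scalarFamily τ)
  set N := span4 (Quad.nil σ) (Quad.nil τ)
  have hNN : N * N ≤ N := m1.trans (Submodule.span_mono (by
    intro x hx
    simp only [Set.mem_insert_iff, Set.mem_singleton_iff] at hx ⊢
    tauto))
  have hgen : ∀ x ∈ scalarFamily σ ∪ scalarFamily τ, Quad.nil x ∈ N ∧ Quad.nil x⁻¹ ∈ N := by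
    have key : ∀ {ρ x : GLM}, Quad.nil ρ * Quad.nil ρ = 0 → Quad.nil ρ ∈ N → x ∈ scalarFamily ρ →
        Quad.nil x ∈ N ∧ Quad.nil x⁻¹ ∈ N := by
      intro ρ x hρ hN hx
      obtain ⟨c, hc⟩ := Quad.mem_scalarFamily.1 hx
      have h0 : Quad.nil x * Quad.nil x = 0 := by rw [hc]; exact Quad.smul_sq hρ c
      refine ⟨hc ▸ N.smul_mem c hN, ?_⟩
      rw [Quad.nil_inv h0, hc]
      exact neg_mem (N.smul_mem c hN)
    rintro x (hx | hx)
    · exact key hS (Submodule.subset_span (Or.inl rfl)) hx
    · exact key hT (Submodule.subset_span (Or.inr (Or.inl rfl))) hx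
  have hle : Unipotent.sp H ≤ N := by
    refine Unipotent.sp_le fun g hg => ?_
    change g ∈ Subgroup.closure _ at hg
    change Quad.nil g ∈ N
    induction hg using Subgroup.closure_induction'' with
    | mem x hx => exact (hgen x hx).1
    | inv_mem x hx => exact (hgen x hx).2
    | one => rw [Quad.nil_eq_zero.2 rfl]; exact zero_mem _
    | mul x y _ _ hx hy =>
      rw [Quad.nil_mul]
      exact add_mem (hNN (Submodule.mul_mem_mul hx hy)) (add_mem hx hy)
  refine Unipotent.isUnipotentOn_iff.2 ⟨3, eq_bot_iff.2 ?_⟩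
  refine (pow_le_pow_left' hle 3).trans ?_
  rw [pow_succ, pow_two, ← m2]
  exact mul_le_mul' m1 le_rfl

end Cfsg.Agent.RootSubgroups.Gamma
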