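import Cfsg.Agent.Lib.RootSubgroups.Lines

/-!
Inclusions between the sets of partners of two members.
-/

set_option autoImplicit false
set_option linter.unusedSectionVars false
open Cfsg

namespace Cfsg.Agent.RootSubgroups

variable {G : Type*} [Group G] {A A' B C D : Subgroup G} {S : Set (Subgroup G)}

theorem rankOnePartners_conj (hS : IsRootSubgroupSet S) (g : G) :
    B ∈ rankOnePartners S A → conjBy B g ∈ rankOnePartners S (conjBy A g) :=
  fun h => ⟨hS.conj_mem B h.1 g, pair_conj h.2 g⟩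

/-- A conjugation invariant preorder implying commutation is symmetric on members with a common
partner. -/
theorem preorder_symm (hS : IsRootSubgroupSet S) (R : Subgroup G → Subgroup G → Prop)
    (hconj : ∀ X Y g, R X Y → R (conjBy X g) (conjBy Y g))
    (htrans : ∀ X Y Z, R X Y → R Y Z → R X Z)
    (hcomm : ∀ X ∈ S, ∀ Y ∈ S, R X Y → ⁅X, Y⁆ = ⊥)
    (hA : A ∈ S) (hC : C ∈ S) (hD : D ∈ S) (hAD : IsRankOnePair A D) (hCD : IsRankOnePair C D)
    (hR : R A C) : R C A := by
  have hAC := hcomm A hA C hC hR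
  obtain ⟨d, hd, hd1⟩ := exists_ne_one (pair_symm hAD)
  obtain ⟨a, ha, ha1, hae⟩ := conj_left_by_right hAD hd hd1
  obtain ⟨c, hc, hc1, hce⟩ := conj_left_by_right hCD hd hd1
  obtain ⟨δ, hδ, -, hδe⟩ := conj_left_by_right (pair_symm hCD) (inv_mem hc) (inv_ne_one.2 hc1)
  obtain ⟨a', ha', hδa⟩ : ∃ a' ∈ A, conjBy A δ = conjBy D a' := by
    by_cases h : δ = 1
    · exfalso
      rw [h, conjBy_one, conjBy_eq_iff, inv_inv, conjBy_of_mem hc] at hδe
      exact hCD.ne hδe.symm
    · obtain ⟨a', ha', -, he⟩ := conj_left_by_right hAD hδ h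
      exact ⟨a', ha', he⟩
  have h1 : R (conjBy D a) (conjBy D c) := hae ▸ hce ▸ hconj _ _ d hR
  have hcom : c * a = a * c := (commute_of_commutator_eq_bot hAC ha hc).symm
  have h2 : R (conjBy D c⁻¹) (conjBy D a⁻¹) := by
    have h := hconj _ _ (c⁻¹ * a⁻¹) h1
    have e1 : c⁻¹ * a⁻¹ * a = c⁻¹ := by group
    have e2 : c⁻¹ * a⁻¹ * c = a⁻¹ := by
      calc c⁻¹ * a⁻¹ * c = c⁻¹ * a⁻¹ * (c * a) * a⁻¹ := by group
        _ = _ := by rw [hcom]; group
    rwa [conjBy_conjBy, e1, conjBy_conjBy, e2] at h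
  have h3 : R (conjBy D a') (conjBy D c⁻¹) := by rw [← hδa, hδe]; exact hconj _ _ δ hR
  have ha'eq : a' = a⁻¹ := by
    have h4 := hcomm _ (hS.conj_mem D hD _) _ (hS.conj_mem D hD _) (htrans _ _ _ h3 h2)
    have h5 : ⁅conjBy D (a * a'), D⁆ = ⊥ := by
      have h6 := congrArg (fun X => conjBy X a) h4
      simpa only [conjBy_commutator, conjBy_bot, conjBy_conjBy, mul_inv_cancel, conjBy_one] using h6
    have hmem : conjBy D (a * a') ∈ unipotentSubgroups D A :=
      conjBy_mem_unipotent (left_mem D A) (Subgroup.mem_sup_right (mul_mem ha ha'))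
    have h7 := eq_of_fixed (pair_symm hAD) hmem hd hd1
      (conjBy_of_commute fun x hx => (commute_of_commutator_eq_bot h5 hx hd).symm)
      (hS.commutative _ hD)
    exact eq_inv_of_mul_eq_one_right (eq_one_of_normalizes hAD (mul_mem ha ha') h7)
  rw [ha'eq] at h3
  have h8 : R (conjBy D c) (conjBy D a) := by
    have h := hconj _ _ (a * c) h3
    have e1 : a * c * a⁻¹ = c := by rw [← hcom]; group
    have e2 : a * c * c⁻¹ = a := by group
    rwa [conjBy_conjBy, e1, conjBy_conjBy, e2] at h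
  rw [← hae, ← hce] at h8
  have h9 := hconj _ _ d⁻¹ h8
  rwa [conjBy_inv_cancel, conjBy_inv_cancel] at h9

theorem commute_of_partners_subset (hS : IsRootSubgroupSet S)
    (hF : ∀ X ∈ S, ∃ X' ∈ S, IsRankOnePair X X') (hA : A ∈ S) (hC : C ∈ S)
    (hsub : rankOnePartners S A ⊆ rankOnePartners S C) : ⁅A, C⁆ = ⊥ := by
  rcases hS.pair A hA C hC with h | h | h
  · exact h
  · exact absurd rfl (hsub ⟨hC, h⟩).2.ne
  exfalso
  obtain ⟨L, hLdef⟩ : ∃ L, L = ⁅A, C⁆ := ⟨_, rfl⟩
  have hL : L ∈ S := hLdef ▸ h.1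
  obtain ⟨L', hL', hpL⟩ := hF L hL
  obtain ⟨C', hC', hpC⟩ := hF C hC
  have hCA : ⁅C, A⁆ = L := by rw [Subgroup.commutator_comm, hLdef]
  have hline : C ∈ linePartners S L :=
    linePartners_symm hC (hCA ▸ linePartners_of_cc hS hC hC' hpC hA (hCA.symm ▸ hL))
  obtain ⟨E, hE, Q, hQ, hEL', hLQ, hsup, -⟩ := line_struct hS hL hL' hpL hline
  have hccL : RootCommutatorCase S L Q := cc_of_mem hS hL hQ (hLQ.symm ▸ hE)
  have hEne : E ≠ L := fun e => line_ne hS hL hL' hpL hQ (hLQ.symm ▸ hE) (one_mem Q)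
    ((conjBy_one L).trans (e.symm.trans hLQ.symm))
  obtain ⟨a, ha, rfl⟩ : ∃ a ∈ A, E = conjBy C a := by
    rcases line_members hS hC hC' hpC hA (hCA.symm ▸ hL) hE
      (by rw [hCA, sup_comm, ← hsup]; exact le_sup_right) with e | e
    · exact absurd (e.trans hCA) hEne
    · exact e
  have hAE : ⁅A, conjBy C a⁆ = L := by
    conv_lhs => rw [← conjBy_of_mem ha]
    rw [← conjBy_commutator, ← hLdef]
    exact conjBy_of_commute fun x hx =>
      (cc_central h (hLdef ▸ hx) (Subgroup.mem_sup_left ha)).symm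
  have hQA : IsRankOnePair Q A := triangle hS hL hQ (hLQ.symm ▸ hE) hA (by rw [hLQ, hAE])
  have hQ' : conjBy Q a⁻¹ ∈ rankOnePartners S A := by
    have h1 := rankOnePartners_conj hS a⁻¹ (A := A) (B := Q) ⟨hQ, pair_symm hQA⟩
    rwa [conjBy_of_mem (inv_mem ha)] at h1
  have h2 := pair_conj (hsub hQ').2 a
  rw [conjBy_cancel_inv] at h2
  obtain ⟨x, hx, hx1⟩ := exists_ne_one h2
  exact hx1 (eq_one_of_centralizes h2 hx fun y hy =>
    cc_central hccL (hLQ.symm ▸ hx) (Subgroup.mem_sup_right hy))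

theorem partners_eq_of_subset (hS : IsRootSubgroupSet S)
    (hF : ∀ X ∈ S, ∃ X' ∈ S, IsRankOnePair X X') (hA : A ∈ S) (hC : C ∈ S)
    (hsub : rankOnePartners S A ⊆ rankOnePartners S C) :
    rankOnePartners S A = rankOnePartners S C := by
  obtain ⟨D, hD, hAD⟩ := hF A hA
  refine le_antisymm hsub (preorder_symm hS (fun X Y => rankOnePartners S X ⊆ rankOnePartners S Y)
    ?_ (fun _ _ _ h h' => h.trans h') (fun X hX Y hY h => commute_of_partners_subset hS hF hX hY h)
    hA hC hD hAD (hsub ⟨hD, hAD⟩).2 hsub)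
  intro X Y g h B hB
  have h1 := rankOnePartners_conj hS g⁻¹ hB
  rw [conjBy_inv_cancel] at h1
  have h2 := rankOnePartners_conj hS g (h h1)
  rwa [conjBy_cancel_inv] at h2

theorem self_mem_centralizing (hS : IsRootSubgroupSet S) (hA : A ∈ S) :
    A ∈ centralizingMembers S A :=
  ⟨hA, fun _ ha => Subgroup.mem_centralizer_iff.2 fun _ hb => comm hS hA hb ha⟩

theorem mem_centralizing_iff : B ∈ centralizingMembers S A ↔ B ∈ S ∧ ⁅A, B⁆ = ⊥ := by
  rw [Subgroup.commutator_comm, Subgroup.commutator_eq_bot_iff_le_centralizer]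
  rfl

theorem centralizing_eq_of_subset (hS : IsRootSubgroupSet S)
    (hF : ∀ X ∈ S, ∃ X' ∈ S, IsRankOnePair X X') (hA : A ∈ S) (hC : C ∈ S)
    (hsub : centralizingMembers S A ⊆ centralizingMembers S C) :
    centralizingMembers S A = centralizingMembers S C := by
  have hcomm : ∀ X ∈ S, ∀ Y ∈ S, centralizingMembers S X ⊆ centralizingMembers S Y → ⁅X, Y⁆ = ⊥ :=
    fun X hX Y hY h => bot_symm (mem_centralizing_iff.1 (h (self_mem_centralizing hS hX))).2
  obtain ⟨D, hD, hCD⟩ := hF C hC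
  have hAD : IsRankOnePair A D := by
    rcases hS.pair A hA D hD with h | h | h
    · exact absurd (mem_centralizing_iff.1 (hsub (mem_centralizing_iff.2 ⟨hD, h⟩))).2
        (fun e => comm_of_pair_bot e hCD)
    · exact h
    exfalso
    obtain ⟨L, hLdef⟩ : ∃ L, L = ⁅A, D⁆ := ⟨_, rfl⟩
    have hL : ⁅A, L⁆ = ⊥ := hLdef ▸ bot_symm (cc_commutes_left h)
    have hCL : ∀ c ∈ C, ∀ x ∈ L, c * x = x * c := fun c hc x hx =>
      commute_of_commutator_eq_bot
        (mem_centralizing_iff.1 (hsub (mem_centralizing_iff.2 ⟨hLdef ▸ h.1, hL⟩))).2 hc hx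
    have hCA : ∀ c ∈ C, ∀ x ∈ A, c * x = x * c := fun c hc x hx =>
      (commute_of_commutator_eq_bot (hcomm A hA C hC hsub) hx hc).symm
    have hC' : ∀ c ∈ C, A ⊔ L ≤ Subgroup.centralizer {c} := fun c hc => sup_le
      (fun x hx => Subgroup.mem_centralizer_iff.2 fun u hu => by
        rw [Set.mem_singleton_iff.1 hu]; exact hCA c hc x hx)
      (fun x hx => Subgroup.mem_centralizer_iff.2 fun u hu => by
        rw [Set.mem_singleton_iff.1 hu]; exact hCL c hc x hx)
    have hnorm : C ⊔ D ≤ Subgroup.normalizer ((A ⊔ L : Subgroup G) : Set G) := by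
      refine sup_le (fun c hc => mem_normalizer_iff_conjBy.2 (conjBy_of_commute fun x hx =>
        Subgroup.mem_centralizer_iff.1 (hC' c hc hx) c rfl)) ?_
      intro d hd
      rw [mem_normalizer_iff_conjBy]
      have key : ∀ d ∈ D, conjBy (A ⊔ L) d ≤ A ⊔ L := by
        intro d hd
        rw [conjBy_sup]
        refine sup_le ?_ ?_
        · rintro _ ⟨x, hx, rfl⟩
          change d * x * d⁻¹ ∈ _
          rw [show d * x * d⁻¹ = (d * x * d⁻¹ * x⁻¹) * x by group]
          refine mul_mem (Subgroup.mem_sup_right ?_) (Subgroup.mem_sup_left hx)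
          rw [hLdef, Subgroup.commutator_comm]
          exact commutator_mem hd hx
        · rw [conjBy_of_commute fun x hx =>
            (cc_central h (hLdef ▸ hx) (Subgroup.mem_sup_right hd)).symm]
          exact le_sup_right
      refine le_antisymm (key d hd) ?_
      have h1 := conjBy_mono (g := d) (key d⁻¹ (inv_mem hd))
      rwa [conjBy_cancel_inv] at h1
    obtain ⟨g, hg, hgD⟩ := exists_conj_right hCD
    obtain ⟨x, hx, hx1⟩ := exists_mem_ne_one hS hA
    obtain ⟨d, hd, hne⟩ := cc_not_commute hS h hx hx1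
    apply hne
    have hxm : g⁻¹ * x * g ∈ A ⊔ L := by
      have h1 : g⁻¹ * x * g⁻¹⁻¹ ∈ conjBy (A ⊔ L) g⁻¹ := conj_mem_conjBy (Subgroup.mem_sup_left hx)
      rwa [conjBy_of_mem_normalizer (hnorm (inv_mem hg)), inv_inv] at h1
    have hdC : g⁻¹ * d * g ∈ C := mem_conjBy.1 (hgD.symm ▸ hd)
    have h2 := Subgroup.mem_centralizer_iff.1 (hC' _ hdC hxm) _ rfl
    have h3 : x * d = d * x := by
      have := congrArg (fun z => g * z * g⁻¹) h2
      simpa [mul_assoc] using this.symm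
    rw [h3]; group
  refine le_antisymm hsub (preorder_symm hS
    (fun X Y => centralizingMembers S X ⊆ centralizingMembers S Y) ?_
    (fun _ _ _ h h' => h.trans h') hcomm hA hC hD hAD hCD hsub)
  intro X Y g h B hB
  obtain ⟨hBS, hB'⟩ := mem_centralizing_iff.1 hB
  have h1 : conjBy B g⁻¹ ∈ centralizingMembers S X := mem_centralizing_iff.2
    ⟨hS.conj_mem B hBS _, by
      rw [← conjBy_inv_cancel X g, ← conjBy_commutator, hB', conjBy_bot]⟩
  obtain ⟨-, h2⟩ := mem_centralizing_iff.1 (h h1)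
  refine mem_centralizing_iff.2 ⟨hBS, ?_⟩
  rw [← conjBy_cancel_inv B g, ← conjBy_commutator, h2, conjBy_bot]

end Cfsg.Agent.RootSubgroups
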