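import Cfsg.Prelude.Def_RootSubgroups
import Cfsg.Agent.Lib.Involution.Dihedral

/-!
Root involutions: the three kinds of pairs and the triangle lemma.
-/

set_option autoImplicit false
open Cfsg

namespace Cfsg.Agent.RootSubgroups.RootInv

variable {G : Type*} [Group G] {D : Set G} {a b e x : G}

section
variable (hD : IsRootInvolutionSet D)
include hD

theorem mul_self (ha : a ∈ D) : a * a = 1 := Involution.mul_self_of_orderOf (hD.orderOf_eq a ha)

theorem inv_eq (ha : a ∈ D) : a⁻¹ = a := Involution.inv_of_orderOf (hD.orderOf_eq a ha)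

theorem ne_one (ha : a ∈ D) : a ≠ 1 := Involution.ne_one_of_orderOf (hD.orderOf_eq a ha)

theorem comm_of_sq (ha : a ∈ D) (hb : b ∈ D) (h : (a * b) ^ 2 = 1) : a * b = b * a := by
  rw [pow_two, mul_eq_one_iff_eq_inv, mul_inv_rev, inv_eq hD ha, inv_eq hD hb] at h
  exact h

theorem sq_of_comm (ha : a ∈ D) (hb : b ∈ D) (h : a * b = b * a) : (a * b) ^ 2 = 1 := by
  rw [pow_two]
  nth_rewrite 2 [h]
  rw [mul_assoc, ← mul_assoc b b, mul_self hD hb, one_mul, mul_self hD ha]

theorem eq_of_orderOf_one (ha : a ∈ D) (h : orderOf (a * b) = 1) : a = b := by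
  rw [orderOf_eq_one_iff, mul_eq_one_iff_eq_inv'] at h
  rw [h, inv_eq hD ha]

theorem not_comm_of_odd (ha : a ∈ D) (hb : b ∈ D) (hne : a ≠ b) (ho : Odd (orderOf (a * b))) :
    a * b ≠ b * a := by
  intro h
  have h2 := orderOf_dvd_of_pow_eq_one (sq_of_comm hD ha hb h)
  rcases (Nat.dvd_prime Nat.prime_two).1 h2 with h1 | h1
  · exact hne (eq_of_orderOf_one hD ha h1)
  · rw [h1] at ho
    exact absurd ho (by decide)

/-- Four kinds collapse to three: a non-commuting pair without odd product has product of order 4. -/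
theorem four_of (ha : a ∈ D) (hb : b ∈ D) (hc : a * b ≠ b * a) (ho : ¬ Odd (orderOf (a * b))) :
    orderOf (a * b) = 4 ∧ (a * b) ^ 2 ∈ D :=
  ((hD.pair a ha b hb).resolve_left hc).resolve_left ho

/-- No pair of members has product `z u` with an involution `z` centralizing `u ≠ 1` of odd order. -/
theorem no_double (ha : a ∈ D) (hb : b ∈ D) {z u : G} (hz : orderOf z = 2) (hzu : Commute z u)
    (hu : Odd (orderOf u)) (hu1 : u ≠ 1) (he : a * b = z * u) : False := by
  have ho : orderOf (a * b) = 2 * orderOf u := by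
    rw [he, hzu.orderOf_mul_eq_mul_orderOf_of_coprime (by rw [hz]; exact Nat.coprime_two_left.2 hu), hz]
  have h1 : orderOf u ≠ 1 := fun h => hu1 (orderOf_eq_one_iff.1 h)
  obtain ⟨m, hm⟩ := hu
  rcases hD.pair a ha b hb with h | h | ⟨h, -⟩
  · have := Nat.le_of_dvd two_pos (orderOf_dvd_of_pow_eq_one (sq_of_comm hD ha hb h))
    omega
  · rw [ho] at h
    exact Nat.not_odd_iff_even.2 ⟨orderOf u, by omega⟩ h
  · omega

/-- A member centralizing an odd pair. -/
theorem no_central_mul (ha : a ∈ D) (hb : b ∈ D) (he : e ∈ D) (hne : a ≠ b)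
    (ho : Odd (orderOf (a * b))) (hea : e * a = a * e) (heb : e * b = b * e) (hbe : e * b ∈ D) :
    False := by
  refine no_double hD ha hbe (hD.orderOf_eq e he) (Commute.mul_right hea heb) ho ?_ ?_
  · exact fun h => hne (eq_of_orderOf_one hD ha (orderOf_eq_one_iff.2 h))
  · rw [← mul_assoc, ← hea, mul_assoc]

theorem commute_conj_of_four (ha : a ∈ D) (hb : b ∈ D) (h : orderOf (a * b) = 4) :
    a * (b * a * b) = (b * a * b) * a := by
  have h1 : (a * b) ^ 4 = 1 := h ▸ pow_orderOf_eq_one _
  calc a * (b * a * b) = ((a * b) ^ 2) := by rw [pow_two]; simp only [mul_assoc]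
    _ = ((a * b) ^ 2)⁻¹ := eq_inv_of_mul_eq_one_left (by rw [← pow_add]; exact h1)
    _ = _ := by rw [pow_two, mul_inv_rev, mul_inv_rev, inv_eq hD ha, inv_eq hD hb]; simp only [mul_assoc]

/-- The triangle lemma: an odd partner of `e` is an odd partner of `a` or of `a e`. -/
theorem triple (ha : a ∈ D) (he : e ∈ D) (hae : a * e = e * a) (hf : a * e ∈ D) (hx : x ∈ D)
    (hne : x ≠ e) (ho : Odd (orderOf (x * e))) :
    Odd (orderOf (x * a)) ∨ Odd (orderOf (x * (a * e))) := by
  by_contra hcon
  push Not at hcon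
  have hu1 : x * e ≠ 1 := fun h => hne (eq_of_orderOf_one hD hx (orderOf_eq_one_iff.2 h))
  by_cases hc1 : x * a = a * x
  · exact no_central_mul hD hx he ha hne ho hc1.symm hae hf
  by_cases hc2 : x * (a * e) = a * e * x
  · refine no_central_mul hD hx he hf hne ho hc2.symm ?_ ?_
    · rw [← mul_assoc, ← hae]
    · rw [mul_assoc, mul_self hD he, mul_one]; exact ha
  obtain ⟨f1, -⟩ := four_of hD hx ha hc1 hcon.1
  obtain ⟨f2, -⟩ := four_of hD hx hf hc2 hcon.2
  have h1 : Commute (a * x * a) x := (commute_conj_of_four hD hx ha f1).symm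
  have h2 : Commute (a * x * a) (e * x * e) := by
    have h := commute_conj_of_four hD hx hf f2
    have e2 : a * e * x * (a * e) = a * (e * x * e) * a := by
      rw [hae]; simp only [mul_assoc]
      rw [← mul_assoc e a, ← hae]; simp only [mul_assoc]
    rw [e2] at h
    have hx' : a * (a * (e * x * e) * a) * a = e * x * e := by
      simp only [mul_assoc, mul_self hD ha, mul_one]
      rw [← mul_assoc a a, mul_self hD ha, one_mul]
    have hh : Commute (a * x * a⁻¹) (a * (a * (e * x * e) * a) * a⁻¹) :=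
      Commute.map (h : Commute x (a * (e * x * e) * a)) (MulAut.conj a)
    rwa [inv_eq hD ha, hx'] at hh
  obtain ⟨m, hm⟩ := ho
  have h3 : Commute (a * x * a) (x * e) := by
    have hsq : Commute (a * x * a) ((x * e) ^ 2) := by
      rw [pow_two, show x * e * (x * e) = x * (e * x * e) by simp only [mul_assoc]]
      exact h1.mul_right h2
    have h' := hsq.pow_right (m + 1)
    rwa [← pow_mul, show 2 * (m + 1) = orderOf (x * e) + 1 by omega, pow_succ, pow_orderOf_eq_one,
      one_mul] at h'
  have h4 : Commute (a * x * a) e := by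
    have h := h1.mul_right h3
    rwa [← mul_assoc, mul_self hD hx, one_mul] at h
  have hx' : a * x * a ∈ D := by have h := hD.conj_mem x hx a; rwa [inv_eq hD ha] at h
  have hord : orderOf (a * x * a * e) = orderOf (x * e) := by
    rw [show a * x * a * e = a * (x * e) * a⁻¹ by
      rw [inv_eq hD ha, mul_assoc (a * x), hae]; simp only [mul_assoc]]
    exact orderOf_injective (MulAut.conj a).toMonoidHom (MulAut.conj a).injective _
  refine not_comm_of_odd hD hx' he (fun h => hu1 ?_) (hord ▸ ⟨m, hm⟩) h4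
  rw [← orderOf_eq_one_iff, ← hord, h, mul_self hD he, orderOf_one]

theorem oddAdj_symm (h : OddAdj D a b) : OddAdj D b a := by
  refine ⟨h.2.1, h.1, h.2.2.1.symm, ?_⟩
  rw [show b * a = (a * b)⁻¹ by rw [mul_inv_rev, inv_eq hD h.1, inv_eq hD h.2.1], orderOf_inv]
  exact h.2.2.2

theorem oddAdj_conj (g : G) (h : OddAdj D a b) : OddAdj D (g * a * g⁻¹) (g * b * g⁻¹) := by
  refine ⟨hD.conj_mem _ h.1 g, hD.conj_mem _ h.2.1 g, fun e' => h.2.2.1 (by simpa using e'), ?_⟩
  rw [show g * a * g⁻¹ * (g * b * g⁻¹) = g * (a * b) * g⁻¹ by group,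
    show g * (a * b) * g⁻¹ = MulAut.conj g (a * b) from rfl, MulEquiv.orderOf_eq]
  exact h.2.2.2

theorem linked_symm (h : Relation.ReflTransGen (OddAdj D) a b) : Relation.ReflTransGen (OddAdj D) b a := by
  induction h with
  | refl => exact Relation.ReflTransGen.refl
  | tail _ h2 ih => exact Relation.ReflTransGen.head (oddAdj_symm hD h2) ih

theorem isolated_of_no_partner (ha : a ∈ D) (h : ∀ b, ¬ OddAdj D a b) :
    IsIsolatedElem (OddAdj D) D a :=
  ⟨ha, fun b => ⟨h b, fun hb => h b (oddAdj_symm hD hb)⟩⟩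

theorem exists_partner (ha : a ∈ D) (h : ¬ IsIsolatedElem (OddAdj D) D a) : ∃ b, OddAdj D a b := by
  by_contra hcon
  exact h (isolated_of_no_partner hD ha fun b hb => hcon ⟨b, hb⟩)

/-- Non-isolated members of a triple `a, e, a e` are linked. -/
theorem linked_of_triple (ha : a ∈ D) (he : e ∈ D) (hae : a * e = e * a) (hf : a * e ∈ D) {x y : G}
    (hx : OddAdj D e x) (hy : OddAdj D a y) : Relation.ReflTransGen (OddAdj D) a e := by
  have hadj : ∀ {u v : G}, u ∈ D → v ∈ D → Odd (orderOf (u * v)) →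
      Relation.ReflTransGen (OddAdj D) u v := fun {u v} hu hv h => by
    rcases eq_or_ne u v with rfl | hne
    · exact Relation.ReflTransGen.refl
    · exact Relation.ReflTransGen.single ⟨hu, hv, hne, h⟩
  have hx' := oddAdj_symm hD hx
  have hy' := oddAdj_symm hD hy
  have lx : Relation.ReflTransGen (OddAdj D) e x := Relation.ReflTransGen.single hx
  have ly : Relation.ReflTransGen (OddAdj D) a y := Relation.ReflTransGen.single hy
  rcases triple hD ha he hae hf hx'.1 hx'.2.2.1 hx'.2.2.2 with h | h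
  · exact linked_symm hD (lx.trans (hadj hx'.1 ha h))
  · rcases triple hD he ha hae.symm (hae ▸ hf) hy'.1 hy'.2.2.1 hy'.2.2.2 with h2 | h2
    · exact ly.trans (hadj hy'.1 he h2)
    · rw [← hae] at h2
      exact (ly.trans (hadj hy'.1 hf h2)).trans (linked_symm hD (lx.trans (hadj hx'.1 hf h)))

end

end Cfsg.Agent.RootSubgroups.RootInv
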