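import Cfsg.Agent.Lib.RootSubgroups.Involutions
import Cfsg.Agent.Lib.Thompson.Cores
import Cfsg.Prelude.Def_QuasithinSetup

/-!
Proper normal subgroups of a group generated by a connected class of root involutions with a product in the class.
-/

set_option autoImplicit false
open Cfsg

namespace Cfsg.Agent.RootSubgroups.RootInv

variable {G : Type*} [Group G] {D : Set G}

section
variable (hD : IsRootInvolutionSet D)
include hD

theorem conj_of_linked {a b : G} (h : Relation.ReflTransGen (OddAdj D) a b) : ∃ g : G, b = g * a * g⁻¹ := by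
  induction h with
  | refl => exact ⟨1, by simp⟩
  | tail _ h2 ih =>
    obtain ⟨g, rfl⟩ := ih
    obtain ⟨g', hg'⟩ := isConj_iff.1 (Involution.isConj_of_odd (hD.orderOf_eq _ h2.1) (hD.orderOf_eq _ h2.2.1)
      h2.2.2.2)
    exact ⟨g' * g, by rw [← hg']; group⟩

variable (hc : IsConnectedSet (OddAdj D) D) (hDD : (D ∩ commutingProducts D).Nonempty)
include hc hDD

theorem exists_triple {d : G} (hd : d ∈ D) : ∃ a ∈ D, a * d = d * a ∧ a * d ∈ D := by
  obtain ⟨x, hx, a, ha, b, hb, hab, -, rfl⟩ := hDD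
  obtain ⟨g, rfl⟩ := conj_of_linked hD (hc b hb d hd)
  refine ⟨g * a * g⁻¹, hD.conj_mem a ha g, ?_, ?_⟩
  · simp only [conj_mul, hab]
  · rw [conj_mul]; exact hD.conj_mem _ hx g

theorem nonempty : D.Nonempty := by
  obtain ⟨x, hx, -⟩ := hDD
  exact ⟨x, hx⟩

theorem not_mem_normal {N : Subgroup G} [hN : N.Normal] (h : N ≠ ⊤) {d : G} (hd : d ∈ D) : d ∉ N := by
  refine fun hdN => h (eq_top_iff.2 ?_)
  rw [← hD.generates, Subgroup.closure_le]
  intro e he
  obtain ⟨g, rfl⟩ := conj_of_linked hD (hc d hd e he)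
  exact hN.conj_mem d hdN g

theorem commutator_eq_top : commutator G = ⊤ := by
  obtain ⟨d, hd⟩ := nonempty hD hc hDD
  by_contra hne
  refine not_mem_normal hD hc hDD hne hd ?_
  obtain ⟨a, ha, -, had⟩ := exists_triple hD hc hDD hd
  obtain ⟨g, hg⟩ := conj_of_linked hD (hc a ha _ had)
  have h1 : Abelianization.of (a * d) = Abelianization.of a := by
    rw [hg, map_mul, map_mul, map_inv, mul_comm (Abelianization.of g), mul_inv_cancel_right]
  rw [map_mul, mul_eq_left] at h1
  rw [← Abelianization.ker_of]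
  exact h1

/-- A member commutes with its conjugates under a proper normal subgroup. -/
theorem commute_conj_of_normal {N : Subgroup G} [hN : N.Normal] (h : N ≠ ⊤) {e n : G} (he : e ∈ D)
    (hn : n ∈ N) : e * (n * e * n⁻¹) = n * e * n⁻¹ * e := by
  obtain ⟨x, rfl⟩ : ∃ x, x = n * e * n⁻¹ := ⟨_, rfl⟩
  have hx : n * e * n⁻¹ ∈ D := hD.conj_mem e he n
  have hxe : n * e * n⁻¹ * e ∈ N := by
    rw [show n * e * n⁻¹ * e = n * (e * n⁻¹ * e⁻¹) by rw [inv_eq hD he]; group]
    exact N.mul_mem hn (hN.conj_mem _ (N.inv_mem hn) e)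
  rcases hD.pair _ hx e he with hp | hp | ⟨-, hp⟩
  · exact hp.symm
  swap
  · exact absurd (pow_mem hxe 2) (not_mem_normal hD hc hDD h hp)
  by_cases hne : n * e * n⁻¹ = e
  · rw [hne]
  exfalso
  obtain ⟨a, ha, hae, hf⟩ := exists_triple hD hc hDD he
  let π := QuotientGroup.mk' N
  have hπ : π (n * e * n⁻¹) = π e := by
    have h1 : π (n * e * n⁻¹ * e) = 1 := (QuotientGroup.eq_one_iff _).2 hxe
    rw [map_mul, mul_eq_one_iff_eq_inv, ← map_inv, inv_eq hD he] at h1
    exact h1
  have key : ∀ y ∈ D, e * y ∈ D → Odd (orderOf (n * e * n⁻¹ * y)) → False := by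
    intro y hy hey ho
    have h1 : π (n * e * n⁻¹ * y) = π (e * y) := by rw [map_mul π (n * e * n⁻¹) y, map_mul π e y, hπ]
    have h2 : π (n * e * n⁻¹ * y) ≠ 1 := fun h3 =>
      not_mem_normal hD hc hDD h hey ((QuotientGroup.eq_one_iff _).1 (show π (e * y) = 1 from h1.symm.trans h3))
    have h4 : orderOf (π (n * e * n⁻¹ * y)) ∣ 2 := by
      refine orderOf_dvd_of_pow_eq_one ?_
      rw [h1, ← map_pow, pow_two, mul_self hD hey, map_one]
    have h5 := orderOf_map_dvd π (n * e * n⁻¹ * y)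
    rcases (Nat.dvd_prime Nat.prime_two).1 h4 with h6 | h6
    · exact h2 (orderOf_eq_one_iff.1 h6)
    · rw [h6] at h5
      exact absurd ho (Nat.not_odd_iff_even.2 (even_iff_two_dvd.2 h5))
  rcases triple hD ha he hae hf hx hne hp with h1 | h1
  · exact key a ha (hae ▸ hf) h1
  · refine key (a * e) hf ?_ h1
    rw [hae, ← mul_assoc, mul_self hD he, one_mul]
    exact ha

/-- A proper normal subgroup lies in the preimage of the centre modulo the 2-core. -/
theorem normal_le_twoZCore {N : Subgroup G} [hN : N.Normal] [Finite G] (h : N ≠ ⊤) : N ≤ twoZCore G := by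
  haveI : Fact (Nat.Prime 2) := ⟨Nat.prime_two⟩
  have hO : ∀ e ∈ D, ∀ n ∈ N, e * n * e⁻¹ * n⁻¹ ∈ pCore 2 G := by
    intro e he n hn
    let M := Subgroup.closure ((fun m : G => m * e * m⁻¹) '' (N : Set G))
    have hcomm : ∀ m ∈ N, ∀ m' ∈ N, Commute (m * e * m⁻¹) (m' * e * m'⁻¹) := by
      intro m hm m' hm'
      have hc' := commute_conj_of_normal hD hc hDD h he (N.mul_mem (N.inv_mem hm) hm')
      have := Commute.map (show Commute e _ from hc') (MulAut.conj m)
      convert this using 1 <;> simp [MulAut.conj_apply, mul_assoc]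
    have hMc : ∀ x ∈ M, ∀ y ∈ M, Commute x y := by
      intro x hx y hy
      refine Subgroup.closure_induction₂ (p := fun a b _ _ => Commute a b) ?_ ?_ ?_ ?_ ?_ ?_ ?_ hx hy
      · rintro _ _ ⟨m, hm, rfl⟩ ⟨m', hm', rfl⟩; exact hcomm m hm m' hm'
      · intro x _; exact Commute.one_left x
      · intro x _; exact Commute.one_right x
      · intro x y z _ _ _ h1 h2; exact h1.mul_left h2
      · intro x y z _ _ _ h1 h2; exact h1.mul_right h2
      · intro x y _ _ h1; exact h1.inv_left
      · intro x y _ _ h1; exact h1.inv_right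
    have hM2 : IsPGroup 2 M := by
      intro x
      refine ⟨1, Subtype.ext ?_⟩
      obtain ⟨x, hx⟩ := x
      rw [Subgroup.coe_pow, Subgroup.coe_one, pow_one]
      show x ^ 2 = 1
      induction hx using Subgroup.closure_induction with
      | mem x hx =>
        obtain ⟨m, -, rfl⟩ := hx
        rw [pow_two, conj_mul, mul_self hD he, mul_one, mul_inv_cancel]
      | one => simp
      | mul a b ha hb ha' hb' => rw [(hMc a ha b hb).mul_pow, ha', hb', one_mul]
      | inv a _ ha' => rw [inv_pow, ha', inv_one]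
    have hMN : ∀ m ∈ N, ∀ x ∈ M, m * x * m⁻¹ ∈ M := by
      intro m hm x hx
      have h1 : M.map (MulAut.conj m).toMonoidHom ≤ M := by
        rw [MonoidHom.map_closure, Subgroup.closure_le]
        rintro _ ⟨_, ⟨m', hm', rfl⟩, rfl⟩
        exact Subgroup.subset_closure ⟨m * m', N.mul_mem hm hm', by simp [MulAut.conj_apply, mul_assoc]⟩
      exact h1 ⟨x, hx, rfl⟩
    have hK : M ⊓ N ≤ pCore 2 G := by
      refine Thompson.le_pCore_of_isSubnormal (.step _ N inf_le_right hN.isSubnormal ⟨fun x hx g => ?_⟩)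
        (hM2.to_le inf_le_left)
      exact ⟨hMN g g.2 x hx.1, N.mul_mem (N.mul_mem g.2 x.2) (N.inv_mem g.2)⟩
    refine hK ⟨?_, N.mul_mem (hN.conj_mem n hn e) (N.inv_mem hn)⟩
    rw [show e * n * e⁻¹ * n⁻¹ = e * (n * e * n⁻¹) by rw [inv_eq hD he]; simp only [mul_assoc]]
    exact M.mul_mem (Subgroup.subset_closure ⟨1, N.one_mem, by simp⟩) (Subgroup.subset_closure ⟨n, hn, rfl⟩)
  intro n hn
  rw [twoZCore, Subgroup.mem_comap, Subgroup.mem_center_iff]
  intro q
  obtain ⟨g, rfl⟩ := QuotientGroup.mk'_surjective (pCore 2 G) q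
  have : Subgroup.closure D ≤
      (Subgroup.centralizer {QuotientGroup.mk' (pCore 2 G) n}).comap (QuotientGroup.mk' (pCore 2 G)) := by
    rw [Subgroup.closure_le]
    intro e he
    refine Subgroup.mem_centralizer_iff.2 fun u hu => ?_
    rw [Set.mem_singleton_iff.1 hu]
    have h1 : QuotientGroup.mk' (pCore 2 G) (e * n * e⁻¹ * n⁻¹) = 1 := (QuotientGroup.eq_one_iff _).2 (hO e he n hn)
    rw [map_mul, map_mul, map_mul, map_inv, map_inv, mul_inv_eq_one, mul_inv_eq_iff_eq_mul] at h1
    exact h1.symm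
  exact (Subgroup.mem_centralizer_iff.1 (this (hD.generates.symm ▸ Subgroup.mem_top g)) _ rfl).symm

theorem twoZCore_ne_top [Finite G] : twoZCore G ≠ ⊤ := by
  haveI : Fact (Nat.Prime 2) := ⟨Nat.prime_two⟩
  intro h
  obtain ⟨d, hd⟩ := nonempty hD hc hDD
  haveI : Nontrivial G := ⟨⟨d, 1, ne_one hD hd⟩⟩
  have hab : ∀ a b : G ⧸ pCore 2 G, a * b = b * a := by
    intro a b
    obtain ⟨x, rfl⟩ := QuotientGroup.mk'_surjective (pCore 2 G) b
    exact Subgroup.mem_center_iff.1 (show _ ∈ Subgroup.center _ from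
      (Subgroup.mem_comap.1 (h ▸ Subgroup.mem_top x : x ∈ twoZCore G))) a
  haveI := Group.isSolvable_of_comm hab
  haveI := Thompson.isPGroup_pCore (p := 2) (G := G) |>.isNilpotent
  haveI : Group.IsSolvable G := (Group.isSolvable_iff_subgroup_quotient (pCore 2 G)).2 ⟨inferInstance, inferInstance⟩
  exact (Group.IsSolvable.commutator_lt_top_of_nontrivial G).ne (commutator_eq_top hD hc hDD)

theorem simple_mod_twoZCore [Finite G] :
    solvableRadical G = twoZCore G ∧ IsSimpleGroup (G ⧸ twoZCore G) := by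
  haveI : Fact (Nat.Prime 2) := ⟨Nat.prime_two⟩
  refine ⟨le_antisymm (sSup_le ?_) (le_sSup ⟨inferInstance, ?_⟩), ?_⟩
  · rintro N ⟨hN, hs⟩
    refine normal_le_twoZCore hD hc hDD fun e => ?_
    subst e
    obtain ⟨d, hd⟩ := nonempty hD hc hDD
    haveI : Nontrivial G := ⟨⟨d, 1, ne_one hD hd⟩⟩
    haveI : Group.IsSolvable G := Group.isSolvable_of_surjective (f := (⊤ : Subgroup G).subtype)
      fun g => ⟨⟨g, Subgroup.mem_top g⟩, rfl⟩
    exact (Group.IsSolvable.commutator_lt_top_of_nontrivial G).ne (commutator_eq_top hD hc hDD)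
  · haveI := Thompson.isPGroup_pCore (p := 2) (G := G) |>.isNilpotent
    have hle : pCore 2 G ≤ twoZCore G := fun x hx => by
      rw [twoZCore, Subgroup.mem_comap, QuotientGroup.mk'_apply, (QuotientGroup.eq_one_iff x).2 hx]
      exact Subgroup.one_mem _
    let f : twoZCore G →* Subgroup.center (G ⧸ pCore 2 G) :=
      ((QuotientGroup.mk' (pCore 2 G)).comp (twoZCore G).subtype).codRestrict _ fun x => x.2
    haveI : Group.IsSolvable (Subgroup.center (G ⧸ pCore 2 G)) :=
      Group.isSolvable_of_comm fun a b => Subtype.ext (Subgroup.mem_center_iff.1 b.2 a)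
    refine Group.isSolvable_of_ker_le_range (Subgroup.inclusion hle) f fun x hx => ?_
    have h1 : QuotientGroup.mk' (pCore 2 G) (x : G) = 1 := congrArg Subtype.val hx
    exact ⟨⟨x, (QuotientGroup.eq_one_iff _).1 h1⟩, rfl⟩
  · haveI : Nontrivial (G ⧸ twoZCore G) :=
      QuotientGroup.nontrivial_iff.2 (twoZCore_ne_top hD hc hDD)
    refine ⟨fun H hH => ?_⟩
    by_cases hne : H.comap (QuotientGroup.mk' (twoZCore G)) = ⊤
    · right
      rw [← Subgroup.map_comap_eq_self_of_surjective (QuotientGroup.mk'_surjective (twoZCore G)) H, hne,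
        ← MonoidHom.range_eq_map, MonoidHom.range_eq_top.2 (QuotientGroup.mk'_surjective _)]
    · left
      have := normal_le_twoZCore hD hc hDD hne
      rw [← Subgroup.map_comap_eq_self_of_surjective (QuotientGroup.mk'_surjective (twoZCore G)) H,
        Subgroup.map_eq_bot_iff, QuotientGroup.ker_mk']
      exact this

end

end Cfsg.Agent.RootSubgroups.RootInv
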