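import Cfsg.Agent.Lib.RootSubgroups.Class

/-!
Lines of a set of abstract root subgroups: the triangle lemma, double transitivity on a line,
the graphs of lines, and generation by a neighbourhood and an opposite member.
-/

set_option autoImplicit false
set_option linter.unusedSectionVars false
set_option linter.unusedVariables false
open Cfsg
open scoped Pointwise

namespace Cfsg.Agent.RootSubgroups

variable {G : Type*} [Group G] {A A' B B' C D E F P Q : Subgroup G} {S : Set (Subgroup G)}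

theorem isSubgroupPartition_conj {N : Subgroup G} {T : Set (Subgroup G)}
    (h : IsSubgroupPartition N T) (g : G) :
    IsSubgroupPartition (conjBy N g) ((fun X => conjBy X g) '' T) := by
  obtain ⟨h1, h2, h3⟩ := h
  refine ⟨?_, ?_, ?_⟩
  · rintro _ ⟨X, hX, rfl⟩; exact conjBy_mono (h1 X hX)
  · intro x hx hx1
    obtain ⟨X, hX, hxX⟩ := h2 _ (mem_conjBy.1 hx) (fun e => hx1 (by
      simpa [mul_assoc] using congrArg (fun z => g * z * g⁻¹) e))
    exact ⟨_, ⟨X, hX, rfl⟩, mem_conjBy.2 hxX⟩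
  · rintro _ ⟨X, hX, rfl⟩ _ ⟨Y, hY, rfl⟩ hne
    change conjBy X g ⊓ conjBy Y g = ⊥
    rw [← Subgroup.map_inf _ _ _ (MulAut.conj g).injective]
    rw [h3 X hX Y hY fun e => hne (by rw [e]), Subgroup.map_bot]

theorem linePartners_symm (hA : A ∈ S) (hB : B ∈ linePartners S A) : A ∈ linePartners S B := by
  obtain ⟨⟨hBS, hne, hc⟩, hpart⟩ := hB
  exact ⟨⟨hA, Ne.symm hne, bot_symm hc⟩, by rw [sup_comm]; exact hpart⟩

theorem linePartners_commute (hB : B ∈ linePartners S A) : ⁅A, B⁆ = ⊥ := hB.1.2.2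

section
variable (hS : IsRootSubgroupSet S)
include hS

theorem membersIn_conj (N : Subgroup G) (g : G) :
    membersIn S (conjBy N g) = (fun X => conjBy X g) '' membersIn S N := by
  ext X
  constructor
  · rintro ⟨hX, hle⟩
    refine ⟨conjBy X g⁻¹, ⟨hS.conj_mem X hX _, ?_⟩, conjBy_cancel_inv X g⟩
    rw [← conjBy_inv_cancel N g]; exact conjBy_mono hle
  · rintro ⟨Y, ⟨hY, hle⟩, rfl⟩
    exact ⟨hS.conj_mem Y hY g, conjBy_mono hle⟩

theorem linePartners_conj (hB : B ∈ linePartners S A) (g : G) :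
    conjBy B g ∈ linePartners S (conjBy A g) := by
  obtain ⟨⟨hBS, hne, hc⟩, hpart⟩ := hB
  refine ⟨⟨hS.conj_mem B hBS g, fun e => hne (conjBy_inj e), ?_⟩, ?_⟩
  · rw [← conjBy_commutator, hc, conjBy_bot]
  · rw [← conjBy_sup, membersIn_conj hS]; exact isSubgroupPartition_conj hpart g

/-- The line through `A` and a commutator `⁅A, B⁆`. -/
theorem linePartners_of_cc (hA : A ∈ S) (hA' : A' ∈ S) (hp : IsRankOnePair A A') (hB : B ∈ S)
    (hC : ⁅A, B⁆ ∈ S) : ⁅A, B⁆ ∈ linePartners S A := by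
  have hcc := cc_of_mem hS hA hB hC
  refine ⟨⟨hC, fun e => line_ne hS hA hA' hp hB hC (one_mem B) ((conjBy_one A).trans e.symm),
    bot_symm (cc_commutes_left hcc)⟩, fun C hC => hC.2, fun x hx hx1 => ?_, fun P hP Q hQ hne => ?_⟩
  · rcases line_cover hS hA hA' hp hB hC hx with h | ⟨b, hb, h⟩
    · exact ⟨_, ⟨hC, le_sup_right⟩, h⟩
    · exact ⟨_, ⟨hS.conj_mem A hA b, line_le hS hA hA' hp hB hC hb⟩, h⟩
  · rcases (P ⊓ Q).bot_or_exists_ne_one with h | ⟨x, hx, hx1⟩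
    · exact h
    exfalso; apply hne
    rcases line_members hS hA hA' hp hB hC hP.1 hP.2 with h | ⟨b, hb, h⟩
    · rcases line_members hS hA hA' hp hB hC hQ.1 hQ.2 with h' | ⟨b, hb, h'⟩
      · rw [h, h']
      · rw [h']
        exact (eq_of_inter hS (hS.conj_mem A hA b) (hS.conj_mem A' hA' b) (pair_conj hp b)
          hP.1 (h' ▸ hx.2) hx.1 hx1).symm
    · rw [h]
      exact eq_of_inter hS (hS.conj_mem A hA b) (hS.conj_mem A' hA' b) (pair_conj hp b)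
        hQ.1 (h ▸ hx.1) hx.2 hx1

/-- The triangle lemma: if `⁅A, B⁆` and `⁅D, ⁅A, B⁆⁆ = A` are members then `B, D` is a rank one pair. -/
theorem triangle (hA : A ∈ S) (hB : B ∈ S) (hC : ⁅A, B⁆ ∈ S) (hD : D ∈ S)
    (hDC : ⁅D, ⁅A, B⁆⁆ = A) : IsRankOnePair B D := by
  have hcc := cc_of_mem hS hA hB hC
  have hcc' := cc_of_mem hS hD hC (hDC.symm ▸ hA)
  have hAD : ∀ a ∈ A, ∀ d ∈ D, a * d = d * a := fun a ha d hd =>
    cc_central hcc' (hDC.symm ▸ ha) (Subgroup.mem_sup_left hd)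
  have hAC : ∀ a ∈ A, ∀ c ∈ ⁅A, B⁆, a * c = c * a := fun a ha c hc =>
    cc_central hcc' (hDC.symm ▸ ha) (Subgroup.mem_sup_right hc)
  have hCB : ∀ c ∈ ⁅A, B⁆, ∀ b ∈ B, c * b = b * c := fun c hc b hb =>
    cc_central hcc hc (Subgroup.mem_sup_right hb)
  rcases hS.pair B hB D hD with h | h | h
  · exfalso
    have h1 : ⁅⁅B, D⁆, A⁆ = ⊥ := by rw [h]; exact Subgroup.commutator_bot_left A
    have h2 : ⁅⁅D, A⁆, B⁆ = ⊥ := by
      rw [commutator_eq_bot_of_commute fun d hd a ha => (hAD a ha d hd).symm]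
      exact Subgroup.commutator_bot_left B
    have h3 := Subgroup.commutator_commutator_eq_bot_of_rotate h1 h2
    rw [Subgroup.commutator_comm, hDC] at h3
    exact hS.ne_bot A hA h3
  · exact h
  exfalso
  obtain ⟨N, hN⟩ : ∃ N, N = A ⊔ ⁅A, B⁆ := ⟨_, rfl⟩
  have hnorm : B ⊔ D ≤ Subgroup.normalizer (N : Set G) := by
    have hcoe : (N : Set G) = (A : Set G) * ((⁅A, B⁆ : Subgroup G) : Set G) := by
      rw [hN]
      exact Subgroup.coe_mul_of_left_le_normalizer_right _ _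
        (Subgroup.normalizer_commutator_ge_left _ _)
    refine sup_le ?_ ?_ <;> rw [Subgroup.le_normalizer_iff_commutator_le_left, Subgroup.commutator_le]
    all_goals
      intro n hn x hx
      rw [← SetLike.mem_coe, hcoe, Set.mem_mul] at hn
      obtain ⟨a, ha, c, hc, rfl⟩ := hn
      change a * c * x * (a * c)⁻¹ * x⁻¹ ∈ N
    · rw [show a * c * x * (a * c)⁻¹ * x⁻¹ = a * (c * x * c⁻¹) * a⁻¹ * x⁻¹ by group, hCB c hc x hx,
        mul_inv_cancel_right, hN]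
      exact Subgroup.mem_sup_right (commutator_mem ha hx)
    · have h1 : c * x * c⁻¹ * x⁻¹ ∈ A := by
        have h1 := commutator_mem hc hx
        rwa [Subgroup.commutator_comm, hDC] at h1
      have h2 : a * x * a⁻¹ = x := by rw [hAD a ha x hx, mul_inv_cancel_right]
      rw [show a * c * x * (a * c)⁻¹ * x⁻¹ =
        a * (c * x * c⁻¹ * x⁻¹) * (x * a⁻¹ * x⁻¹) by group]
      have h3 : x * a⁻¹ * x⁻¹ = a⁻¹ := by
        rw [← hAD a⁻¹ (inv_mem ha) x hx, mul_inv_cancel_right]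
      rw [h3, hN]
      exact Subgroup.mem_sup_left (mul_mem (mul_mem ha h1) (inv_mem ha))
  have hdec : ∀ n ∈ N, ∃ a ∈ A, ∃ c ∈ ⁅A, B⁆, n = a * c := by
    intro n hn
    rw [hN, ← SetLike.mem_coe, Subgroup.coe_mul_of_left_le_normalizer_right _ _
      (Subgroup.normalizer_commutator_ge_left _ _), Set.mem_mul] at hn
    obtain ⟨a, ha, c, hc, rfl⟩ := hn
    exact ⟨a, ha, c, hc, rfl⟩
  have hfixB : ∀ n ∈ N, (∀ b ∈ B, n * b = b * n) → n ∈ ⁅A, B⁆ := by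
    intro n hn hcom
    obtain ⟨a, ha, c, hc, rfl⟩ := hdec n hn
    by_cases ha1 : a = 1
    · simpa [ha1] using hc
    obtain ⟨b, hb, hne⟩ := cc_not_commute hS hcc ha ha1
    refine absurd ?_ hne
    have h1 : a * b = b * a := by
      calc a * b = a * (c * b) * c⁻¹ := by rw [hCB c hc b hb]; group
        _ = (a * c * b) * c⁻¹ := by group
        _ = b * a := by rw [hcom b hb]; group
    rw [h1]; group
  have hfixD : ∀ n ∈ N, (∀ d ∈ D, n * d = d * n) → n ∈ A := by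
    intro n hn hcom
    obtain ⟨a, ha, c, hc, rfl⟩ := hdec n hn
    by_cases hc1 : c = 1
    · simpa [hc1] using ha
    obtain ⟨d, hd, hne⟩ := cc_not_commute hS (cc_symm hcc') hc hc1
    refine absurd ?_ hne
    have h1 : c * d = d * c := by
      calc c * d = a⁻¹ * (a * c * d) := by group
        _ = (a⁻¹ * d) * (a * c) := by rw [hcom d hd]; group
        _ = (d * a⁻¹) * (a * c) := by rw [hAD _ (inv_mem ha) d hd]
        _ = d * c := by group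
    rw [h1]; group
  obtain ⟨d, hd, hd1⟩ := exists_mem_ne_one hS hD
  obtain ⟨a₀, ha₀, ha₀1⟩ := exists_mem_ne_one hS hA
  obtain ⟨c, hc, hceq⟩ := cc_exists_comm hcc' hd hd1 (hDC.symm ▸ ha₀)
  obtain ⟨b, hb, hbne⟩ := cc_not_commute hS hcc ha₀ ha₀1
  obtain ⟨e, he⟩ : ∃ e, e = d * b * d⁻¹ * b⁻¹ := ⟨_, rfl⟩
  have heE : e ∈ ⁅B, D⁆ := he ▸ Subgroup.commutator_comm D B ▸ commutator_mem hd hb
  have heN : ∀ n ∈ N, e * n * e⁻¹ ∈ N := fun n hn =>
    (Subgroup.mem_normalizer_iff.1 (hnorm (commutator_le_sup _ _ heE)) n).1 hn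
  have hconjcom : ∀ {x y : G}, x ∈ B ⊔ D → y * x = x * y →
      (e * y * e⁻¹) * x = x * (e * y * e⁻¹) := by
    intro x y hx hy
    have h1 : e * x * e⁻¹ = x := by rw [cc_central h heE hx, mul_inv_cancel_right]
    calc e * y * e⁻¹ * x = e * y * e⁻¹ * (e * x * e⁻¹) := by rw [h1]
      _ = e * (y * x) * e⁻¹ := by group
      _ = (e * x * e⁻¹) * (e * y * e⁻¹) := by rw [hy]; group
      _ = _ := by rw [h1]
  have heC : ∀ x ∈ ⁅A, B⁆, e * x * e⁻¹ ∈ ⁅A, B⁆ := fun x hx =>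
    hfixB _ (heN x (hN ▸ Subgroup.mem_sup_right hx)) fun u hu =>
      hconjcom (Subgroup.mem_sup_left hu) (hCB x hx u hu)
  have heA : ∀ x ∈ A, e * x * e⁻¹ ∈ A := fun x hx =>
    hfixD _ (heN x (hN ▸ Subgroup.mem_sup_left hx)) fun u hu =>
      hconjcom (Subgroup.mem_sup_right hu) (hAD x hx u hu)
  have hdb : d * b = e * b * d := by rw [he]; group
  have hL : d * b * c * (d * b)⁻¹ = a₀ * c := by
    calc d * b * c * (d * b)⁻¹ = d * (b * c * b⁻¹) * d⁻¹ := by group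
      _ = d * c * d⁻¹ := by rw [← hCB c hc b hb, mul_inv_cancel_right]
      _ = a₀ * c := by rw [← hceq]; group
  have hR : e * b * d * c * (e * b * d)⁻¹ =
      (e * a₀ * e⁻¹) * (e * (a₀⁻¹ * b * a₀ * b⁻¹ * c) * e⁻¹) := by
    calc e * b * d * c * (e * b * d)⁻¹ = e * (b * ((d * c * d⁻¹ * c⁻¹) * c) * b⁻¹) * e⁻¹ := by group
      _ = e * (b * a₀ * b⁻¹ * (b * c * b⁻¹)) * e⁻¹ := by rw [hceq]; group
      _ = e * (b * a₀ * b⁻¹ * c) * e⁻¹ := by rw [← hCB c hc b hb, mul_inv_cancel_right]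
      _ = _ := by group
  rw [hdb] at hL
  have hfa : a₀⁻¹ * b * a₀ * b⁻¹ ∈ ⁅A, B⁆ := by
    simpa using commutator_mem (inv_mem ha₀) hb
  have heq : a₀⁻¹ * (e * a₀ * e⁻¹) = c * (e * (a₀⁻¹ * b * a₀ * b⁻¹ * c) * e⁻¹)⁻¹ := by
    rw [eq_mul_inv_iff_mul_eq, mul_assoc, ← hR, hL, inv_mul_cancel_left]
  have hint : a₀⁻¹ * (e * a₀ * e⁻¹) = 1 := by
    have hm : a₀⁻¹ * (e * a₀ * e⁻¹) ∈ A := mul_mem (inv_mem ha₀) (heA _ ha₀)
    have hm' : a₀⁻¹ * (e * a₀ * e⁻¹) ∈ ⁅A, B⁆ := heq ▸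
      mul_mem hc (inv_mem (heC _ (mul_mem hfa hc)))
    by_contra hne
    obtain ⟨u, hu, hune⟩ := cc_not_commute hS hcc hm hne
    exact hune (by rw [hCB _ hm' u hu]; group)
  rw [hint, eq_comm, mul_inv_eq_one] at heq
  -- evaluate both sides on `a₀` to see that `e` centralizes `⁅A, B⁆`
  have hcen : ∀ x ∈ ⁅A, B⁆, e * x * e⁻¹ = x := by
    have hk : ∀ a ∈ A, ∀ u ∈ B, ∀ v ∈ D, ∀ w, w = v * u * v⁻¹ * u⁻¹ →
        (∀ x ∈ A, w * x * w⁻¹ ∈ A) → (∀ x ∈ ⁅A, B⁆, w * x * w⁻¹ ∈ ⁅A, B⁆) →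
        w * (u * a * u⁻¹ * a⁻¹) * w⁻¹ = u * a * u⁻¹ * a⁻¹ := by
      intro a ha u hu v hv w hw hwA hwC
      have hfa : u * a * u⁻¹ * a⁻¹ ∈ ⁅A, B⁆ := Subgroup.commutator_comm B A ▸ commutator_mem hu ha
      obtain ⟨f, hf⟩ : ∃ f, f = u * a * u⁻¹ * a⁻¹ := ⟨_, rfl⟩
      rw [← hf] at hfa ⊢
      obtain ⟨g, hg⟩ : ∃ g, g = v * f * v⁻¹ * f⁻¹ := ⟨_, rfl⟩
      have hgA : g ∈ A := hg ▸ hDC ▸ commutator_mem hv hfa
      have hav : v * a * v⁻¹ = a := by rw [← hAD a ha v hv, mul_inv_cancel_right]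
      have e1 : w * (f * a) * w⁻¹ = g * f * a := by
        calc w * (f * a) * w⁻¹ = v * u * (v⁻¹ * a * v) * u⁻¹ * v⁻¹ := by
              rw [hw, hf]; group
          _ = v * u * a * u⁻¹ * v⁻¹ := by rw [mul_assoc v⁻¹, hAD a ha v hv]; group
          _ = (v * f * v⁻¹) * (v * a * v⁻¹) := by rw [hf]; group
          _ = _ := by rw [hav, hg]; group
      have e2 : (w * f * w⁻¹) * f⁻¹ = g * a * (w * a * w⁻¹)⁻¹ := by
        have hga : g * f * a = g * a * f := by rw [mul_assoc, ← hAC a ha f hfa, mul_assoc]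
        have h4 : (w * f * w⁻¹) * (w * a * w⁻¹) = g * a * f := by rw [← hga, ← e1]; group
        have h5 : f⁻¹ * (w * a * w⁻¹)⁻¹ = (w * a * w⁻¹)⁻¹ * f⁻¹ :=
          (hAC _ (inv_mem (hwA a ha)) _ (inv_mem hfa)).symm
        calc (w * f * w⁻¹) * f⁻¹
            = ((w * f * w⁻¹) * (w * a * w⁻¹)) * ((w * a * w⁻¹)⁻¹ * f⁻¹) := by group
          _ = g * a * (f * (f⁻¹ * (w * a * w⁻¹)⁻¹)) := by rw [h4, ← h5]; group
          _ = _ := by group
      by_contra hne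
      have hm : (w * f * w⁻¹) * f⁻¹ ∈ ⁅A, B⁆ := mul_mem (hwC f hfa) (inv_mem hfa)
      have hm' : (w * f * w⁻¹) * f⁻¹ ∈ A := e2 ▸ mul_mem (mul_mem hgA ha) (inv_mem (hwA a ha))
      obtain ⟨x, hx, hxne⟩ := cc_not_commute hS hcc hm' (fun e => hne (mul_inv_eq_one.1 e))
      exact hxne (by rw [hCB _ hm x hx]; group)
    have hb1 : b ≠ 1 := fun e => hbne (by simp [e])
    intro x hx
    obtain ⟨a, ha, hax⟩ := cc_exists_comm' hcc hb hb1 (inv_mem hx)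
    have hxa : x = b * a * b⁻¹ * a⁻¹ := by rw [← inv_inv x, ← hax]; group
    rw [hxa]
    exact hk a ha b hb d hd e he heA heC
  rw [hcen _ (mul_mem hfa hc)] at heq
  apply hbne
  have h1 : a₀⁻¹ * b * a₀ * b⁻¹ = 1 := mul_eq_right.1 heq.symm
  calc a₀ * b * a₀⁻¹ * b⁻¹ = a₀ * (a₀⁻¹ * b * a₀ * b⁻¹)⁻¹ * a₀⁻¹ := by group
    _ = 1 := by rw [h1]; group

/-- The double transitivity on a line, with the members realising it. -/
theorem line_two_trans (hF : ∀ X ∈ S, ∃ X' ∈ S, IsRankOnePair X X') (hA : A ∈ S)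
    (hB : B ∈ linePartners S A) :
    (∀ C₁ ∈ membersIn S (A ⊔ B), ∀ C₂ ∈ membersIn S (A ⊔ B), ∀ D₁ ∈ membersIn S (A ⊔ B),
      ∀ D₂ ∈ membersIn S (A ⊔ B), C₁ ≠ C₂ → D₁ ≠ D₂ →
        ∃ x ∈ ⨆ E ∈ normalizingMembers S (A ⊔ B), E, conjBy C₁ x = D₁ ∧ conjBy C₂ x = D₂) ∧
    (∀ P ∈ membersIn S (A ⊔ B), ∀ Q ∈ membersIn S (A ⊔ B), P ≠ Q →
      P ⊔ Q = A ⊔ B ∧ P ∈ linePartners S Q ∧ ∃ F ∈ S, ⁅Q, F⁆ = P ∧
        ∀ R ∈ membersIn S (A ⊔ B), R ≠ P → ∃ f ∈ F, conjBy Q f = R) := by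
  obtain ⟨K, hK⟩ : ∃ K, K = ⨆ E ∈ normalizingMembers S (A ⊔ B), E := ⟨_, rfl⟩
  rw [← hK]
  have hKn : K ≤ Subgroup.normalizer ((A ⊔ B : Subgroup G) : Set G) :=
    hK ▸ iSup₂_le fun E hE => hE.2
  have hTK : ∀ X ∈ membersIn S (A ⊔ B), ∀ x ∈ K, conjBy X x ∈ membersIn S (A ⊔ B) := by
    intro X hX x hx
    exact ⟨hS.conj_mem X hX.1 x, conjBy_of_mem_normalizer (hKn hx) ▸ conjBy_mono hX.2⟩
  -- a member with transitive stabilizer, starting from any ordered pair spanning the line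
  have step : ∀ X ∈ membersIn S (A ⊔ B), ∀ Y, Y ∈ linePartners S X → X ⊔ Y = A ⊔ B →
      ∃ E ∈ membersIn S (A ⊔ B), E ≠ X ∧ X ⊔ E = A ⊔ B ∧ E ∈ linePartners S X ∧
        ∃ F ∈ S, ⁅X, F⁆ = E ∧ F ≤ K ∧ (∀ f ∈ F, conjBy E f = E) ∧
          (∀ R ∈ membersIn S (A ⊔ B), R ≠ E → ∃ f ∈ F, conjBy X f = R) ∧
          ∃ f ∈ F, conjBy X f ≠ X ∧ conjBy X f ≠ E := by
    intro X hX Y hY hsup
    obtain ⟨X', hX', hpX⟩ := hF X hX.1
    obtain ⟨E, hE, F, hFS, hFeq, hXF, hsupE, hcomm⟩ := line_struct hS hX.1 hX' hpX hY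
    have hC : ⁅X, F⁆ ∈ S := hXF.symm ▸ hE
    have hcc := cc_of_mem hS hX.1 hFS hC
    have hEl : E ∈ linePartners S X := hXF ▸ linePartners_of_cc hS hX.1 hX' hpX hFS hC
    have hsup' : X ⊔ E = A ⊔ B := hsupE.trans hsup
    have hfix : ∀ f ∈ F, conjBy E f = E := fun f hf => conjBy_of_commute fun x hx =>
      (cc_central hcc (hXF.symm ▸ hx) (Subgroup.mem_sup_right hf)).symm
    refine ⟨E, ⟨hE, hsup' ▸ le_sup_right⟩, hEl.1.2.1, hsup', hEl, F, hFS, hXF, ?_, hfix, ?_, ?_⟩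
    · rw [hK]
      refine le_iSup₂ (f := fun E _ => E) F ⟨hFS, fun f hf => ?_⟩
      rw [mem_normalizer_iff_conjBy, ← hsup', conjBy_sup, hfix f hf]
      apply le_antisymm
      · refine sup_le ?_ le_sup_right
        have h1 := line_le hS hX.1 hX' hpX hFS hC hf
        rwa [hXF] at h1
      · refine sup_le ?_ le_sup_right
        have h1 := conjBy_mono (g := f) (line_le hS hX.1 hX' hpX hFS hC (inv_mem hf))
        rwa [conjBy_cancel_inv, hXF, conjBy_sup, hfix f hf] at h1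
    · intro R hR hRE
      rcases line_members hS hX.1 hX' hpX hFS hC hR.1 (by rw [hXF, hsup']; exact hR.2) with h | ⟨f, hf, h⟩
      · exact absurd (h.trans hXF) hRE
      · exact ⟨f, hf, h.symm⟩
    · obtain ⟨f, hf, hf1⟩ := exists_mem_ne_one hS hFS
      refine ⟨f, hf, fun e => hf1 ?_, fun e => line_ne hS hX.1 hX' hpX hFS hC hf (e.trans hXF.symm)⟩
      obtain ⟨x, hx, hx1⟩ := exists_ne_one hpX
      refine line_inj hS hX.1 hX' hpX hFS hC hx hx1 hf ?_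
      have h1 : x * f * x⁻¹ * f⁻¹ ∈ X := by
        rw [show x * f * x⁻¹ * f⁻¹ = x * (f * x⁻¹ * f⁻¹) by group]
        exact mul_mem hx (e ▸ conj_mem_conjBy (inv_mem hx))
      by_contra hne
      have h2 := eq_of_inter hS hX.1 hX' hpX hC h1 (commutator_mem hx hf)
        (fun e1 => hne (mul_inv_eq_iff_eq_mul.1 (mul_inv_eq_one.1 e1)))
      exact line_ne hS hX.1 hX' hpX hFS hC (one_mem F) ((conjBy_one X).trans h2)
  have hAm : A ∈ membersIn S (A ⊔ B) := ⟨hA, le_sup_left⟩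
  obtain ⟨E, hE, hEA, hsup, hEl, F, hFS, hAF, hFK, hFfix, hFtr, f₀, hf₀, hf₀A, hf₀E⟩ :=
    step A hAm B hB rfl
  obtain ⟨E', hE', hE'E, -, -, F', -, -, hF'K, hF'fix, hF'tr, -⟩ :=
    step E hE A (linePartners_symm hA hEl) (by rw [sup_comm]; exact hsup)
  -- each of `E`, `E'` has transitive stabilizer
  have hstab : ∀ {Z X : Subgroup G} {L : Subgroup G}, L ≤ K → (∀ f ∈ L, conjBy Z f = Z) →
      (∀ R ∈ membersIn S (A ⊔ B), R ≠ Z → ∃ f ∈ L, conjBy X f = R) →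
      ∀ P ∈ membersIn S (A ⊔ B), ∀ Q ∈ membersIn S (A ⊔ B), P ≠ Z → Q ≠ Z →
        ∃ x ∈ K, conjBy P x = Q ∧ conjBy Z x = Z := by
    intro Z X L hL hfix htr P hP Q hQ hPZ hQZ
    obtain ⟨f, hf, rfl⟩ := htr P hP hPZ
    obtain ⟨f', hf', rfl⟩ := htr Q hQ hQZ
    refine ⟨f' * f⁻¹, hL (mul_mem hf' (inv_mem hf)), ?_, hfix _ (mul_mem hf' (inv_mem hf))⟩
    rw [conjBy_conjBy, inv_mul_cancel_right]
  have hUE := hstab hFK hFfix hFtr
  have hUE' := hstab hF'K hF'fix hF'tr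
  obtain ⟨R, hR, hRE, hRE'⟩ : ∃ R ∈ membersIn S (A ⊔ B), R ≠ E ∧ R ≠ E' := by
    by_cases hAE' : A = E'
    · exact ⟨_, hTK A hAm f₀ (hFK hf₀), hf₀E, hAE' ▸ hf₀A⟩
    · exact ⟨A, hAm, Ne.symm hEA, hAE'⟩
  have htrans : ∀ P ∈ membersIn S (A ⊔ B), ∀ Q ∈ membersIn S (A ⊔ B),
      ∃ x ∈ K, conjBy P x = Q := by
    have toR : ∀ P ∈ membersIn S (A ⊔ B), ∃ x ∈ K, conjBy P x = R := by
      intro P hP
      by_cases hPE : P = E
      · obtain ⟨x, hx, h1, -⟩ := hUE' P hP R hR (hPE ▸ Ne.symm hE'E) hRE'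
        exact ⟨x, hx, h1⟩
      · obtain ⟨x, hx, h1, -⟩ := hUE P hP R hR hPE hRE
        exact ⟨x, hx, h1⟩
    intro P hP Q hQ
    obtain ⟨x, hx, hxP⟩ := toR P hP
    obtain ⟨y, hy, hyQ⟩ := toR Q hQ
    exact ⟨y⁻¹ * x, mul_mem (inv_mem hy) hx, by
      rw [← conjBy_conjBy, hxP, ← hyQ, conjBy_inv_cancel]⟩
  have h2t : ∀ C₁ ∈ membersIn S (A ⊔ B), ∀ C₂ ∈ membersIn S (A ⊔ B), ∀ D₁ ∈ membersIn S (A ⊔ B),
      ∀ D₂ ∈ membersIn S (A ⊔ B), C₁ ≠ C₂ → D₁ ≠ D₂ →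
        ∃ x ∈ K, conjBy C₁ x = D₁ ∧ conjBy C₂ x = D₂ := by
    intro C₁ hC₁ C₂ hC₂ D₁ hD₁ D₂ hD₂ hC hD
    obtain ⟨x, hx, hxe⟩ := htrans C₁ hC₁ E hE
    obtain ⟨y, hy, hye⟩ := htrans D₁ hD₁ E hE
    obtain ⟨z, hz, hze, hzE⟩ := hUE _ (hTK C₂ hC₂ x hx) _ (hTK D₂ hD₂ y hy)
      (fun e => hC (conjBy_inj (hxe.trans e.symm))) (fun e => hD (conjBy_inj (hye.trans e.symm)))
    refine ⟨y⁻¹ * z * x, mul_mem (mul_mem (inv_mem hy) hz) hx, ?_, ?_⟩
    · rw [← conjBy_conjBy, hxe, ← conjBy_conjBy, hzE, ← hye, conjBy_inv_cancel]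
    · rw [← conjBy_conjBy, ← conjBy_conjBy, hze, conjBy_inv_cancel]
  refine ⟨h2t, fun P hP Q hQ hne => ?_⟩
  obtain ⟨x, hx, rfl, rfl⟩ := h2t E hE A hAm P hP Q hQ hEA hne
  have hN := conjBy_of_mem_normalizer (hKn hx)
  refine ⟨?_, linePartners_conj hS hEl x, conjBy F x, hS.conj_mem F hFS x,
    by rw [← conjBy_commutator, hAF], ?_⟩
  · rw [← conjBy_sup, sup_comm, hsup, hN]
  · intro R hR hne'
    obtain ⟨f, hf, hfe⟩ := hFtr _ (hTK R hR _ (inv_mem hx))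
      (fun e => hne' (by rw [← e, conjBy_cancel_inv]))
    refine ⟨x * f * x⁻¹, conj_mem_conjBy hf, ?_⟩
    rw [conjBy_conjBy, inv_mul_cancel_right, ← conjBy_conjBy, hfe, conjBy_cancel_inv]

theorem partners_of_nondeg (hcl : IsConjClassOfSubgroups S) (hnd : IsNondegenerateRootSet S) :
    ∀ X ∈ S, ∃ X' ∈ S, IsRankOnePair X X' := by
  obtain ⟨-, ⟨P, hP, Q, hQ, hpq⟩, -⟩ := hnd
  exact fun X hX => partner_of_class hS hcl hP hQ hpq hX

theorem exists_linePartner (hcl : IsConjClassOfSubgroups S) (hnd : IsNondegenerateRootSet S)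
    (hA : A ∈ S) : ∃ B, B ∈ linePartners S A := by
  have hF := partners_of_nondeg hS hcl hnd
  obtain ⟨-, -, P, hP, Q, hQ, hcc⟩ := hnd
  obtain ⟨P', hP', hp⟩ := hF P hP
  obtain ⟨g, rfl⟩ := hcl.2 P hP A hA
  exact ⟨_, linePartners_conj hS (linePartners_of_cc hS hP hP' hp hQ hcc.1) g⟩

/-- The configuration above a rank one pair. -/
theorem exists_line_cc (hcl : IsConjClassOfSubgroups S) (hnd : IsNondegenerateRootSet S)
    (hA : A ∈ S) (hA' : A' ∈ S) (hp : IsRankOnePair A A') :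
    ∃ C ∈ linePartners S A, ⁅C, A'⁆ ∈ S ∧ ⁅A, ⁅C, A'⁆⁆ = C := by
  obtain ⟨B, hB⟩ := exists_linePartner hS hcl hnd hA
  obtain ⟨E, hE, F, hF, hEA', hAF, -, -⟩ := line_struct hS hA hA' hp hB
  refine ⟨E, hAF ▸ linePartners_of_cc hS hA hA' hp hF (hAF.symm ▸ hE), hEA'.symm ▸ hF, ?_⟩
  rw [hEA']; exact hAF

theorem eConnected (hcl : IsConjClassOfSubgroups S) (hnd : IsNondegenerateRootSet S) :
    IsConnectedFamily (EAdj S S) S := by
  have hF := partners_of_nondeg hS hcl hnd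
  obtain ⟨P, hP⟩ := hcl.1
  obtain ⟨P', hP', hp⟩ := hF P hP
  have hc := connected_of_class hS hcl hP hP' hp
  intro A hA B hB
  have h := hc A hA B hB
  clear hB
  induction h with
  | refl => exact Relation.ReflTransGen.refl
  | tail _ h2 ih =>
    obtain ⟨hX, hY, hXY⟩ := h2
    obtain ⟨C, hC, hF', hback⟩ := exists_line_cc hS hcl hnd hX hY hXY
    have hCS := hC.1.1
    obtain ⟨C', hC', hpC⟩ := hF C hCS
    have l1 := linePartners_of_cc hS hCS hC' hpC hY hF'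
    have l2 := linePartners_of_cc hS hY hX (pair_symm hXY) hCS
      (by rw [Subgroup.commutator_comm]; exact hF')
    rw [Subgroup.commutator_comm] at l2
    exact ((ih.tail ⟨hX, hCS, hC⟩).tail ⟨hCS, hF', l1⟩).tail ⟨hF', hY, linePartners_symm hY l2⟩

theorem linePartners_orbit (hcl : IsConjClassOfSubgroups S) (hnd : IsNondegenerateRootSet S)
    (hA : A ∈ S) (hA' : A' ∈ S) (hp : IsRankOnePair A A') {M : Subgroup G}
    (hM : ∀ X ∈ linePartners S A, X ≤ M) (hM' : A' ≤ M) {C : Subgroup G}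
    (hC : C ∈ linePartners S A) : A ≤ M ∧ ∃ m ∈ M, conjBy A m = C := by
  have hF := partners_of_nondeg hS hcl hnd
  obtain ⟨h2t, hall⟩ := line_two_trans hS hF hA hC
  have hCS := hC.1.1
  have hAm : A ∈ membersIn S (A ⊔ C) := ⟨hA, le_sup_left⟩
  have hCm : C ∈ membersIn S (A ⊔ C) := ⟨hCS, le_sup_right⟩
  have hmem : ∀ X ∈ membersIn S (A ⊔ C), X ≠ A → X ≤ M := fun X hX hne =>
    hM X (hall X hX A hAm hne).2.1
  have hAM : A ≤ M := by
    intro a ha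
    by_cases ha1 : a = 1
    · rw [ha1]; exact one_mem M
    obtain ⟨c, hc, hc1⟩ := exists_mem_ne_one hS hCS
    have hne1 : a * c ≠ 1 := fun e => hC.1.2.1
      (eq_of_inter hS hA hA' hp hCS ha
        (by rw [eq_inv_of_mul_eq_one_left e]; exact inv_mem hc) ha1).symm
    obtain ⟨X, hX, hxX⟩ := hC.2.2.1 (a * c)
      (mul_mem (Subgroup.mem_sup_left ha) (Subgroup.mem_sup_right hc)) hne1
    have hXA : X ≠ A := by
      rintro rfl
      exact hC.1.2.1 (eq_of_inter hS hA hA' hp hCS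
        (show c ∈ X by simpa using mul_mem (inv_mem ha) hxX) hc hc1).symm
    simpa using mul_mem (hmem X hX hXA hxX) (inv_mem (hM C hC hc))
  refine ⟨hAM, ?_⟩
  obtain ⟨E, hE, F, hFS, hEA', hAF, hsup, -⟩ := line_struct hS hA hA' hp hC
  have hEm : E ∈ membersIn S (A ⊔ C) := ⟨hE, hsup ▸ le_sup_right⟩
  have hEne : E ≠ A := fun e => line_ne hS hA hA' hp hFS (hAF.symm ▸ hE) (one_mem F)
    ((conjBy_one A).trans (e.symm.trans hAF.symm))
  have hFM : F ≤ M := hEA' ▸ (Subgroup.commutator_le.2 fun x hx y hy =>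
    mul_mem (mul_mem (mul_mem (hmem E hEm hEne hx) (hM' hy)) (inv_mem (hmem E hEm hEne hx)))
      (inv_mem (hM' hy)))
  have hFfix : ∀ X ∈ membersIn S (A ⊔ C), X ≠ E → ∃ f ∈ M, conjBy A f = X := by
    intro X hX hne
    rcases line_members hS hA hA' hp hFS (hAF.symm ▸ hE) hX.1
      (by rw [hAF, hsup]; exact hX.2) with h | ⟨f, hf, h⟩
    · exact absurd (h.trans hAF) hne
    · exact ⟨f, hFM hf, h.symm⟩
  by_cases hCE : C ≠ E
  · exact hFfix C hCm hCE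
  push Not at hCE
  obtain ⟨F₂, hF₂S, hCF₂, htr₂⟩ := (hall A hAm C hCm (Ne.symm hC.1.2.1)).2.2
  have hF₂M : F₂ ≤ M := by
    obtain ⟨F', hF', hpF⟩ := hF F₂ hF₂S
    have h1 := linePartners_of_cc hS hF₂S hF' hpF hCS
      (by rw [Subgroup.commutator_comm, hCF₂]; exact hA)
    rw [Subgroup.commutator_comm, hCF₂] at h1
    exact hM F₂ (linePartners_symm hF₂S h1)
  obtain ⟨f, hf, hf1⟩ := exists_mem_ne_one hS hFS
  have hR : conjBy A f ∈ membersIn S (A ⊔ C) := by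
    refine ⟨hS.conj_mem A hA f, ?_⟩
    have h1 := line_le hS hA hA' hp hFS (hAF.symm ▸ hE) hf
    rwa [hAF, hsup] at h1
  have hRA : conjBy A f ≠ A := fun e => hf1 (by
    obtain ⟨x, hx, hx1⟩ := exists_ne_one hp
    refine line_inj hS hA hA' hp hFS (hAF.symm ▸ hE) hx hx1 hf ?_
    have h1 : x * f * x⁻¹ * f⁻¹ ∈ A := by
      rw [show x * f * x⁻¹ * f⁻¹ = x * (f * x⁻¹ * f⁻¹) by group]
      exact mul_mem hx (e ▸ conj_mem_conjBy (inv_mem hx))
    by_contra hne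
    exact hEne (eq_of_inter hS hA hA' hp hE h1 (hAF ▸ commutator_mem hx hf)
      (fun e1 => hne (mul_inv_eq_iff_eq_mul.1 (mul_inv_eq_one.1 e1)))).symm)
  obtain ⟨f', hf', he⟩ := htr₂ _ hR hRA
  exact ⟨f'⁻¹ * f, mul_mem (hF₂M (inv_mem hf')) (hFM hf), by
    rw [← conjBy_conjBy, ← he, conjBy_inv_cancel]⟩

/-- `G` is generated by the line partners of `A` and one opposite member. -/
theorem generation (hcl : IsConjClassOfSubgroups S) (hnd : IsNondegenerateRootSet S)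
    (hA : A ∈ S) (hA' : A' ∈ S) (hp : IsRankOnePair A A') :
    (⨆ C ∈ linePartners S A, C) ⊔ A' = ⊤ := by
  obtain ⟨M, hMdef⟩ : ∃ M, M = (⨆ C ∈ linePartners S A, C) ⊔ A' := ⟨_, rfl⟩
  rw [← hMdef]
  have hM : ∀ X ∈ linePartners S A, X ≤ M := fun X hX =>
    hMdef ▸ (le_iSup₂ (f := fun C _ => C) X hX).trans le_sup_left
  have hM' : A' ≤ M := hMdef ▸ le_sup_right
  obtain ⟨C₀, hC₀⟩ := exists_linePartner hS hcl hnd hA
  have hAM := (linePartners_orbit hS hcl hnd hA hA' hp hM hM' hC₀).1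
  have key : ∀ X ∈ S, ∃ m ∈ M, conjBy A m = X := by
    intro X hX
    have h := eConnected hS hcl hnd A hA X hX
    clear hX
    induction h with
    | refl => exact ⟨1, one_mem M, conjBy_one A⟩
    | tail _ h2 ih =>
      obtain ⟨m, hm, rfl⟩ := ih
      obtain ⟨-, hY, hl⟩ := h2
      have hl' := linePartners_conj hS hl m⁻¹
      rw [conjBy_inv_cancel] at hl'
      obtain ⟨m', hm', he⟩ := (linePartners_orbit hS hcl hnd hA hA' hp hM hM' hl').2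
      exact ⟨m * m', mul_mem hm hm', by rw [← conjBy_conjBy, he, conjBy_cancel_inv]⟩
  rw [eq_top_iff, ← hS.generates]
  refine iSup₂_le fun X hX => ?_
  obtain ⟨m, hm, rfl⟩ := key X hX
  exact conjBy_le hAM hm

end

end Cfsg.Agent.RootSubgroups
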