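import Mathlib
import Cfsg.Agent.Lib.RootSubgroups.DichotomyUni
import Cfsg.Agent.Lib.RootSubgroups.Basic

/-!
The classes `E(σ)` of a quadratic pair: conjugation, scalars, and the two kinds of pairs of classes.
-/

set_option autoImplicit false
open Cfsg Polynomial

namespace Cfsg.Agent.RootSubgroups.Cls

open Quad

variable {k : Type*} [Field k] {M : Type*} [AddCommGroup M] [Module k M] [FiniteDimensional k M]

local notation "GLM" => LinearMap.GeneralLinearGroup k M
local notation "EndM" => Module.End k M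

variable {G : Subgroup (LinearMap.GeneralLinearGroup k M)} {σ τ : LinearMap.GeneralLinearGroup k M}

theorem mem_iff {x : GLM} : x ∈ sameActionSubgroup G σ ↔ x ∈ sameActionClass G σ ∨ x = 1 := by
  rw [← SetLike.mem_coe, sameActionSubgroup_eq, Set.mem_union, Set.mem_singleton_iff]

theorem mem_class {x : GLM} (hx : x ∈ sameActionSubgroup G σ) (h1 : x ≠ 1) :
    x ∈ sameActionClass G σ := (mem_iff.1 hx).resolve_right h1

theorem mem_self (hσ : σ ∈ minimalQuadraticElements G) : σ ∈ sameActionSubgroup G σ :=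
  Subgroup.subset_closure (mem_sameActionClass_self hσ)

theorem ne_one_of_quadratic (hσ : σ ∈ quadraticElements G) : σ ≠ 1 := fun h =>
  (mem_quadratic.1 hσ).2.1 (nil_eq_zero.2 h)

theorem le_group : sameActionSubgroup G σ ≤ G :=
  (Subgroup.closure_le G).2 fun _ hx => hx.1.1.1

theorem ne_bot (hσ : σ ∈ minimalQuadraticElements G) : sameActionSubgroup G σ ≠ ⊥ := fun h =>
  ne_one_of_quadratic hσ.1 (Subgroup.mem_bot.1 (h ▸ mem_self hσ))

theorem eq_of_class (hτ : τ ∈ sameActionClass G σ) :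
    sameActionSubgroup G τ = sameActionSubgroup G σ := by
  have : sameActionClass G τ = sameActionClass G σ := by
    ext x
    exact ⟨fun h => ⟨h.1, h.2.1.trans hτ.2.1, h.2.2.trans hτ.2.2⟩,
      fun h => ⟨h.1, h.2.1.trans hτ.2.1.symm, h.2.2.trans hτ.2.2.symm⟩⟩
  rw [sameActionSubgroup, this, ← sameActionSubgroup]

theorem mul_comm_mem {x y : GLM} (hx : x ∈ sameActionSubgroup G σ) (hy : y ∈ sameActionSubgroup G σ) :
    x * y = y * x :=
  nil_inj (by rw [nil_mul, nil_mul, sameActionSubgroup_annihilate hx hy,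
    sameActionSubgroup_annihilate hy hx, add_comm (nil x)])

theorem nil_mul_mem {x y : GLM} (hx : x ∈ sameActionSubgroup G σ) (hy : y ∈ sameActionSubgroup G σ) :
    nil (x * y) = nil x + nil y := by
  rw [nil_mul, sameActionSubgroup_annihilate hx hy, zero_add]

theorem commutative : IsMulCommutative (sameActionSubgroup G σ) :=
  isMulCommutative_of_forall fun _ hx _ hy => mul_comm_mem hx hy

theorem exists_smul {x : GLM} (hx : x ∈ sameActionSubgroup G σ) (c : k) :
    ∃ y ∈ sameActionSubgroup G σ, nil y = c • nil x := by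
  by_cases h : c = 0 ∨ x = 1
  · refine ⟨1, one_mem _, ?_⟩
    rcases h with rfl | rfl
    · rw [zero_smul, nil_eq_zero.2 rfl]
    · rw [nil_eq_zero.2 rfl, smul_zero]
  push Not at h
  obtain ⟨hc, h1⟩ := h
  have hcl := mem_class hx h1
  obtain ⟨hs, hs0, hsG⟩ := mem_quadratic.1 hcl.1.1
  refine ⟨unit (c • nil x) (smul_sq hs c), Subgroup.subset_closure ?_, nil_unit _ _⟩
  have hr : LinearMap.range (c • nil x) = LinearMap.range (nil x) := LinearMap.range_smul _ _ hc
  refine ⟨⟨mem_quadratic.2 ⟨by rw [nil_unit]; exact smul_sq hs c,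
      by rw [nil_unit]; exact smul_ne_zero hc hs0, fun d => ?_⟩, fun t ht => ?_⟩, ?_, ?_⟩
  · rw [show unit (d • nil (unit (c • nil x) (smul_sq hs c))) _ = unit ((d * c) • nil x) (smul_sq hs _) from
      nil_inj (by rw [nil_unit, nil_unit, nil_unit, smul_smul])]
    exact hsG _
  · have e : commutatorRank (unit (c • nil x) (smul_sq hs c)) = commutatorRank x := by
      show Module.finrank k (LinearMap.range (nil (unit (c • nil x) (smul_sq hs c)))) = _
      rw [nil_unit, hr]; rfl
    rw [e]; exact hcl.1.2 t ht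
  · show LinearMap.ker (nil (unit (c • nil x) (smul_sq hs c))) = _
    rw [nil_unit, LinearMap.ker_smul _ _ hc]; exact hcl.2.1
  · show LinearMap.range (nil (unit (c • nil x) (smul_sq hs c))) = _
    rw [nil_unit, hr]; exact hcl.2.2

theorem nil_conj (g x : GLM) :
    nil (g * x * g⁻¹) = (g : EndM) * nil x * ((g⁻¹ : GLM) : EndM) := by
  show ((g * x * g⁻¹ : GLM) : EndM) - 1 = (g : EndM) * ((x : EndM) - 1) * ((g⁻¹ : GLM) : EndM)
  rw [Units.val_mul, Units.val_mul, mul_sub, sub_mul, mul_one, g.mul_inv]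

theorem range_conj (g x : GLM) :
    LinearMap.range (nil (g * x * g⁻¹)) = (LinearMap.range (nil x)).map (g : M →ₗ[k] M) := by
  have hs : Function.Surjective ((g⁻¹ : GLM) : M →ₗ[k] M) := fun m =>
    ⟨(g : M →ₗ[k] M) m, LinearMap.congr_fun g.inv_mul m⟩
  rw [nil_conj, Module.End.mul_eq_comp, Module.End.mul_eq_comp, LinearMap.range_comp,
    LinearMap.range_eq_top.2 hs, Submodule.map_top, LinearMap.range_comp]

theorem ker_conj (g x : GLM) :
    LinearMap.ker (nil (g * x * g⁻¹)) = (LinearMap.ker (nil x)).comap ((g⁻¹ : GLM) : M →ₗ[k] M) := by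
  have hi : Function.Injective (g : M →ₗ[k] M) := fun a b h => by
    have := congrArg ((g⁻¹ : GLM) : M →ₗ[k] M) h
    simpa [← Module.End.mul_apply, ← Units.val_mul] using this
  rw [nil_conj, Module.End.mul_eq_comp, Module.End.mul_eq_comp, LinearMap.ker_comp,
    LinearMap.ker_comp, LinearMap.ker_eq_bot.2 hi, Submodule.comap_bot]

theorem rank_conj (g x : GLM) : commutatorRank (g * x * g⁻¹) = commutatorRank x := by
  have hi : Function.Injective (g : M →ₗ[k] M) := fun a b h => by
    have := congrArg ((g⁻¹ : GLM) : M →ₗ[k] M) h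
    simpa [← Module.End.mul_apply, ← Units.val_mul] using this
  show Module.finrank k (LinearMap.range (nil (g * x * g⁻¹))) = _
  rw [range_conj]
  exact (Submodule.equivMapOfInjective _ hi _).finrank_eq.symm

theorem quadratic_conj {g x : GLM} (hg : g ∈ G) (hx : x ∈ quadraticElements G) :
    g * x * g⁻¹ ∈ quadraticElements G := by
  obtain ⟨hs, hs0, hsG⟩ := mem_quadratic.1 hx
  have e1 : ∀ a b : EndM, ((g : EndM) * a * ((g⁻¹ : GLM) : EndM)) * ((g : EndM) * b * ((g⁻¹ : GLM) : EndM)) =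
      (g : EndM) * (a * b) * ((g⁻¹ : GLM) : EndM) := fun a b => by
    calc _ = (g : EndM) * a * (((g⁻¹ : GLM) : EndM) * (g : EndM)) * b * ((g⁻¹ : GLM) : EndM) := by
          simp only [mul_assoc]
      _ = _ := by rw [g.inv_mul, mul_one]; simp only [mul_assoc]
  refine mem_quadratic.2 ⟨by rw [nil_conj, e1, hs, mul_zero, zero_mul], fun h => ?_, fun c => ?_⟩
  · exact hs0 (nil_eq_zero.2 (conj_eq_one_iff.1 (nil_eq_zero.1 h)))
  · rw [show unit (c • nil (g * x * g⁻¹)) _ = g * unit (c • nil x) (smul_sq hs c) * g⁻¹ from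
      nil_inj (by rw [nil_unit, nil_conj, nil_conj, nil_unit, mul_smul_comm, smul_mul_assoc])]
    exact mul_mem (mul_mem hg (hsG c)) (inv_mem hg)

theorem minimal_conj {g x : GLM} (hg : g ∈ G) (hx : x ∈ minimalQuadraticElements G) :
    g * x * g⁻¹ ∈ minimalQuadraticElements G :=
  ⟨quadratic_conj hg hx.1, fun t ht => by rw [rank_conj]; exact hx.2 t ht⟩

theorem class_conj {g x : GLM} (hg : g ∈ G) (hx : x ∈ sameActionClass G σ) :
    g * x * g⁻¹ ∈ sameActionClass G (g * σ * g⁻¹) := by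
  refine ⟨minimal_conj hg hx.1, ?_, ?_⟩
  · show LinearMap.ker (nil (g * x * g⁻¹)) = LinearMap.ker (nil (g * σ * g⁻¹))
    rw [ker_conj, ker_conj]; congr 1; exact hx.2.1
  · show LinearMap.range (nil (g * x * g⁻¹)) = LinearMap.range (nil (g * σ * g⁻¹))
    rw [range_conj, range_conj]; congr 1; exact hx.2.2

theorem conjBy_eq {g : GLM} (hg : g ∈ G) (σ : GLM) :
    conjBy (sameActionSubgroup G σ) g = sameActionSubgroup G (g * σ * g⁻¹) := by
  show (Subgroup.closure (sameActionClass G σ)).map (MulAut.conj g).toMonoidHom = _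
  rw [MonoidHom.map_closure, sameActionSubgroup]
  congr 1
  refine Set.Subset.antisymm ?_ fun y hy => ?_
  · rintro _ ⟨x, hx, rfl⟩
    simpa [MulAut.conj_apply] using class_conj hg hx
  · refine ⟨g⁻¹ * y * g, ?_, by simp [MulAut.conj_apply, mul_assoc]⟩
    have h := class_conj (inv_mem hg) hy
    rwa [inv_inv, show g⁻¹ * (g * σ * g⁻¹) * g = σ by group] at h

/-- For a pair of the second kind, an element of the second class inverting the first map. -/
theorem exists_invert (hk2 : ringChar k ≠ 2) (hk3 : Nat.card k ≠ 3)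
    (hσ : σ ∈ minimalQuadraticElements G) (hτ : τ ∈ minimalQuadraticElements G) {f : k[X]}
    (hfm : f.Monic) (hirr : Irreducible f) (h0 : f.coeff 0 ≠ 0)
    (hf : ∀ q, aeval (nil σ * nil τ) q * nil σ = 0 ↔ f ∣ q)
    (hT' : nil τ * aeval (nil σ * nil τ) f = 0) :
    ∃ y ∈ sameActionSubgroup G τ, y ≠ 1 ∧ nil σ * nil y * nil σ = nil σ ∧
      nil y * nil σ * nil y = nil y := by
  haveI : Fact (Irreducible f) := ⟨hirr⟩
  obtain ⟨hS, hS0, -⟩ := mem_quadratic.1 hσ.1
  obtain ⟨hT, -, -⟩ := mem_quadratic.1 hτ.1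
  set S := nil σ
  set T := nil τ
  obtain ⟨r, b, hrb⟩ : IsCoprime (X : k[X]) f :=
    irreducible_X.coprime_iff_not_dvd.2 fun hd => h0 (X_dvd_iff.1 hd)
  have hXr : f ∣ X * r - 1 := ⟨-b, by linear_combination hrb⟩
  set Y := T * aeval (S * T) r with hY
  have hfS : ∀ q, f ∣ q → aeval (S * T) q * S = 0 := fun q hq => (hf q).2 hq
  have hXrS : aeval (S * T) (X * r) * S = S := by
    have h := hfS _ hXr
    rw [map_sub, sub_mul, map_one, one_mul, sub_eq_zero] at h
    exact h
  have hSYS : S * Y * S = S := by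
    rw [hY, ← mul_assoc]
    rw [map_mul, aeval_X] at hXrS
    exact hXrS
  have hT'' : ∀ q, f ∣ q → T * aeval (S * T) q = 0 := fun q hq => by
    obtain ⟨a, rfl⟩ := hq
    rw [map_mul, ← mul_assoc, hT', zero_mul]
  have hYSY : Y * S * Y = Y := by
    have h := hT'' _ ((hXr.mul_left r))
    rw [show r * (X * r - 1) = r * (X * r) - r by ring, map_sub, mul_sub (nil τ), sub_eq_zero, map_mul, map_mul, aeval_X] at h
    rw [hY]
    simp only [mul_assoc] at h ⊢
    exact h
  have hY2 : Y * Y = 0 := by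
    rw [hY, show T * aeval (S * T) r * (T * aeval (S * T) r) =
      T * aeval (S * T) r * T * aeval (S * T) r by simp only [mul_assoc], Gamma.semiconj,
      mul_assoc (aeval (T * S) r) T T, hT, mul_zero, zero_mul]
  have hmem : ∀ c : k, unit (c • Y) (smul_sq hY2 c) ∈ G := by
    intro c
    obtain ⟨g, hg, e⟩ := Gamma.exists_lift (F := f)
      (b := Dk.low (AdjoinRoot.mk f (C c))) (by
        rw [Dk.grp_adjoinRoot_eq_top hk2 hk3 hfm (Dk.root_ne_zero hfm hirr h0)]
        exact Subgroup.mem_top _)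
    have hd := fun i j => Gamma.dvd_of_map_eq (h := Dk.low (C c)) (e.trans (by rw [Dk.map_low])) i j
    obtain ⟨c00, c10, c11⟩ := Gamma.const_terms hg
    have key : ∀ a : k[X], a.coeff 0 = 0 → f ∣ a → f ∣ a.divX := by
      intro a ha hFa
      rw [show a = X * a.divX by conv_lhs => rw [← X_mul_divX_add a, ha, C_0, add_zero]] at hFa
      exact ((irreducible_X.coprime_iff_not_dvd.2 fun hd => h0 (X_dvd_iff.1 hd)).symm).dvd_of_dvd_mul_left hFa
    have t1 : aeval (S * T) (g.1 0 0 - 1).divX * (S * T) = 0 := by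
      rw [← mul_assoc, hfS _ (key _ (by rw [coeff_sub, c00, coeff_one_zero, sub_self])
        (by simpa using hd 0 0)), zero_mul]
    have t2 : aeval (S * T) (g.1 0 1) * S = 0 := hfS _ (by simpa using hd 0 1)
    have t4 : aeval (T * S) (g.1 1 1 - 1).divX * (T * S) = 0 := by
      rw [← mul_assoc, ← Gamma.semiconj, mul_assoc, hfS _ (key _
        (by rw [coeff_sub, c11, coeff_one_zero, sub_self]) (by simpa using hd 1 1)), mul_zero]
    have t3 : T * aeval (S * T) (g.1 1 0).divX = c • Y := by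
      have h10 : f ∣ g.1 1 0 - C c := by simpa using hd 1 0
      have e10 : g.1 1 0 = X * (g.1 1 0).divX := by
        conv_lhs => rw [← X_mul_divX_add (g.1 1 0), c10, C_0, add_zero]
      have hdiv : f ∣ (g.1 1 0).divX - C c * r := by
        refine ((irreducible_X.coprime_iff_not_dvd.2 fun hd => h0 (X_dvd_iff.1 hd)).symm).dvd_of_dvd_mul_left ?_
        have : X * ((g.1 1 0).divX - C c * r) = (g.1 1 0 - C c) - C c * (X * r - 1) := by
          rw [mul_sub, ← e10]; ring
        rw [this]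
        exact dvd_sub h10 (hXr.mul_left _)
      have h := hT'' _ hdiv
      rw [map_sub, mul_sub, sub_eq_zero, map_mul, aeval_C, Algebra.algebraMap_eq_smul_one,
        smul_mul_assoc, one_mul, mul_smul_comm] at h
      exact h
    rw [show unit (c • Y) _ = Gamma.hom hS hT ⟨g, hg⟩ from Units.ext (by
      rw [Gamma.hom_val, Gamma.val, t1, t2, t4, t3, add_zero, add_zero, add_zero]; rfl)]
    exact Gamma.closure_le hσ.1 hτ.1 ((Gamma.range_eq hσ.1 hτ.1).le ⟨_, rfl⟩)
  have hY0 : Y ≠ 0 := fun h => hS0 (by rw [← hSYS, h, mul_zero, zero_mul])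
  have hq : unit Y hY2 ∈ quadraticElements G := mem_quadratic.2
    ⟨by rw [nil_unit]; exact hY2, by rw [nil_unit]; exact hY0, fun c => by
      convert hmem c using 2
      rw [nil_unit]⟩
  have hrk : commutatorRank τ ≤ commutatorRank (unit Y hY2) := hτ.2 _ hq
  have hn : commutatorRank (unit Y hY2) = Module.finrank k (LinearMap.range Y) :=
    congrArg (fun Z : EndM => Module.finrank k (LinearMap.range Z)) (nil_unit Y hY2)
  have hrle : LinearMap.range Y ≤ LinearMap.range T := LinearMap.range_comp_le_range _ _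
  have hreq : LinearMap.range Y = LinearMap.range T :=
    Submodule.eq_of_le_of_finrank_le hrle (hn ▸ hrk)
  have hkle : LinearMap.ker T ≤ LinearMap.ker Y := by
    intro m hm
    rw [LinearMap.mem_ker] at hm ⊢
    rw [hY, Gamma.semiconj, Module.End.mul_apply, hm, map_zero]
  have hkeq : LinearMap.ker Y = LinearMap.ker T := by
    refine (Submodule.eq_of_le_of_finrank_le hkle ?_).symm
    have h1 := LinearMap.finrank_range_add_finrank_ker Y
    have h2 := LinearMap.finrank_range_add_finrank_ker T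
    rw [hreq] at h1
    omega
  refine ⟨unit Y hY2, Subgroup.subset_closure ⟨⟨hq, fun t ht => ?_⟩, ?_, ?_⟩, ne_one_of_quadratic hq,
    by rw [nil_unit]; exact hSYS, by rw [nil_unit]; exact hYSY⟩
  · rw [hn, hreq]; exact hτ.2 t ht
  · show LinearMap.ker (nil (unit Y hY2)) = _
    rw [nil_unit, hkeq]
  · show LinearMap.range (nil (unit Y hY2)) = _
    rw [nil_unit, hreq]

/-- `y = y s y'`-style factorisation through a member of the same class. -/
theorem eq_conj_of_class {y y' : GLM} (hy : y ∈ sameActionClass G τ) (hy' : y' ∈ sameActionClass G τ)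
    {S : EndM} (h : nil y' * S * nil y' = nil y') :
    nil y = nil y' * S * nil y * (S * nil y') := by
  have h1 : nil y * (1 - S * nil y') = 0 := by
    refine LinearMap.ext fun m => ?_
    have hm : (1 - S * nil y') m ∈ LinearMap.ker (nil y') := by
      rw [LinearMap.mem_ker, ← Module.End.mul_apply, mul_sub, mul_one, ← mul_assoc, h, sub_self]
      rfl
    rw [hy'.2.1, ← hy.2.1] at hm
    exact hm
  have h2 : nil y' * S * nil y = nil y := by
    refine LinearMap.ext fun m => ?_
    obtain ⟨w, hw⟩ : nil y m ∈ LinearMap.range (nil y') := by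
      rw [hy'.2.2, ← hy.2.2]; exact LinearMap.mem_range_self _ m
    rw [Module.End.mul_apply, ← hw, ← Module.End.mul_apply, h]
  rw [h2]
  rwa [mul_sub, mul_one, sub_eq_zero] at h1

/-- All products `xyx`, `yxy` vanish. -/
def Uni (G : Subgroup (LinearMap.GeneralLinearGroup k M)) (σ τ : LinearMap.GeneralLinearGroup k M) :
    Prop :=
  ∀ x ∈ sameActionSubgroup G σ, ∀ y ∈ sameActionSubgroup G τ,
    nil x * nil y * nil x = 0 ∧ nil y * nil x * nil y = 0

/-- Every non-identity element has an inverting partner. -/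
def Inv (G : Subgroup (LinearMap.GeneralLinearGroup k M)) (σ τ : LinearMap.GeneralLinearGroup k M) :
    Prop :=
  ∀ x ∈ sameActionSubgroup G σ, x ≠ 1 → ∃ y ∈ sameActionSubgroup G τ, y ≠ 1 ∧
    nil x * nil y * nil x = nil x ∧ nil y * nil x * nil y = nil y

theorem sandwich_ne (hk2 : ringChar k ≠ 2) (hk3 : Nat.card k ≠ 3)
    (hσ : σ ∈ minimalQuadraticElements G) (hτ : τ ∈ minimalQuadraticElements G)
    (h : nil σ * nil τ * nil σ ≠ 0) :
    nil τ * nil σ * nil τ ≠ 0 ∧ ∀ y ∈ sameActionSubgroup G τ, y ≠ 1 → nil σ * nil y * nil σ ≠ 0 := by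
  rcases Gamma.dichotomy hk2 hk3 hσ hτ with ⟨h1, -⟩ | ⟨f, hfm, hirr, h0, hf, hT⟩
  · exact absurd h1 h
  obtain ⟨y', hy', hy'1, -, e2⟩ := exists_invert hk2 hk3 hσ hτ hfm hirr h0 hf hT
  have main : ∀ y ∈ sameActionSubgroup G τ, y ≠ 1 → nil σ * nil y * nil σ ≠ 0 := by
    intro y hy hy1 hz
    refine (mem_quadratic.1 (mem_class hy hy1).1.1).2.1 ?_
    rw [eq_conj_of_class (mem_class hy hy1) (mem_class hy' hy'1) e2,
      show nil y' * nil σ * nil y * (nil σ * nil y') = nil y' * (nil σ * nil y * nil σ) * nil y' by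
        noncomm_ring, hz, mul_zero, zero_mul]
  refine ⟨fun hz => ?_, main⟩
  rcases Gamma.dichotomy hk2 hk3 hτ hσ with ⟨-, h2⟩ | ⟨f', hfm', hirr', h0', hf', hT2⟩
  · exact h h2
  obtain ⟨x', hx', hx'1, -, e2'⟩ := exists_invert hk2 hk3 hτ hσ hfm' hirr' h0' hf' hT2
  refine (mem_quadratic.1 hσ.1).2.1 ?_
  rw [eq_conj_of_class (mem_sameActionClass_self hσ) (mem_class hx' hx'1) e2',
    show nil x' * nil τ * nil σ * (nil τ * nil x') = nil x' * (nil τ * nil σ * nil τ) * nil x' by
      noncomm_ring, hz, mul_zero, zero_mul]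

/-- **Two classes either act unipotently or invert each other.** -/
theorem uni_or_inv (hk2 : ringChar k ≠ 2) (hk3 : Nat.card k ≠ 3)
    (hσ : σ ∈ minimalQuadraticElements G) (hτ : τ ∈ minimalQuadraticElements G) :
    Uni G σ τ ∨ (Inv G σ τ ∧ Inv G τ σ) := by
  have inv : ∀ {σ τ : GLM}, σ ∈ minimalQuadraticElements G → τ ∈ minimalQuadraticElements G →
      ∀ x₀ ∈ sameActionSubgroup G σ, ∀ y₀ ∈ sameActionSubgroup G τ, x₀ ≠ 1 → y₀ ≠ 1 →
      nil x₀ * nil y₀ * nil x₀ ≠ 0 → Inv G σ τ := by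
    intro σ τ hσ hτ x₀ hx₀ y₀ hy₀ hx1 hy1 hne x hx hxne
    have hcx := mem_class hx hxne
    have hcy := mem_class hy₀ hy1
    have hc0 := mem_class hx₀ hx1
    have hne' : nil x * nil y₀ * nil x ≠ 0 := by
      have h1 := (sandwich_ne hk2 hk3 hc0.1 hcy.1 hne).1
      have h2 := (sandwich_ne hk2 hk3 hcy.1 hc0.1 h1).2 x (eq_of_class hc0 ▸ hx) hxne
      exact (sandwich_ne hk2 hk3 hcy.1 hcx.1 h2).1
    rcases Gamma.dichotomy hk2 hk3 hcx.1 hcy.1 with ⟨h1, -⟩ | ⟨f, hfm, hirr, h0, hf, hT⟩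
    · exact absurd h1 hne'
    obtain ⟨y, hy, hy', e1, e2⟩ := exists_invert hk2 hk3 hcx.1 hcy.1 hfm hirr h0 hf hT
    exact ⟨y, eq_of_class hcy ▸ hy, hy', e1, e2⟩
  by_cases h : Uni G σ τ
  · exact Or.inl h
  right
  rw [Uni] at h
  push Not at h
  obtain ⟨x, hx, y, hy, hne⟩ := h
  have hx1 : x ≠ 1 := fun e => by
    subst e
    exact hne (by simp [nil_eq_zero.2 rfl]) (by simp [nil_eq_zero.2 rfl])
  have hy1 : y ≠ 1 := fun e => by
    subst e
    exact hne (by simp [nil_eq_zero.2 rfl]) (by simp [nil_eq_zero.2 rfl])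
  have hcx := mem_class hx hx1
  have hcy := mem_class hy hy1
  by_cases h1 : nil x * nil y * nil x = 0
  · have h2 := hne h1
    exact absurd h1 (sandwich_ne hk2 hk3 hcy.1 hcx.1 h2).1
  exact ⟨inv hσ hτ x hx y hy hx1 hy1 h1,
    inv hτ hσ y hy x hx hy1 hx1 (sandwich_ne hk2 hk3 hcx.1 hcy.1 h1).1⟩

end Cfsg.Agent.RootSubgroups.Cls
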