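import Mathlib
import Cfsg.Agent.Lib.RootSubgroups.QuadClass

/-!
Two inverting classes form a special rank one pair with a central involution; two unipotent classes
generate a group acting unipotently.
-/

set_option autoImplicit false
open Cfsg

namespace Cfsg.Agent.RootSubgroups.Cls

open Quad

variable {k : Type*} [Field k] {M : Type*} [AddCommGroup M] [Module k M] [FiniteDimensional k M]

local notation "GLM" => LinearMap.GeneralLinearGroup k M
local notation "EndM" => Module.End k M

variable {G : Subgroup (LinearMap.GeneralLinearGroup k M)} {σ τ : LinearMap.GeneralLinearGroup k M}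

theorem nil_braid {x y : GLM} (hx : nil x * nil x = 0) (hy : nil y * nil y = 0)
    (h1 : nil x * nil y * nil x = nil x) (h2 : nil y * nil x * nil y = nil y) :
    y⁻¹ * x * y = x⁻¹ * y⁻¹ * x := by
  refine nil_inj ?_
  rw [nil_mul, nil_mul, nil_mul, nil_mul, nil_inv hx, nil_inv hy]
  obtain ⟨S, hS⟩ : ∃ S, S = nil x := ⟨_, rfl⟩
  obtain ⟨T, hT⟩ : ∃ T, T = nil y := ⟨_, rfl⟩
  rw [← hS] at hx h1 h2 ⊢
  rw [← hT] at hy h1 h2 ⊢
  simp only [add_mul, neg_mul, mul_neg, neg_neg, hx, hy, h1, h2]
  abel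

theorem conjBy_eq_of_mem {x y : GLM} (hy : y ∈ G) (hx : x ∈ sameActionClass G σ) :
    conjBy (sameActionSubgroup G σ) y = sameActionSubgroup G (y * x * y⁻¹) := by
  rw [← eq_of_class hx, conjBy_eq hy]

theorem cond (hinv : Inv G σ τ) :
    RankOneCondition (sameActionSubgroup G σ) (sameActionSubgroup G τ) := by
  intro x hx hx1
  obtain ⟨y, hy, hy1, h1, h2⟩ := hinv x hx hx1
  have hcx := mem_class hx hx1
  have hcy := mem_class hy hy1
  refine ⟨y, hy, hy1, ?_⟩
  rw [conjBy_eq_of_mem (le_group (inv_mem hy)) hcx,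
    conjBy_eq_of_mem (le_group (inv_mem hx)) (mem_class (inv_mem hy) (inv_ne_one.2 hy1)),
    inv_inv, inv_inv]
  rw [nil_braid (mem_quadratic.1 hcx.1.1).1 (mem_quadratic.1 hcy.1.1).1 h1 h2]

theorem pair (hσ : σ ∈ minimalQuadraticElements G) (hinv : Inv G σ τ) (hinv' : Inv G τ σ) :
    IsRankOnePair (sameActionSubgroup G σ) (sameActionSubgroup G τ) := by
  haveI : IsMulCommutative (sameActionSubgroup G σ) := commutative
  haveI : IsMulCommutative (sameActionSubgroup G τ) := commutative
  have hn : ∀ H : Subgroup GLM, IsMulCommutative H → Group.IsNilpotent H := fun H hH => by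
    letI : CommGroup H := { (inferInstance : Group H) with mul_comm := hH.is_comm.comm }
    exact CommGroup.isNilpotent
  refine ⟨fun he => ?_, hn _ commutative, hn _ commutative, cond hinv, cond hinv'⟩
  obtain ⟨y, hy, -, h1, -⟩ := hinv σ (mem_self hσ) (ne_one_of_quadratic hσ.1)
  refine (mem_quadratic.1 hσ.1).2.1 ?_
  rw [← h1, sameActionSubgroup_annihilate (mem_self hσ) (he ▸ hy), zero_mul]

theorem special (hσ : σ ∈ minimalQuadraticElements G) (hinv : Inv G σ τ) (hinv' : Inv G τ σ) :
    IsSpecialRankOnePair (sameActionSubgroup G σ) (sameActionSubgroup G τ) := by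
  refine ⟨pair hσ hinv hinv', fun a ha ha1 b hb hb1 he => ?_⟩
  obtain ⟨y, hy, hy1, h1, h2⟩ := hinv a ha ha1
  have hcx := mem_class ha ha1
  have hcy := mem_class hy hy1
  have hbr := nil_braid (mem_quadratic.1 hcx.1.1).1 (mem_quadratic.1 hcy.1.1).1 h1 h2
  have hey : conjBy (sameActionSubgroup G σ) y⁻¹ = conjBy (sameActionSubgroup G τ) a⁻¹ := by
    rw [conjBy_eq_of_mem (le_group (inv_mem hy)) hcx,
      conjBy_eq_of_mem (le_group (inv_mem ha)) (mem_class (inv_mem hy) (inv_ne_one.2 hy1)),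
      inv_inv, inv_inv, hbr]
  obtain rfl := partner_unique (pair hσ hinv hinv') hb hy (he.trans hey.symm)
  exact hbr

omit [FiniteDimensional k M] in
theorem sup_eq_closure {A B : Subgroup GLM} :
    A ⊔ B = Subgroup.closure ((A : Set GLM) ∪ B) := by
  rw [Subgroup.closure_union, Subgroup.closure_eq, Subgroup.closure_eq]

theorem exists_central (hk2 : ringChar k ≠ 2) (hσ : σ ∈ minimalQuadraticElements G)
    (hinv : Inv G σ τ) :
    (∃! i : GLM, i ∈ sameActionSubgroup G σ ⊔ sameActionSubgroup G τ ∧ i ≠ 1 ∧ i * i = 1 ∧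
        (∀ x ∈ sameActionSubgroup G σ ⊔ sameActionSubgroup G τ, i * x = x * i) ∧
        (∀ m ∈ commutatorSubmodule (sameActionSubgroup G σ ⊔ sameActionSubgroup G τ),
          (i : M →ₗ[k] M) m = -m) ∧
        (∀ m ∈ fixedSubmodule (sameActionSubgroup G σ ⊔ sameActionSubgroup G τ),
          (i : M →ₗ[k] M) m = m)) ∧
      IsCompl (fixedSubmodule (sameActionSubgroup G σ ⊔ sameActionSubgroup G τ))
        (commutatorSubmodule (sameActionSubgroup G σ ⊔ sameActionSubgroup G τ)) := by
  obtain ⟨y, hy, hy1, h1, h2⟩ := hinv σ (mem_self hσ) (ne_one_of_quadratic hσ.1)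
  obtain ⟨hS, hS0, -⟩ := mem_quadratic.1 hσ.1
  have hcy := mem_class hy hy1
  have hT := (mem_quadratic.1 hcy.1.1).1
  set A := sameActionSubgroup G σ with hA
  set B := sameActionSubgroup G τ with hB
  obtain ⟨S, hSdef⟩ : ∃ S, S = nil σ := ⟨_, rfl⟩
  obtain ⟨T, hTdef⟩ : ∃ T, T = nil y := ⟨_, rfl⟩
  rw [← hSdef] at hS hS0 h1 h2
  rw [← hTdef] at hT h1 h2
  obtain ⟨E, hE⟩ : ∃ E, E = S * T + T * S := ⟨_, rfl⟩
  have hES : E * S = S := by rw [hE, add_mul, mul_assoc T, hS, mul_zero, add_zero, h1]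
  have hSE : S * E = S := by rw [hE, mul_add, ← mul_assoc, ← mul_assoc, hS, zero_mul, zero_add, h1]
  have hET : E * T = T := by rw [hE, add_mul, mul_assoc S, hT, mul_zero, zero_add, h2]
  have hTE : T * E = T := by rw [hE, mul_add, ← mul_assoc, ← mul_assoc, hT, zero_mul, add_zero, h2]
  have hEE : E * E = E := by
    conv_lhs => arg 2; rw [hE]
    rw [mul_add, ← mul_assoc, ← mul_assoc, hES, hET, ← hE]
  -- the idempotent fixes the nilpotent parts of both classes on both sides
  have hfix : ∀ x ∈ A ⊔ B, E * nil x = nil x ∧ nil x * E = nil x := by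
    have gen : ∀ (ρ : GLM) (R : EndM), E * R = R → R * E = R → nil ρ = R →
        ∀ x ∈ sameActionSubgroup G ρ, E * nil x = nil x ∧ nil x * E = nil x := by
      intro ρ R he1 he2 hR x hx
      rcases mem_iff.1 hx with hx' | rfl
      · constructor
        · refine LinearMap.ext fun m => ?_
          obtain ⟨w, hw⟩ : nil x m ∈ LinearMap.range R := by
            rw [← hR, ← hx'.2.2]; exact LinearMap.mem_range_self _ m
          rw [Module.End.mul_apply, ← hw, ← Module.End.mul_apply, he1]
        · refine LinearMap.ext fun m => ?_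
          have hm : E m - m ∈ LinearMap.ker (nil ρ) := by
            rw [hR, LinearMap.mem_ker, map_sub, ← Module.End.mul_apply, he2, sub_self]
          rw [← hx'.2.1, LinearMap.mem_ker, map_sub, sub_eq_zero] at hm
          exact hm
      · rw [nil_eq_zero.2 rfl, mul_zero, zero_mul]; exact ⟨rfl, rfl⟩
    intro x hx
    rw [sup_eq_closure] at hx
    induction hx using Subgroup.closure_induction'' with
    | mem x hx =>
      rcases hx with hx | hx
      · exact gen σ S hES hSE hSdef.symm x hx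
      · exact gen y T hET hTE hTdef.symm x (eq_of_class hcy ▸ hx)
    | inv_mem x hx =>
      rcases hx with hx | hx
      · exact gen σ S hES hSE hSdef.symm _ (inv_mem hx)
      · exact gen y T hET hTE hTdef.symm _ (eq_of_class hcy ▸ inv_mem hx)
    | one => rw [nil_eq_zero.2 rfl, mul_zero, zero_mul]; exact ⟨rfl, rfl⟩
    | mul a b _ _ ha hb =>
      rw [nil_mul, mul_add, add_mul, ← mul_assoc, mul_add, ha.1, hb.1, add_mul, mul_assoc (nil a) (nil b),
        hb.2, ha.2]
      exact ⟨rfl, rfl⟩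
  have hker : fixedSubmodule (A ⊔ B) = LinearMap.ker E := by
    refine le_antisymm (fun m hm => ?_) (le_iInf₂ fun g hg m hm => ?_)
    · have hmem : ∀ g ∈ A ⊔ B, m ∈ LinearMap.ker (nil g) := fun g hg => by
        simp only [fixedSubmodule, Submodule.mem_iInf] at hm; exact hm g hg
      have a1 : S m = 0 := hSdef ▸ hmem σ (Subgroup.mem_sup_left (mem_self hσ))
      have a2 : T m = 0 := hTdef ▸ hmem y (Subgroup.mem_sup_right hy)
      rw [LinearMap.mem_ker, hE, LinearMap.add_apply, Module.End.mul_apply, Module.End.mul_apply, a1, a2,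
        map_zero, map_zero, add_zero]
    · change nil g m = 0
      rw [← (hfix g hg).2, Module.End.mul_apply, LinearMap.mem_ker.1 hm, map_zero]
  have hrange : commutatorSubmodule (A ⊔ B) = LinearMap.range E := by
    refine le_antisymm (iSup₂_le fun g hg => ?_) ?_
    · change LinearMap.range (nil g) ≤ LinearMap.range E
      rw [← (hfix g hg).1, Module.End.mul_eq_comp]
      exact LinearMap.range_comp_le_range _ _
    · rintro _ ⟨m, rfl⟩
      rw [hE, LinearMap.add_apply]
      refine add_mem ?_ ?_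
      · exact Submodule.mem_iSup_of_mem σ (Submodule.mem_iSup_of_mem (Subgroup.mem_sup_left (mem_self hσ))
          (hSdef ▸ LinearMap.mem_range_self S (T m)))
      · exact Submodule.mem_iSup_of_mem y (Submodule.mem_iSup_of_mem (Subgroup.mem_sup_right hy)
          (hTdef ▸ LinearMap.mem_range_self T (S m)))
  have hcompl : IsCompl (fixedSubmodule (A ⊔ B)) (commutatorSubmodule (A ⊔ B)) := by
    rw [hker, hrange]
    refine IsCompl.symm (LinearMap.IsIdempotentElem.isCompl ?_)
    exact hEE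
  obtain ⟨i, hidef⟩ : ∃ i, i = σ * y⁻¹ * σ * (σ * y⁻¹ * σ) := ⟨_, rfl⟩
  have hiX : i ∈ A ⊔ B := by
    rw [hidef]
    have h : σ * y⁻¹ * σ ∈ A ⊔ B :=
      mul_mem (mul_mem (Subgroup.mem_sup_left (mem_self hσ)) (Subgroup.mem_sup_right (inv_mem hy)))
        (Subgroup.mem_sup_left (mem_self hσ))
    exact mul_mem h h
  have hw : nil (σ * y⁻¹ * σ) = -E + (S - T) := by
    rw [nil_mul, nil_mul, nil_inv (hTdef ▸ hT), ← hSdef, ← hTdef]
    simp only [add_mul, neg_mul, mul_neg, hS, h1, hE]
    abel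
  have hD : (S - T) * (S - T) = -E := by
    rw [sub_mul, mul_sub, mul_sub, hS, hT, hE]
    abel
  have hED : E * (S - T) = S - T := by rw [mul_sub, hES, hET]
  have hDE : (S - T) * E = S - T := by rw [sub_mul, hSE, hTE]
  have hi : nil i = -(E + E) := by
    rw [hidef, nil_mul, hw]
    simp only [add_mul, mul_add, neg_mul, mul_neg, neg_neg, hEE, hED, hDE, hD]
    abel
  have hneg : ∀ m ∈ commutatorSubmodule (A ⊔ B), (i : M →ₗ[k] M) m = -m := by
    intro m hm
    rw [hrange] at hm
    obtain ⟨w, rfl⟩ := hm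
    change (i : EndM) (E w) = _
    have e : E (E w) = E w := LinearMap.congr_fun hEE w
    rw [val_eq i, hi, LinearMap.add_apply, LinearMap.neg_apply, LinearMap.add_apply, e]
    show E w + -(E w + E w) = -(E w)
    abel
  have hpos : ∀ m ∈ fixedSubmodule (A ⊔ B), (i : M →ₗ[k] M) m = m := by
    intro m hm
    rw [hker, LinearMap.mem_ker] at hm
    change (i : EndM) m = _
    rw [val_eq i, hi, LinearMap.add_apply, LinearMap.neg_apply, LinearMap.add_apply, hm]
    simp
  refine ⟨⟨i, ⟨hiX, fun h => ?_, nil_inj ?_, fun x hx => nil_inj ?_, hneg, hpos⟩, ?_⟩, hcompl⟩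
  · apply hS0
    have h0 : E + E = 0 := neg_eq_zero.1 (hi.symm.trans (nil_eq_zero.2 h))
    have h3 : (2 : k) • S = 0 := by
      rw [two_smul, ← hES, ← add_mul, h0, zero_mul]
    exact (smul_eq_zero.1 h3).resolve_left (Dk.two_ne_zero_of_ringChar hk2)
  · rw [nil_mul, hi, nil_eq_zero.2 rfl]
    simp only [add_mul, mul_add, neg_mul, mul_neg, neg_neg, hEE]
    abel
  · rw [nil_mul, nil_mul, hi]
    obtain ⟨e1, e2⟩ := hfix x hx
    simp only [add_mul, mul_add, neg_mul, mul_neg, e1, e2]
    abel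
  · rintro j ⟨-, -, -, -, hjneg, hjpos⟩
    refine Units.ext (LinearMap.ext fun m => ?_)
    obtain ⟨a, ha, b, hb, rfl⟩ := Submodule.mem_sup.1
      (hcompl.sup_eq_top ▸ Submodule.mem_top : m ∈ fixedSubmodule (A ⊔ B) ⊔ commutatorSubmodule (A ⊔ B))
    rw [map_add, map_add, hjpos a ha, hjneg b hb, hpos a ha, hneg b hb]

theorem mid_zero {x x' y : GLM} (hx : x ∈ sameActionClass G σ) (hx' : x' ∈ sameActionClass G σ)
    (h : nil x' * nil y * nil x' = 0) : nil x * nil y * nil x' = 0 := by
  refine LinearMap.ext fun m => ?_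
  have h' : nil y (nil x' m) ∈ LinearMap.ker (nil x') := LinearMap.congr_fun h m
  rw [hx'.2.1, ← hx.2.1] at h'
  exact h'

theorem unipotent_of_uni (hu : Uni G σ τ) :
    IsUnipotentOn (sameActionSubgroup G σ ⊔ sameActionSubgroup G τ) := by
  set A := sameActionSubgroup G σ
  set B := sameActionSubgroup G τ
  set a := Unipotent.sp A
  set b := Unipotent.sp B
  have hsq : ∀ ρ : GLM, Unipotent.sp (sameActionSubgroup G ρ) * Unipotent.sp (sameActionSubgroup G ρ) = ⊥ := by
    intro ρ
    rw [Unipotent.sp, Submodule.span_mul_span, Submodule.span_eq_bot]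
    rintro _ ⟨_, ⟨x, hx, rfl⟩, _, ⟨y, hy, rfl⟩, rfl⟩
    exact sameActionSubgroup_annihilate hx hy
  have haba : a * b * a = ⊥ := by
    rw [show a = Unipotent.sp A from rfl, show b = Unipotent.sp B from rfl, Unipotent.sp, Unipotent.sp,
      Submodule.span_mul_span, Submodule.span_mul_span, Submodule.span_eq_bot]
    rintro _ ⟨_, ⟨_, ⟨x, hx, rfl⟩, _, ⟨y, hy, rfl⟩, rfl⟩, _, ⟨x', hx', rfl⟩, rfl⟩
    change nil x * nil y * nil x' = 0
    rcases mem_iff.1 hx with h | rfl
    · rcases mem_iff.1 hx' with h' | rfl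
      · exact mid_zero h h' (hu x' hx' y hy).1
      · rw [nil_eq_zero.2 rfl, mul_zero]
    · rw [nil_eq_zero.2 rfl, zero_mul, zero_mul]
  have hbab : b * a * b = ⊥ := by
    rw [show a = Unipotent.sp A from rfl, show b = Unipotent.sp B from rfl, Unipotent.sp, Unipotent.sp,
      Submodule.span_mul_span, Submodule.span_mul_span, Submodule.span_eq_bot]
    rintro _ ⟨_, ⟨_, ⟨x, hx, rfl⟩, _, ⟨y, hy, rfl⟩, rfl⟩, _, ⟨x', hx', rfl⟩, rfl⟩
    change nil x * nil y * nil x' = 0
    rcases mem_iff.1 hx with h | rfl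
    · rcases mem_iff.1 hx' with h' | rfl
      · exact mid_zero h h' (hu y hy x' hx').2
      · rw [nil_eq_zero.2 rfl, mul_zero]
    · rw [nil_eq_zero.2 rfl, zero_mul, zero_mul]
  have haa : a * a = ⊥ := hsq σ
  have hbb : b * b = ⊥ := hsq τ
  set N := a ⊔ b ⊔ (a * b ⊔ b * a) with hN
  have z1 : a * (b * a) = ⊥ := by rw [← mul_assoc, haba]
  have z2 : b * (a * b) = ⊥ := by rw [← mul_assoc, hbab]
  have z3 : ∀ x : Submodule k EndM, a * (a * x) = ⊥ := fun x => by rw [← mul_assoc, haa, Submodule.bot_mul]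
  have z4 : ∀ x : Submodule k EndM, b * (b * x) = ⊥ := fun x => by rw [← mul_assoc, hbb, Submodule.bot_mul]
  have hNN : N * N ≤ a * b ⊔ b * a := by
    simp only [hN, Submodule.sup_mul, Submodule.mul_sup, mul_assoc, haa, hbb, z1, z2, z3, z4,
      Submodule.mul_bot, sup_bot_eq, bot_sup_eq]
    exact sup_le (by simp) (by simp)
  have hNN' : (a * b ⊔ b * a) * N = ⊥ := by
    simp only [hN, Submodule.sup_mul, Submodule.mul_sup, mul_assoc, haa, hbb, z1, z2, z3, z4,
      Submodule.mul_bot, sup_bot_eq]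
  have hle : Unipotent.sp (A ⊔ B) ≤ N := by
    refine Unipotent.sp_le fun g hg => ?_
    rw [sup_eq_closure] at hg
    change nil g ∈ N
    induction hg using Subgroup.closure_induction'' with
    | mem x hx =>
      rcases hx with hx | hx
      · exact Submodule.mem_sup_left (Submodule.mem_sup_left (Unipotent.sub_one_mem hx))
      · exact Submodule.mem_sup_left (Submodule.mem_sup_right (Unipotent.sub_one_mem hx))
    | inv_mem x hx =>
      rcases hx with hx | hx
      · exact Submodule.mem_sup_left (Submodule.mem_sup_left (Unipotent.sub_one_mem (inv_mem hx)))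
      · exact Submodule.mem_sup_left (Submodule.mem_sup_right (Unipotent.sub_one_mem (inv_mem hx)))
    | one => rw [nil_eq_zero.2 rfl]; exact zero_mem _
    | mul x y _ _ hx hy =>
      rw [nil_mul]
      exact add_mem (hNN.trans le_sup_right (Submodule.mul_mem_mul hx hy)) (add_mem hx hy)
  refine Unipotent.isUnipotentOn_iff.2 ⟨3, eq_bot_iff.2 ?_⟩
  refine (pow_le_pow_left' hle 3).trans ?_
  rw [pow_succ, pow_two, ← hNN']
  exact mul_le_mul' hNN le_rfl

end Cfsg.Agent.RootSubgroups.Cls
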