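import Cfsg.Agent.Lib.RootSubgroups.QuadParts

/-!
Quasisimplicity of the components and their finiteness.
-/

set_option autoImplicit false
open Cfsg

namespace Cfsg.Agent.RootSubgroups.Cls

open Quad

variable {k : Type*} [Field k] {M : Type*} [AddCommGroup M] [Module k M] [FiniteDimensional k M]

local notation "GLM" => LinearMap.GeneralLinearGroup k M
local notation "EndM" => Module.End k M

variable {G : Subgroup (LinearMap.GeneralLinearGroup k M)} {A B : Subgroup (LinearMap.GeneralLinearGroup k M)}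

theorem unipotent_of_commute (hk2 : ringChar k ≠ 2) (hk3 : Nat.card k ≠ 3)
    (hA : A ∈ quadraticRootSubgroups G) (hB : B ∈ quadraticRootSubgroups G) (h : ⁅A, B⁆ = ⊥) :
    IsUnipotentOn (A ⊔ B) := by
  obtain ⟨σ, hσ, rfl⟩ := hA
  obtain ⟨τ, hτ, rfl⟩ := hB
  rcases uni_or_inv hk2 hk3 hσ hτ with hu | ⟨h1, h2⟩
  · exact unipotent_of_uni hu
  · exact absurd (pair hσ h1 h2) (comm_of_pair_bot h)

/-- A subgroup of a component normalised by it whose conjugates of the members commute is centralised by it. -/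
theorem central_of_commuting (hk2 : ringChar k ≠ 2) (hk3 : Nat.card k ≠ 3) (hirr : NoUni G)
    {N : Subgroup GLM} (hN : N ≤ gPart G A) (hn : ∀ g ∈ gPart G A, conjBy N g = N)
    (hc : ∀ P ∈ part G A, ∀ x ∈ N, ⁅P, conjBy P x⁆ = ⊥) :
    ∀ P ∈ part G A, ∀ p ∈ P, ∀ x ∈ N, x * p = p * x := by
  set U : Subgroup GLM → Subgroup GLM := fun P => ⨆ L ∈ {L | ∃ x ∈ N, L = conjBy P x}, L
  have hN0 : N ≤ g0 G := hN.trans gPart_le
  have hUu : ∀ P ∈ part G A, IsUnipotentOn (U P) := by
    intro P hP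
    have hmem : ∀ x ∈ N, conjBy P x ∈ part G A := fun x hx => part_conj hk2 hk3 hirr hP (hN0 hx)
    have hcomm : ∀ x ∈ N, ∀ x' ∈ N, ⁅conjBy P x, conjBy P x'⁆ = ⊥ := by
      intro x hx x' hx'
      have h := congrArg (fun L => conjBy L x) (hc P hP _ (mul_mem (inv_mem hx) hx'))
      simpa only [conjBy_commutator, conjBy_bot, conjBy_conjBy, mul_inv_cancel_left] using h
    refine Unipotent.iSup_unipotent ?_ ?_
    · rintro _ ⟨x, hx, rfl⟩ _ ⟨x', hx', rfl⟩
      exact unipotent_of_commute hk2 hk3 (hmem x hx).1 (hmem x' hx').1 (hcomm x hx x' hx')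
    · rintro _ ⟨x, hx, rfl⟩ _ ⟨x', hx', rfl⟩ b hb
      exact ⟨x, hx, conjBy_of_commute fun a ha => (commute_of_commutator_eq_bot (hcomm x hx x' hx') ha hb).symm⟩
  have hUconj : ∀ P, ∀ g : GLM, (∀ x ∈ N, g * x * g⁻¹ ∈ N) → U P ≤ (U (conjBy P g)).comap (MulAut.conj g).toMonoidHom := by
    intro P g hg
    refine iSup₂_le fun L hL y hy => ?_
    obtain ⟨x, hx, rfl⟩ := hL
    refine Restrict.le_iSup_mem (Λ := {L | ∃ z ∈ N, L = conjBy (conjBy P g) z}) ⟨g * x * g⁻¹, hg x hx, rfl⟩ ?_
    rw [conjBy_conjBy, inv_mul_cancel_right, ← conjBy_conjBy]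
    exact conj_mem_conjBy hy
  have hnorm : ∀ g ∈ g0 G, ∀ x ∈ N, g * x * g⁻¹ ∈ N := by
    have h : g0 G ≤ Subgroup.normalizer (N : Set GLM) := by
      refine iSup₂_le fun C hC c hcC => mem_normalizer_iff_conjBy.2 ?_
      by_cases hl : part G A = part G C
      · exact hn c (Restrict.le_iSup_mem (hl.symm ▸ part_self hC) hcC)
      · exact conjBy_of_commute fun x hx =>
          (commute_of_commutator_eq_bot (gPart_commute hk2 hk3 hirr hl) (hN hx)
            (Restrict.le_iSup_mem (part_self hC) hcC)).symm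
    exact fun g hg x hx => (Subgroup.mem_normalizer_iff.1 (h hg) x).1 hx
  set W : Set (Subgroup GLM) := {L | ∃ P ∈ part G A, L = U P ⊓ N} with hW
  have hXn : ∀ L ∈ W, ∀ x ∈ N, conjBy L x = L := by
    rintro L ⟨P, hP, rfl⟩ x hx
    have key : ∀ x ∈ N, ∀ y ∈ U P ⊓ N, x * y * x⁻¹ ∈ U P ⊓ N := by
      intro x hx y hy
      refine ⟨?_, N.mul_mem (N.mul_mem hx hy.2) (N.inv_mem hx)⟩
      have h1 : U P ≤ (U P).comap (MulAut.conj x).toMonoidHom := by
        refine iSup₂_le fun L hL z hz => ?_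
        obtain ⟨w, hw, rfl⟩ := hL
        refine Restrict.le_iSup_mem (Λ := {L | ∃ z ∈ N, L = conjBy P z}) ⟨x * w, mul_mem hx hw, rfl⟩ ?_
        rw [← conjBy_conjBy]
        exact conj_mem_conjBy hz
      exact h1 hy.1
    refine conjBy_of_mem_normalizer (Subgroup.mem_normalizer_iff.2 fun y => ⟨key x hx y, fun hy => ?_⟩)
    simpa [mul_assoc] using key x⁻¹ (inv_mem hx) _ hy
  have hWW : ∀ L ∈ W, ∀ L' ∈ W, IsUnipotentOn (L ⊔ L') := by
    rintro L hL L' ⟨Q, hQ, rfl⟩
    obtain ⟨P, hP, rfl⟩ := hL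
    refine Unipotent.sup_normal (Unipotent.isUnipotentOn_mono (Unipotent.sp_mono inf_le_left) (hUu P hP))
      (Unipotent.isUnipotentOn_mono (Unipotent.sp_mono inf_le_left) (hUu Q hQ)) fun x hx => ?_
    exact mem_normalizer_iff_conjBy.2 (hXn _ ⟨P, hP, rfl⟩ x hx.2)
  have hKu := Unipotent.iSup_unipotent hWW (fun L hL L' hL' b hb => by
    obtain ⟨Q, hQ, rfl⟩ := hL'
    rwa [hXn L hL b hb.2])
  have hK0 : (⨆ L ∈ W, L) ≤ g0 G := iSup₂_le fun L hL => by
    obtain ⟨P, hP, rfl⟩ := hL
    exact inf_le_right.trans hN0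
  have hKn : ∀ g ∈ g0 G, conjBy (⨆ L ∈ W, L) g = ⨆ L ∈ W, L := by
    have key : ∀ g ∈ g0 G, conjBy (⨆ L ∈ W, L) g ≤ ⨆ L ∈ W, L := by
      intro g hg
      have h : (⨆ L ∈ W, L) ≤ (⨆ L ∈ W, L).comap (MulAut.conj g).toMonoidHom := by
        refine iSup₂_le fun L hL y hy => ?_
        obtain ⟨P, hP, rfl⟩ := hL
        exact Restrict.le_iSup_mem (Λ := W) ⟨_, part_conj hk2 hk3 hirr hP hg, rfl⟩
          ⟨hUconj P g (hnorm g hg) hy.1, hnorm g hg y hy.2⟩
      exact Subgroup.map_le_iff_le_comap.2 h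
    intro g hg
    refine le_antisymm (key g hg) ?_
    have h := conjBy_mono (g := g) (key g⁻¹ (inv_mem hg))
    rwa [conjBy_cancel_inv] at h
  have hK := eq_bot_of_unipotent hirr hK0 hKu hKn
  intro P hP p hp x hx
  have hm : x * p * x⁻¹ * p⁻¹ ∈ ⨆ L ∈ W, L := by
    refine Restrict.le_iSup_mem (Λ := W) ⟨P, hP, rfl⟩ ⟨?_, ?_⟩
    · refine (U P).mul_mem ?_ ((U P).inv_mem ?_)
      · exact Restrict.le_iSup_mem (Λ := {L | ∃ z ∈ N, L = conjBy P z}) ⟨x, hx, rfl⟩ (conj_mem_conjBy hp)
      · exact Restrict.le_iSup_mem (Λ := {L | ∃ z ∈ N, L = conjBy P z}) ⟨1, one_mem _, (conjBy_one P).symm⟩ hp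
    · rw [show x * p * x⁻¹ * p⁻¹ = x * (p * x⁻¹ * p⁻¹) by group]
      exact N.mul_mem hx (hnorm p (mem_g0 hP.1 hp) _ (N.inv_mem hx))
  rw [hK, Subgroup.mem_bot] at hm
  exact mul_inv_eq_iff_eq_mul.1 (mul_inv_eq_one.1 hm)

/-- The component groups are quasisimple. -/
theorem gPart_quasisimple (hk2 : ringChar k ≠ 2) (hk3 : Nat.card k ≠ 3) (hirr : NoUni G)
    (hA : A ∈ quadraticRootSubgroups G) : IsQuasisimple ↥(gPart G A) := by
  obtain ⟨hS, hcl⟩ := gPart_isRootSubgroupClass hk2 hk3 hirr hA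
  obtain ⟨H, hH⟩ : ∃ H, H = gPart G A := ⟨_, rfl⟩
  have hle : ∀ {P}, P ∈ part G A → P ≤ gPart G A := fun h => Restrict.le_iSup_mem h
  set S' := (fun B => B.subgroupOf (gPart G A)) '' part G A
  have hmemtop : ∀ N : Subgroup (gPart G A), N.Normal → ∀ L ∈ S', L ≤ N → N = ⊤ := by
    intro N hN L hL hLN
    rw [eq_top_iff, ← hS.generates]
    refine iSup₂_le fun X hX => ?_
    obtain ⟨g, rfl⟩ := hcl.2 L hL X hX
    rintro _ ⟨x, hx, rfl⟩
    exact hN.conj_mem x (hLN hx) g
  have hperf : commutator (gPart G A) = ⊤ := by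
    refine hmemtop _ inferInstance _ ⟨A, part_self hA, rfl⟩ ?_
    obtain ⟨B, hB, hp⟩ := exists_partner_part hk2 hk3 hirr (part_self hA)
    have h1 := le_commutator_pair hk2 hk3 hirr hA hB.1 hp
    rw [← Restrict.map_eq (hle (part_self hA)), ← Restrict.map_eq (hle hB),
      ← Subgroup.map_sup, ← Subgroup.map_commutator,
      Subgroup.map_le_map_iff_of_injective (gPart G A).subtype_injective] at h1
    exact h1.trans (Subgroup.commutator_mono le_top le_top)
  have hdich : ∀ N : Subgroup (gPart G A), N.Normal → N = ⊤ ∨ N ≤ Subgroup.center _ := by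
    intro N hN
    by_cases hc : ∀ P ∈ part G A, ∀ x ∈ N.map (gPart G A).subtype, ⁅P, conjBy P x⁆ = ⊥
    · right
      intro x hx
      have hn : ∀ g ∈ gPart G A, conjBy (N.map (gPart G A).subtype) g = N.map (gPart G A).subtype := by
        intro g hg
        rw [show g = (gPart G A).subtype ⟨g, hg⟩ from rfl, ← conjBy_map]
        congr 1
        exact conjBy_of_mem_normalizer (by rw [Subgroup.normalizer_eq_top]; exact Subgroup.mem_top _)
      have h := central_of_commuting hk2 hk3 hirr (Subgroup.map_subtype_le N) hn hc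
      rw [Subgroup.mem_center_iff]
      have hall : (gPart G A) ≤ Subgroup.centralizer {(x : GLM)} := iSup₂_le fun P hP p hp =>
        Subgroup.mem_centralizer_iff.2 fun v hv => by
          rw [Set.mem_singleton_iff.1 hv]
          exact h P hP p hp x ⟨x, hx, rfl⟩
      exact fun g => Subtype.ext (Subgroup.mem_centralizer_iff.1 (hall g.2) (x : GLM) rfl).symm
    · left
      push Not at hc
      obtain ⟨P, hP, _, ⟨n, hn, rfl⟩, hne⟩ := hc
      have hC : conjBy P (n : GLM) ∈ part G A := part_conj hk2 hk3 hirr hP (gPart_le n.2)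
      set π := QuotientGroup.mk' N
      have hπ : (conjBy (P.subgroupOf (gPart G A)) n).map π = (P.subgroupOf (gPart G A)).map π := by
        rw [conjBy_map, show π n = 1 from (QuotientGroup.eq_one_iff n).2 hn, conjBy_one]
      have hker : ∀ L : Subgroup (gPart G A), L.map π = ⊥ → L ≤ N := fun L hL => by
        rw [Subgroup.map_eq_bot_iff, QuotientGroup.ker_mk'] at hL; exact hL
      have hab : ⁅(P.subgroupOf (gPart G A)).map π, (P.subgroupOf (gPart G A)).map π⁆ = ⊥ := by
        refine commutator_eq_bot_of_commute ?_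
        rintro _ ⟨a, ha, rfl⟩ _ ⟨b, hb, rfl⟩
        rw [← map_mul, ← map_mul, RootSubgroups.comm hS ⟨P, hP, rfl⟩ ha hb]
      rcases trichotomy hk2 hk3 hirr hP.1 hC.1 with h | h | h
      · exact absurd h hne
      · refine hmemtop N hN _ ⟨P, hP, rfl⟩ ?_
        have h1 := le_commutator_pair hk2 hk3 hirr hP.1 hC.1 h
        have hstep : (P.subgroupOf (gPart G A)).map (gPart G A).subtype ≤
            ⁅(P.subgroupOf (gPart G A)).map (gPart G A).subtype ⊔
              (conjBy (P.subgroupOf (gPart G A)) n).map (gPart G A).subtype,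
            (P.subgroupOf (gPart G A)).map (gPart G A).subtype ⊔
              (conjBy (P.subgroupOf (gPart G A)) n).map (gPart G A).subtype⁆ := by
          rw [Restrict.conj_eq (hle hP) n, Restrict.map_eq (hle hC), Restrict.map_eq (hle hP)]
          exact h1
        replace h1 := hstep
        rw [← Subgroup.map_sup, ← Subgroup.map_commutator,
          Subgroup.map_le_map_iff_of_injective (gPart G A).subtype_injective] at h1
        refine h1.trans (hker _ ?_)
        rw [Subgroup.map_commutator, Subgroup.map_sup, hπ, sup_idem, hab]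
      · refine hmemtop N hN _ ⟨_, commutator_mem_part hk2 hk3 hirr hP hC.1 h, rfl⟩ (hker _ ?_)
        change (⁅P, conjBy P ((gPart G A).subtype n)⁆.subgroupOf (gPart G A)).map π = ⊥
        rw [Subgroup.coe_subtype, ← Restrict.commutator_eq (hle hP) (hle hC), Subgroup.map_commutator, ← Restrict.conj_eq (hle hP) n,
          hπ, hab]
  obtain ⟨P', hP', hp₀⟩ := exists_partner_part hk2 hk3 hirr (part_self hA)
  have hne : Subgroup.center (gPart G A) ≠ ⊤ := by
    intro htop
    obtain ⟨a, ha, ha1⟩ := exists_ne_one hp₀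
    refine ha1 (eq_one_of_centralizes hp₀ ha fun b hb => ?_)
    exact congrArg Subtype.val (Subgroup.mem_center_iff.1
      (htop ▸ Subgroup.mem_top (⟨a, hle (part_self hA) ha⟩ : gPart G A) :
        (⟨a, hle (part_self hA) ha⟩ : gPart G A) ∈ Subgroup.center _) ⟨b, hle hP' hb⟩).symm
  refine ⟨Group.isPerfect_def.2 hperf, ?_⟩
  have : Nontrivial (↥(gPart G A) ⧸ Subgroup.center (gPart G A)) := by
    rw [QuotientGroup.nontrivial_iff]; exact hne
  refine ⟨fun L hL => ?_⟩
  rcases hdich (L.comap (QuotientGroup.mk' _)) (hL.comap _) with h | h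
  · right
    rw [eq_top_iff]
    intro q _
    induction q using QuotientGroup.induction_on with
    | H x => exact (h.symm ▸ Subgroup.mem_top x : x ∈ L.comap (QuotientGroup.mk' _))
  · left
    rw [eq_bot_iff]
    intro q hq
    induction q using QuotientGroup.induction_on with
    | H x => exact (QuotientGroup.eq_one_iff x).2 (h hq)

/-- There are only finitely many components. -/
theorem finite_parts (hk2 : ringChar k ≠ 2) (hk3 : Nat.card k ≠ 3) (hirr : NoUni G) :
    Finite ↥((fun A => part G A) '' quadraticRootSubgroups G) := by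
  have h : ∀ c : ↥((fun A => part G A) '' quadraticRootSubgroups G),
      ∃ σ ∈ minimalQuadraticElements G, part G (sameActionSubgroup G σ) = c.1 := by
    rintro ⟨_, A, ⟨σ, hσ, rfl⟩, rfl⟩
    exact ⟨σ, hσ, rfl⟩
  choose σ hσ hpart using h
  have hli : LinearIndependent k fun c => nil (σ c) := by
    rw [linearIndependent_iff']
    intro s w hw i hi
    obtain ⟨ρ, hρ, h1, h2⟩ := exists_partner hk2 hk3 hirr (hσ i)
    obtain ⟨y, hy, -, e1, -⟩ := h1 _ (mem_self (hσ i)) (ne_one_of_quadratic (hσ i).1)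
    have hB : sameActionSubgroup G ρ ∈ part G (sameActionSubgroup G (σ i)) :=
      ⟨⟨ρ, hρ, rfl⟩, Linked.of_adj ⟨_, hσ i, rfl⟩ ⟨ρ, hρ, rfl⟩ (pair (hσ i) h1 h2)⟩
    have hvan : ∀ j ∈ s, j ≠ i → nil (σ j) * nil y - nil y * nil (σ j) = 0 := by
      intro j _ hji
      have hne : part G (sameActionSubgroup G (σ j)) ≠ part G (sameActionSubgroup G (σ i)) := fun e =>
        hji (Subtype.ext (by rw [← hpart j, ← hpart i, e]))
      have hcom := commute_of_commutator_eq_bot (gPart_commute hk2 hk3 hirr hne)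
        (Restrict.le_iSup_mem (part_self ⟨_, hσ j, rfl⟩) (mem_self (hσ j)))
        (Restrict.le_iSup_mem hB hy)
      have h4 : ((σ j * y : GLM) : EndM) = ((y * σ j : GLM) : EndM) := congrArg Units.val hcom
      rw [Units.val_mul, Units.val_mul] at h4
      simp only [nil, sub_mul, mul_sub, one_mul, mul_one, h4]
      abel
    have h3 := congrArg (fun Z => (Z * nil y - nil y * Z) * nil (σ i)) hw
    simp only [zero_mul, mul_zero, sub_zero, Finset.sum_mul, Finset.mul_sum, ← Finset.sum_sub_distrib] at h3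
    rw [Finset.sum_eq_single i] at h3
    · have hS := sameActionSubgroup_annihilate (mem_self (hσ i)) (mem_self (hσ i))
      rw [smul_mul_assoc, mul_smul_comm, ← smul_sub, smul_mul_assoc, sub_mul, e1, mul_assoc (nil y), hS,
        mul_zero, sub_zero] at h3
      exact (smul_eq_zero.1 h3).resolve_right (mem_quadratic.1 (hσ i).1).2.1
    · intro j hj hji
      rw [smul_mul_assoc, mul_smul_comm, ← smul_sub, hvan j hj hji, smul_zero, zero_mul]
    · exact fun hni => absurd hi hni
  exact hli.finite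

end Cfsg.Agent.RootSubgroups.Cls
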