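import Cfsg.Agent.Lib.RootSubgroups.QuadProduct
import Cfsg.Agent.Lib.RootSubgroups.QuadQuasi

/-!
The central product decomposition of a quadratic pair.
-/

set_option autoImplicit false
open Cfsg

namespace Cfsg.Agent.RootSubgroups.Cls

open Quad

variable {k : Type*} [Field k] {M : Type*} [AddCommGroup M] [Module k M] [FiniteDimensional k M]

local notation "GLM" => LinearMap.GeneralLinearGroup k M
local notation "EndM" => Module.End k M

variable {G : Subgroup (LinearMap.GeneralLinearGroup k M)}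

/-- No element of a central factor annihilates an element of the opposite factor. -/
def Sep (G : Subgroup (LinearMap.GeneralLinearGroup k M)) : Prop :=
  ∀ H : Subgroup (LinearMap.GeneralLinearGroup k M), H ≤ G → G ≤ H ⊔ Subgroup.centralizer (H : Set (LinearMap.GeneralLinearGroup k M)) →
    ∀ y ∈ H, ∀ z ∈ G, z ∈ Subgroup.centralizer (H : Set (LinearMap.GeneralLinearGroup k M)) →
      nil y * nil z = 0 → y = 1 ∨ z = 1

theorem sep_of_irreducible (hirr : IsIrreducibleFor G) : Sep G := by
  intro H _ hGH y hy z _ hzC hyz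
  obtain ⟨W, hW⟩ : ∃ W : Submodule k M, W = ⨅ g ∈ H, LinearMap.ker (nil (g * y * g⁻¹)) := ⟨_, rfl⟩
  have hmem : ∀ {m : M}, m ∈ W ↔ ∀ g ∈ H, nil (g * y * g⁻¹) m = 0 := by
    intro m; simp only [hW, Submodule.mem_iInf, LinearMap.mem_ker]
  have hmove : ∀ g h : GLM, ∀ m : M, nil (g * h * g⁻¹) ((g : EndM) m) = (g : EndM) (nil h m) := by
    intro g h m
    rw [nil_conj, Module.End.mul_apply, Module.End.mul_apply, ← Module.End.mul_apply ((g⁻¹ : GLM) : EndM),
      g.inv_mul]
    rfl
  have hinv : ∀ a ∈ (H : Set GLM) ∪ Subgroup.centralizer (H : Set GLM), ∀ m ∈ W, (a : EndM) m ∈ W := by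
    rintro a (ha | ha) m hm <;> refine hmem.2 fun g hg => ?_
    · have h := hmem.1 hm (a⁻¹ * g) (mul_mem (inv_mem ha) hg)
      rw [show g * y * g⁻¹ = a * (a⁻¹ * g * y * (a⁻¹ * g)⁻¹) * a⁻¹ by group, hmove, h, map_zero]
    · have hc : a * (g * y * g⁻¹) * a⁻¹ = g * y * g⁻¹ := by
        rw [← Subgroup.mem_centralizer_iff.1 ha _ (mul_mem (mul_mem hg hy) (inv_mem hg)), mul_inv_cancel_right]
      rw [← hc, hmove, hmem.1 hm g hg, map_zero]
  have hall : ∀ a ∈ G, ∀ m ∈ W, (a : EndM) m ∈ W := by
    intro a ha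
    have h := hGH ha
    rw [sup_eq_closure] at h
    clear ha
    induction h using Subgroup.closure_induction'' with
    | mem b hb => exact hinv b hb
    | inv_mem b hb => exact hinv _ (hb.imp (fun h => inv_mem h) (fun h => inv_mem h))
    | one => intro m hm; simpa using hm
    | mul b c _ _ hb hc => intro m hm; exact hb _ (hc m hm)
  rcases hirr.2 W hall with hb | ht
  · right
    refine nil_eq_zero.1 (LinearMap.ext fun m => ?_)
    have h : nil z m ∈ W := hmem.2 fun g hg => by
      have hgz : z = g * z * g⁻¹ := by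
        rw [Subgroup.mem_centralizer_iff.1 hzC g hg, mul_inv_cancel_right]
      rw [hgz, nil_conj g z, Module.End.mul_apply, Module.End.mul_apply, hmove,
        ← Module.End.mul_apply (nil y), hyz, LinearMap.zero_apply, map_zero]
    rw [hb, Submodule.mem_bot] at h
    rw [h]; rfl
  · left
    refine nil_eq_zero.1 (LinearMap.ext fun m => ?_)
    have h := hmem.1 (ht ▸ Submodule.mem_top : m ∈ W) 1 (one_mem _)
    simpa using h

/-- The group of the reduced quadratic elements. -/
def redGroup (G : Subgroup (LinearMap.GeneralLinearGroup k M)) : Subgroup (LinearMap.GeneralLinearGroup k M) :=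
  Subgroup.closure {x | x ∈ quadraticElements G ∧ Red G (nil x)}

theorem redGroup_le : redGroup G ≤ G := (Subgroup.closure_le _).2 fun _ hx => hx.1.1

theorem redGroup_centralizes (hk2 : ringChar k ≠ 2) (hk3 : Nat.card k ≠ 3) (hno : NoUni G) :
    redGroup G ≤ Subgroup.centralizer ((g0 G : Subgroup GLM) : Set GLM) :=
  (Subgroup.closure_le _).2 fun _ hx => red_mem_centralizer hk2 hk3 hno hx.1 hx.2

theorem mem_redGroup_quadratic {x : GLM} (hx : x ∈ quadraticElements G) (hX : Red G (nil x)) :
    x ∈ quadraticElements (redGroup G) := by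
  obtain ⟨h1, h2, h3⟩ := mem_quadratic.1 hx
  refine mem_quadratic.2 ⟨h1, h2, fun c => ?_⟩
  by_cases hc : c = 0
  · rw [show unit (c • nil x) (smul_sq h1 c) = 1 from
      nil_inj (by rw [nil_unit, hc, zero_smul, nil_eq_zero.2 rfl])]
    exact one_mem _
  refine Subgroup.subset_closure ⟨mem_quadratic.2 ⟨by rw [nil_unit]; exact smul_sq h1 c,
    by rw [nil_unit]; exact smul_ne_zero hc h2, fun d => ?_⟩, by rw [nil_unit]; exact red_smul hX c⟩
  rw [show unit (d • nil (unit (c • nil x) (smul_sq h1 c))) _ = unit ((d * c) • nil x) (smul_sq h1 _) from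
    nil_inj (by rw [nil_unit, nil_unit, nil_unit, smul_smul])]
  exact h3 _

theorem redGroup_generated : Subgroup.closure (quadraticElements (redGroup G)) = redGroup G :=
  le_antisymm ((Subgroup.closure_le _).2 fun _ hx => hx.1)
    ((Subgroup.closure_le _).2 fun _ hx => Subgroup.subset_closure (mem_redGroup_quadratic hx.1 hx.2))

theorem quadratic_of_redGroup {x : GLM} (hx : x ∈ quadraticElements (redGroup G)) : x ∈ quadraticElements G :=
  ⟨redGroup_le hx.1, hx.2.1, fun _ hy => redGroup_le (hx.2.2 hy)⟩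

theorem quadratic_mem_red (hk2 : ringChar k ≠ 2) (hk3 : Nat.card k ≠ 3) {x : GLM}
    (hx : x ∈ quadraticElements G) : x ∈ g0 G ⊔ redGroup G := by
  induction hn : commutatorRank x using Nat.strong_induction_on generalizing x with
  | _ n ih =>
    by_cases hX : Red G (nil x)
    · exact Subgroup.mem_sup_right (Subgroup.subset_closure ⟨hx, hX⟩)
    obtain ⟨y, hy, -, -, h⟩ := exists_split hk2 hk3 hx hX
    have hy' := Subgroup.mem_sup_left (T := redGroup G) (mem_g0_of_minimal hy)
    rcases h with h | ⟨hq, hlt, -⟩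
    · rwa [mul_inv_eq_one.1 h]
    · have := mul_mem (ih _ (hn ▸ hlt) hq rfl) hy'
      rwa [inv_mul_cancel_right] at this

/-- The span of the nilpotent parts of the quadratic elements. -/
def qSpan (G : Subgroup (LinearMap.GeneralLinearGroup k M)) : Submodule k (Module.End k M) :=
  Submodule.span k (nil '' quadraticElements G)

theorem qSpan_lt (hk2 : ringChar k ≠ 2) (hk3 : Nat.card k ≠ 3) (hno : NoUni G) {σ : GLM}
    (hσ : σ ∈ minimalQuadraticElements G) :
    Module.finrank k (qSpan (redGroup G)) < Module.finrank k (qSpan G) := by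
  refine Submodule.finrank_lt_finrank_of_lt (lt_of_le_of_ne
    (Submodule.span_mono (Set.image_mono fun x hx => quadratic_of_redGroup hx)) fun e => ?_)
  obtain ⟨ρ, hρ, h1, -⟩ := exists_partner hk2 hk3 hno hσ
  obtain ⟨y, hy, hy1, he, -⟩ := h1 σ (mem_self hσ) (ne_one_of_quadratic hσ.1)
  have hyg : y ∈ g0 G := mem_g0 ⟨ρ, hρ, rfl⟩ hy
  have hcomm : ∀ Z ∈ qSpan (redGroup G), Z * nil y = nil y * Z := by
    intro Z hZ
    induction hZ using Submodule.span_induction with
    | mem Z hZ =>
      obtain ⟨x, hx, rfl⟩ := hZ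
      have h := Subgroup.mem_centralizer_iff.1 (redGroup_centralizes hk2 hk3 hno hx.1) y hyg
      have h' : ((y * x : GLM) : EndM) = ((x * y : GLM) : EndM) := congrArg Units.val h
      rw [Units.val_mul, Units.val_mul] at h'
      simp only [nil, sub_mul, mul_sub, one_mul, mul_one, h']
      abel
    | zero => rw [zero_mul, mul_zero]
    | add a b _ _ ha hb => rw [add_mul, mul_add, ha, hb]
    | smul c a _ ha => rw [smul_mul_assoc, mul_smul_comm, ha]
  have hS : nil σ * nil y = nil y * nil σ :=
    hcomm _ (e.symm ▸ Submodule.subset_span ⟨σ, hσ.1, rfl⟩)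
  refine (mem_quadratic.1 hσ.1).2.1 ?_
  rw [← he, hS, mul_assoc, (mem_quadratic.1 hσ.1).1, mul_zero]

/-- The central product decomposition. -/
theorem decomposition (hk2 : ringChar k ≠ 2) (hk3 : Nat.card k ≠ 3) (hno : NoUni G)
    (hgen : Subgroup.closure (quadraticElements G) = G) (hsep : Sep G) :
    ∃ K : Set (Subgroup GLM), K.Finite ∧ (∀ H ∈ K, H ≤ G ∧ ∀ g ∈ G, conjBy H g = H) ∧
      (∀ H ∈ K, ∀ H' ∈ K, H ≠ H' → ⁅H, H'⁆ = ⊥) ∧ (⨆ H ∈ K, H) = G ∧
      (∀ H ∈ K, IsQuasisimple ↥H ∧ Subgroup.closure (quadraticElements G ∩ (H : Set GLM)) = H) ∧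
      ∀ x ∈ quadraticElements G, ∃ H ∈ K, x ∈ H := by
  induction hn : Module.finrank k (qSpan G) using Nat.strong_induction_on generalizing G with
  | _ n ih =>
    by_cases hne : quadraticElements G = ∅
    · refine ⟨∅, Set.finite_empty, by simp, by simp, ?_, by simp, by simp [hne]⟩
      rw [← hgen, hne, Subgroup.closure_empty]; simp
    obtain ⟨σ, hσ⟩ : ∃ σ, σ ∈ minimalQuadraticElements G := by
      classical
      have hex : ∃ d, ∃ x ∈ quadraticElements G, commutatorRank x = d := by
        obtain ⟨x, hx⟩ := Set.nonempty_iff_ne_empty.2 hne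
        exact ⟨_, x, hx, rfl⟩
      obtain ⟨x, hx, hxd⟩ := Nat.find_spec hex
      exact ⟨x, hx, fun t ht => hxd ▸ Nat.find_min' hex ⟨t, ht, rfl⟩⟩
    set R := redGroup G
    have hRC := redGroup_centralizes hk2 hk3 hno
    have hG : G ≤ g0 G ⊔ R := by
      conv_lhs => rw [← hgen]
      exact (Subgroup.closure_le _).2 fun x hx => quadratic_mem_red hk2 hk3 hx
    have hg0R : ∀ a ∈ g0 G, ∀ b ∈ R, a * b = b * a := fun a ha b hb =>
      Subgroup.mem_centralizer_iff.1 (hRC hb) a ha
    have hnoR : NoUni R := fun U hU hu hn' => hno U (hU.trans redGroup_le) hu (by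
      have h : G ≤ Subgroup.normalizer (U : Set GLM) := hG.trans (sup_le
        (fun a ha => mem_normalizer_iff_conjBy.2 (conjBy_of_commute fun u hu' => hg0R a ha u (hU hu')))
        (fun a ha => Subgroup.mem_normalizer_iff.2 fun u => ⟨hn' a ha u, fun hu' => by
          simpa [mul_assoc] using hn' a⁻¹ (inv_mem ha) _ hu'⟩))
      exact fun g hg u hu' => (Subgroup.mem_normalizer_iff.1 (h hg) u).1 hu')
    have hsepR : Sep R := fun H hH hRH y hy z hz hzC e => by
      refine hsep H (hH.trans redGroup_le) ?_ y hy z (redGroup_le hz) hzC e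
      refine hG.trans (sup_le (fun a ha => Subgroup.mem_sup_right ?_) hRH)
      exact Subgroup.mem_centralizer_iff.2 fun h hh => (hg0R a ha h (hH hh)).symm
    obtain ⟨K', hK'f, hK'n, hK'c, hK's, hK'q, hK'm⟩ :=
      ih _ (hn ▸ qSpan_lt hk2 hk3 hno hσ) hnoR redGroup_generated hsepR rfl
    set P : Set (Subgroup GLM) := (fun p => ⨆ B ∈ p, B) '' ((fun A => part G A) '' quadraticRootSubgroups G)
    have hPe : ∀ {A}, A ∈ quadraticRootSubgroups G → gPart G A ∈ P := fun {A} hA => ⟨_, ⟨A, hA, rfl⟩, rfl⟩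
    have hPg : ∀ H ∈ P, ∃ A ∈ quadraticRootSubgroups G, H = gPart G A := by
      rintro _ ⟨_, ⟨A, hA, rfl⟩, rfl⟩; exact ⟨A, hA, rfl⟩
    have hK'R : ∀ H ∈ K', H ≤ R := fun H hH => (hK'n H hH).1
    have hcomm : ∀ H ∈ P ∪ K', ∀ H' ∈ P ∪ K', H ≠ H' → ⁅H, H'⁆ = ⊥ := by
      rintro H (hH | hH) H' (hH' | hH') hne'
      · obtain ⟨A, hA, rfl⟩ := hPg H hH
        obtain ⟨B, hB, rfl⟩ := hPg H' hH'
        exact gPart_commute hk2 hk3 hno fun e => hne' (by simp only [gPart, e])
      · obtain ⟨A, hA, rfl⟩ := hPg H hH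
        exact commutator_eq_bot_of_commute fun a ha b hb => hg0R a (gPart_le ha) b (hK'R H' hH' hb)
      · obtain ⟨B, hB, rfl⟩ := hPg H' hH'
        exact commutator_eq_bot_of_commute fun a ha b hb => (hg0R b (gPart_le hb) a (hK'R H hH ha)).symm
      · exact hK'c H hH H' hH' hne'
    have hsup : (⨆ H ∈ P ∪ K', H) = G := by
      refine le_antisymm (iSup₂_le ?_) (hG.trans (sup_le ?_ ?_))
      · rintro H (hH | hH)
        · obtain ⟨A, hA, rfl⟩ := hPg H hH
          exact gPart_le.trans g0_le
        · exact (hK'R H hH).trans redGroup_le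
      · exact iSup₂_le fun A hA => (Restrict.le_iSup_mem (part_self hA)).trans
          (Restrict.le_iSup_mem (Λ := P ∪ K') (Or.inl (hPe hA)))
      · rw [← hK's]
        exact iSup₂_le fun H hH => Restrict.le_iSup_mem (Λ := P ∪ K') (Or.inr hH)
    refine ⟨P ∪ K', ?_, ?_, hcomm, hsup, ?_, ?_⟩
    · haveI := finite_parts hk2 hk3 hno
      exact ((Set.toFinite _).image _).union hK'f
    · rintro H (hH | hH)
      · obtain ⟨A, hA, rfl⟩ := hPg H hH
        refine ⟨gPart_le.trans g0_le, fun g hg => conjBy_of_mem_normalizer ((hG.trans (sup_le ?_ ?_)) hg)⟩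
        · intro a ha
          refine Subgroup.mem_normalizer_iff.2 fun u => ⟨gPart_normal hk2 hk3 hno ha, fun hu => ?_⟩
          simpa [mul_assoc] using gPart_normal hk2 hk3 hno (inv_mem ha) hu
        · exact fun a ha => mem_normalizer_iff_conjBy.2
            (conjBy_of_commute fun u hu => (hg0R u (gPart_le hu) a ha).symm)
      · obtain ⟨h1, h2⟩ := hK'n H hH
        refine ⟨h1.trans redGroup_le, fun g hg => conjBy_of_mem_normalizer ((hG.trans (sup_le ?_ ?_)) hg)⟩
        · exact fun a ha => mem_normalizer_iff_conjBy.2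
            (conjBy_of_commute fun u hu => hg0R a ha u (h1 hu))
        · exact fun a ha => mem_normalizer_iff_conjBy.2 (h2 a ha)
    · rintro H (hH | hH)
      · obtain ⟨A, hA, rfl⟩ := hPg H hH
        refine ⟨gPart_quasisimple hk2 hk3 hno hA, le_antisymm
          ((Subgroup.closure_le _).2 Set.inter_subset_right) (iSup₂_le fun B hB => ?_)⟩
        obtain ⟨τ, hτ, rfl⟩ := hB.1
        exact Subgroup.closure_mono fun x hx =>
          ⟨hx.1.1, (Restrict.le_iSup_mem hB : sameActionSubgroup G τ ≤ _) (Subgroup.subset_closure hx)⟩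
      · obtain ⟨h1, h2⟩ := hK'q H hH
        refine ⟨h1, le_antisymm ((Subgroup.closure_le _).2 Set.inter_subset_right) ?_⟩
        conv_lhs => rw [← h2]
        exact Subgroup.closure_mono fun x hx => ⟨quadratic_of_redGroup hx.1, hx.2⟩
    · intro x hx
      induction hm : commutatorRank x using Nat.strong_induction_on generalizing x with
      | _ m ihm =>
        by_cases hX : Red G (nil x)
        · obtain ⟨H, hH, h⟩ := hK'm x (mem_redGroup_quadratic hx hX)
          exact ⟨H, Or.inr hH, h⟩
        obtain ⟨y, hy, hyX, -, h⟩ := exists_split hk2 hk3 hx hX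
        have hE : sameActionSubgroup G y ∈ quadraticRootSubgroups G := ⟨y, hy, rfl⟩
        have hyH : y ∈ gPart G (sameActionSubgroup G y) := Restrict.le_iSup_mem (part_self hE) (mem_self hy)
        refine ⟨_, Or.inl (hPe hE), ?_⟩
        rcases h with h | ⟨hq, hlt, he⟩
        · rwa [mul_inv_eq_one.1 h]
        obtain ⟨H, hH, hz⟩ := ihm _ (hm ▸ hlt) _ hq rfl
        by_cases e : H = gPart G (sameActionSubgroup G y)
        · have := mul_mem (e ▸ hz) hyH
          rwa [inv_mul_cancel_right] at this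
        exfalso
        have hc : ∀ H' ∈ P ∪ K', H' ≠ gPart G (sameActionSubgroup G y) →
            H' ≤ Subgroup.centralizer ((gPart G (sameActionSubgroup G y) : Subgroup GLM) : Set GLM) :=
          fun H' hH' hne' => Subgroup.commutator_eq_bot_iff_le_centralizer.1
            (hcomm H' hH' _ (Or.inl (hPe hE)) hne')
        have hcov : G ≤ gPart G (sameActionSubgroup G y) ⊔
            Subgroup.centralizer ((gPart G (sameActionSubgroup G y) : Subgroup GLM) : Set GLM) := by
          conv_lhs => rw [← hsup]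
          refine iSup₂_le fun H' hH' => ?_
          by_cases e' : H' = gPart G (sameActionSubgroup G y)
          · exact e' ▸ le_sup_left
          · exact (hc H' hH' e').trans le_sup_right
        rcases hsep _ (gPart_le.trans g0_le) hcov y hyH _ hq.1 (hc H hH e hz)
          (by rw [he, mul_sub, hyX, (mem_quadratic.1 hy.1).1, sub_zero]) with h' | h'
        · exact ne_one_of_quadratic hy.1 h'
        · exact ne_one_of_quadratic hq h'

end Cfsg.Agent.RootSubgroups.Cls
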