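import Mathlib
import Cfsg.Agent.Lib.RootSubgroups.QuadBij

/-!
Commutators of two classes acting unipotently.
-/

set_option autoImplicit false
open Cfsg

namespace Cfsg.Agent.RootSubgroups.Cls

open Quad

variable {k : Type*} [Field k] {M : Type*} [AddCommGroup M] [Module k M] [FiniteDimensional k M]

local notation "GLM" => LinearMap.GeneralLinearGroup k M
local notation "EndM" => Module.End k M

variable {G : Subgroup (LinearMap.GeneralLinearGroup k M)} {σ τ : LinearMap.GeneralLinearGroup k M}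

/-- The bracket of the nilpotent parts. -/
abbrev brk (x y : LinearMap.GeneralLinearGroup k M) : Module.End k M := nil x * nil y - nil y * nil x

theorem Uni.symm (hu : Uni G σ τ) : Uni G τ σ := fun x hx y hy => (hu y hy x hx).symm

omit [FiniteDimensional k M] in
theorem brk_swap (x y : GLM) : brk y x = -brk x y := (neg_sub _ _).symm

theorem uni_mul (hu : Uni G σ τ) {x x' y : GLM} (hx : x ∈ sameActionSubgroup G σ)
    (hx' : x' ∈ sameActionSubgroup G σ) (hy : y ∈ sameActionSubgroup G τ) :
    nil x * nil y * nil x' = 0 := by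
  rcases mem_iff.1 hx with h | rfl
  · rcases mem_iff.1 hx' with h' | rfl
    · exact mid_zero h h' (hu x' hx' y hy).1
    · rw [nil_eq_zero.2 rfl, mul_zero]
  · rw [nil_eq_zero.2 rfl, zero_mul, zero_mul]

/-- The commutator of two elements of classes acting unipotently. -/
theorem nil_commutator (hu : Uni G σ τ) {x y : GLM} (hx : x ∈ sameActionSubgroup G σ)
    (hy : y ∈ sameActionSubgroup G τ) :
    nil (x * y * x⁻¹ * y⁻¹) = brk x y ∧ brk x y * brk x y = 0 := by
  have hS := sameActionSubgroup_annihilate hx hx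
  have hT := sameActionSubgroup_annihilate hy hy
  obtain ⟨h1, h2⟩ := hu x hx y hy
  have z1 : ∀ z : EndM, nil x * (nil x * z) = 0 := fun z => by rw [← mul_assoc, hS, zero_mul]
  have z2 : ∀ z : EndM, nil y * (nil y * z) = 0 := fun z => by rw [← mul_assoc, hT, zero_mul]
  have z3 : nil x * (nil y * nil x) = 0 := by rw [← mul_assoc, h1]
  have z4 : nil y * (nil x * nil y) = 0 := by rw [← mul_assoc, h2]
  have z5 : ∀ z : EndM, nil x * (nil y * (nil x * z)) = 0 := fun z => by
    rw [← mul_assoc, ← mul_assoc, h1, zero_mul]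
  have z6 : ∀ z : EndM, nil y * (nil x * (nil y * z)) = 0 := fun z => by
    rw [← mul_assoc, ← mul_assoc, h2, zero_mul]
  constructor
  · rw [nil_mul, nil_mul, nil_mul, nil_inv hS, nil_inv hT, brk]
    generalize nil x = S at *
    generalize nil y = T at *
    simp only [add_mul, mul_add, mul_neg, neg_mul, neg_neg, mul_assoc, hS, hT, z1, z2, z3, z4, z5,
      z6, neg_zero, add_zero, zero_add, mul_zero]
    abel
  · rw [brk]
    generalize nil x = S at *
    generalize nil y = T at *
    simp only [sub_mul, mul_sub, mul_assoc, z1, z2, z3, z4, z5, z6, mul_zero, sub_zero]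

theorem commute_iff (hu : Uni G σ τ) {x y : GLM} (hx : x ∈ sameActionSubgroup G σ)
    (hy : y ∈ sameActionSubgroup G τ) : x * y = y * x ↔ brk x y = 0 := by
  rw [← (nil_commutator hu hx hy).1, nil_eq_zero, mul_inv_eq_one, mul_inv_eq_iff_eq_mul]

theorem brk_smul {x y x' : GLM} {c : k} (hc : nil x' = c • nil x) : brk x' y = c • brk x y := by
  rw [brk, brk, hc, smul_mul_assoc, mul_smul_comm, smul_sub]

/-- A non-zero bracket gives a quadratic element. -/
theorem bracket_quadratic (hu : Uni G σ τ) {x y : GLM} (hx : x ∈ sameActionSubgroup G σ)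
    (hy : y ∈ sameActionSubgroup G τ) (h : brk x y ≠ 0) :
    x * y * x⁻¹ * y⁻¹ ∈ quadraticElements G := by
  obtain ⟨e, e2⟩ := nil_commutator hu hx hy
  refine mem_quadratic.2 ⟨by rw [e]; exact e2, by rw [e]; exact h, fun c => ?_⟩
  obtain ⟨x', hx', hx'c⟩ := exists_smul hx c
  rw [show unit (c • nil (x * y * x⁻¹ * y⁻¹)) _ = x' * y * x'⁻¹ * y⁻¹ from
    nil_inj (by rw [nil_unit, (nil_commutator hu hx' hy).1, brk_smul hx'c, e])]
  exact mul_mem (mul_mem (mul_mem (le_group hx') (le_group hy)) (inv_mem (le_group hx'))) (inv_mem (le_group hy))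

theorem range_mul_le (A B : EndM) : LinearMap.range (A * B) ≤ LinearMap.range A :=
  LinearMap.range_comp_le_range _ _

theorem le_finrank (hu : Uni G σ τ) (hσ : σ ∈ minimalQuadraticElements G) {x y : GLM}
    (hx : x ∈ sameActionSubgroup G σ) (hy : y ∈ sameActionSubgroup G τ) (h : brk x y ≠ 0) :
    commutatorRank σ ≤ Module.finrank k (LinearMap.range (brk x y)) := by
  have h1 := hσ.2 _ (bracket_quadratic hu hx hy h)
  have e : commutatorRank (x * y * x⁻¹ * y⁻¹) = Module.finrank k (LinearMap.range (brk x y)) :=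
    congrArg (fun Z : EndM => Module.finrank k (LinearMap.range Z)) (nil_commutator hu hx hy).1
  rwa [e] at h1

/-- If one pair commutes then every element of the first class commutes with that partner. -/
theorem brk_zero_left (hu : Uni G σ τ) (hσ : σ ∈ minimalQuadraticElements G) {x x' y : GLM}
    (hx : x ∈ sameActionClass G σ) (hx' : x' ∈ sameActionClass G σ) (hy : y ∈ sameActionClass G τ)
    (h : brk x y = 0) : brk x' y = 0 := by
  have hxm : x ∈ sameActionSubgroup G σ := Subgroup.subset_closure hx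
  have hx'm : x' ∈ sameActionSubgroup G σ := Subgroup.subset_closure hx'
  have hym : y ∈ sameActionSubgroup G τ := Subgroup.subset_closure hy
  rw [brk, sub_eq_zero] at h
  by_contra hne
  have hrank := le_finrank hu hσ hx'm hym hne
  obtain ⟨W, hW⟩ : ∃ W, W = LinearMap.range (nil σ) ⊓ LinearMap.ker (nil τ) := ⟨_, rfl⟩
  have hA : LinearMap.range (nil x' * nil y) ≤ W := by
    rw [hW]
    refine le_inf ((range_mul_le _ _).trans hx'.2.2.le) ?_
    rintro _ ⟨m, rfl⟩
    rw [← hy.2.1, LinearMap.mem_ker]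
    exact LinearMap.congr_fun (by rw [← mul_assoc]; exact (hu x' hx'm y hym).2 :
      nil y * (nil x' * nil y) = 0) m
  have hB : LinearMap.range (nil y * nil x') ≤ W := by
    have e : LinearMap.range (nil y * nil x') = LinearMap.range (nil y * nil x) := by
      rw [Module.End.mul_eq_comp, Module.End.mul_eq_comp, LinearMap.range_comp, LinearMap.range_comp]
      congr 1
      exact hx'.2.2.trans hx.2.2.symm
    rw [e, ← h, hW]
    refine le_inf ((range_mul_le _ _).trans hx.2.2.le) ?_
    rintro _ ⟨m, rfl⟩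
    rw [← hy.2.1, LinearMap.mem_ker]
    exact LinearMap.congr_fun (by rw [← mul_assoc]; exact (hu x hxm y hym).2 :
      nil y * (nil x * nil y) = 0) m
  have hle : LinearMap.range (brk x' y) ≤ W := by
    rintro _ ⟨m, rfl⟩
    rw [LinearMap.sub_apply]
    exact sub_mem (hA (LinearMap.mem_range_self _ m)) (hB (LinearMap.mem_range_self _ m))
  have hWle : Module.finrank k (LinearMap.range (nil σ)) ≤ Module.finrank k W :=
    le_trans hrank (Submodule.finrank_mono hle)
  have hWeq : W = LinearMap.range (nil σ) :=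
    Submodule.eq_of_le_of_finrank_le (hW ▸ inf_le_left) hWle
  have hTS : ∀ z ∈ sameActionClass G σ, nil y * nil z = 0 := by
    intro z hz
    refine LinearMap.ext fun m => ?_
    have hm : nil z m ∈ W := hWeq ▸ (hz.2.2 ▸ LinearMap.mem_range_self _ m)
    rw [hW] at hm
    have hm2 : nil z m ∈ LinearMap.ker (nil y) := by rw [hy.2.1]; exact hm.2
    exact LinearMap.mem_ker.1 hm2
  have hST : nil x' * nil y = 0 := by
    refine LinearMap.ext fun m => ?_
    have hm : nil y m ∈ LinearMap.ker (nil x) := by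
      rw [LinearMap.mem_ker, ← Module.End.mul_apply, h, hTS x hx]; rfl
    rw [hx.2.1, ← hx'.2.1] at hm
    exact hm
  exact hne (by rw [brk, hST, hTS x' hx', sub_zero])

/-- If one pair of non-identity elements commutes, the classes commute. -/
theorem commute_of_one (hu : Uni G σ τ) (hσ : σ ∈ minimalQuadraticElements G)
    (hτ : τ ∈ minimalQuadraticElements G) {x y : GLM} (hx : x ∈ sameActionSubgroup G σ) (hx1 : x ≠ 1)
    (hy : y ∈ sameActionSubgroup G τ) (hy1 : y ≠ 1) (h : brk x y = 0) :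
    ⁅sameActionSubgroup G σ, sameActionSubgroup G τ⁆ = ⊥ := by
  refine commutator_eq_bot_of_commute fun a ha b hb => ?_
  rcases mem_iff.1 ha with hac | rfl
  swap
  · rw [one_mul, mul_one]
  rcases mem_iff.1 hb with hbc | rfl
  swap
  · rw [one_mul, mul_one]
  have h1 := brk_zero_left hu hσ (mem_class hx hx1) hac (mem_class hy hy1) h
  have h2 := brk_zero_left hu.symm hτ (mem_class hy hy1) hbc hac (by rw [brk_swap, h1, neg_zero])
  exact (commute_iff hu ha hb).2 (by rw [brk_swap, h2, neg_zero])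

theorem brk_ne (hu : Uni G σ τ) (hσ : σ ∈ minimalQuadraticElements G)
    (hτ : τ ∈ minimalQuadraticElements G)
    (h : ⁅sameActionSubgroup G σ, sameActionSubgroup G τ⁆ ≠ ⊥) {x y : GLM}
    (hx : x ∈ sameActionSubgroup G σ) (hx1 : x ≠ 1) (hy : y ∈ sameActionSubgroup G τ) (hy1 : y ≠ 1) :
    brk x y ≠ 0 := fun e => h (commute_of_one hu hσ hτ hx hx1 hy hy1 e)

/-- An element normalising the partner class commutes with it. -/
theorem brk_zero_of_normalizer (hu : Uni G σ τ) {x y : GLM} (hx : x ∈ sameActionSubgroup G σ)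
    (hy : y ∈ sameActionSubgroup G τ)
    (hn : x ∈ Subgroup.normalizer (sameActionSubgroup G τ : Set GLM)) : brk x y = 0 := by
  obtain ⟨hN, -⟩ := nil_commutator hu hx hy
  by_contra hne
  have hm : x * y * x⁻¹ * y⁻¹ ∈ sameActionSubgroup G τ :=
    mul_mem ((Subgroup.mem_normalizer_iff.1 hn y).1 hy) (inv_mem hy)
  have hc := mem_class hm (fun e => hne (by rw [← hN, e]; exact nil_eq_zero.2 rfl))
  have hy1 : y ≠ 1 := fun e => hne (by subst e; simp [brk, nil_eq_zero.2 rfl])
  have hy' := mem_class hy hy1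
  obtain ⟨h1, -⟩ := hu x hx y hy
  have hS := sameActionSubgroup_annihilate hx hx
  have hSN : nil x * brk x y = 0 := by rw [brk, mul_sub, ← mul_assoc, ← mul_assoc, hS, h1, zero_mul, sub_zero]
  have hST : nil x * nil y = 0 := by
    refine LinearMap.ext fun m => ?_
    obtain ⟨w, hw⟩ : nil y m ∈ LinearMap.range (nil (x * y * x⁻¹ * y⁻¹)) := by
      rw [hc.2.2, ← hy'.2.2]; exact LinearMap.mem_range_self _ m
    rw [Module.End.mul_apply, ← hw, ← Module.End.mul_apply, hN, hSN]; rfl
  have hNS : brk x y * nil x = 0 := by rw [brk, sub_mul, h1, mul_assoc, hS, mul_zero, sub_zero]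
  refine hne ?_
  have hTS : nil y * nil x = 0 := by
    refine LinearMap.ext fun m => ?_
    have hm' : nil x m ∈ LinearMap.ker (nil (x * y * x⁻¹ * y⁻¹)) := by
      rw [LinearMap.mem_ker, hN, ← Module.End.mul_apply, hNS]; rfl
    rw [hc.2.1, ← hy'.2.1] at hm'
    exact hm'
  rw [brk, hST, hTS, sub_zero]

/-- The dimension count: the two parts of the bracket fill the rank. -/
theorem dims (hu : Uni G σ τ) {x y : GLM} (hx : x ∈ sameActionClass G σ) (hy : y ∈ sameActionClass G τ) :
    Module.finrank k (LinearMap.range (nil x * nil y)) +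
        Module.finrank k (LinearMap.range (nil y * nil x)) ≤ commutatorRank τ ∧
      Module.finrank k (LinearMap.range (nil x * nil y)) +
        Module.finrank k ↥(LinearMap.range (nil τ) ⊓ LinearMap.ker (nil σ)) = commutatorRank τ ∧
      LinearMap.range (nil y * nil x) ≤ LinearMap.range (nil τ) ⊓ LinearMap.ker (nil σ) := by
  have hle : LinearMap.range (nil y * nil x) ≤ LinearMap.range (nil τ) ⊓ LinearMap.ker (nil σ) := by
    refine le_inf ((range_mul_le _ _).trans hy.2.2.le) ?_
    rintro _ ⟨m, rfl⟩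
    rw [← hx.2.1, LinearMap.mem_ker]
    exact LinearMap.congr_fun (by
      rw [← mul_assoc]; exact (hu x (Subgroup.subset_closure hx) y (Subgroup.subset_closure hy)).1 :
        nil x * (nil y * nil x) = 0) m
  have e1 : LinearMap.range (nil x * nil y) =
      LinearMap.range ((nil x).comp (LinearMap.range (nil τ)).subtype) := by
    rw [Module.End.mul_eq_comp, LinearMap.range_comp, LinearMap.range_comp, Submodule.range_subtype]
    exact congrArg _ hy.2.2
  have e2 : LinearMap.ker ((nil x).comp (LinearMap.range (nil τ)).subtype) =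
      (LinearMap.ker (nil σ)).comap (LinearMap.range (nil τ)).subtype := by
    rw [LinearMap.ker_comp]; exact congrArg _ hx.2.1
  have h := LinearMap.finrank_range_add_finrank_ker ((nil x).comp (LinearMap.range (nil τ)).subtype)
  rw [← e1, e2] at h
  have e3 : Module.finrank k ((LinearMap.ker (nil σ)).comap (LinearMap.range (nil τ)).subtype) =
      Module.finrank k ↥(LinearMap.range (nil τ) ⊓ LinearMap.ker (nil σ)) := by
    rw [← Submodule.map_comap_subtype]
    exact (Submodule.equivMapOfInjective _ (Submodule.injective_subtype _) _).finrank_eq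
  rw [e3] at h
  exact ⟨le_trans (Nat.add_le_add_left (Submodule.finrank_mono hle) _) h.le, h, hle⟩

theorem range_parts (hu : Uni G σ τ) (hσ : σ ∈ minimalQuadraticElements G)
    (hτ : τ ∈ minimalQuadraticElements G) {x y : GLM} (hx : x ∈ sameActionClass G σ)
    (hy : y ∈ sameActionClass G τ) (h : brk x y ≠ 0) :
    LinearMap.range (nil x * nil y) = LinearMap.range (nil σ) ⊓ LinearMap.ker (nil τ) ∧
    LinearMap.range (nil y * nil x) = LinearMap.range (nil τ) ⊓ LinearMap.ker (nil σ) ∧
    LinearMap.range (brk x y) = LinearMap.range (nil x * nil y) ⊔ LinearMap.range (nil y * nil x) ∧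
    Disjoint (LinearMap.range (nil x * nil y)) (LinearMap.range (nil y * nil x)) ∧
    Module.finrank k (LinearMap.range (brk x y)) = commutatorRank σ := by
  obtain ⟨h1, h2, h3⟩ := dims hu hx hy
  obtain ⟨h1', h2', h3'⟩ := dims hu.symm hy hx
  have hrk : commutatorRank τ = commutatorRank σ := le_antisymm (hτ.2 σ hσ.1) (hσ.2 τ hτ.1)
  have hd := le_finrank hu hσ (Subgroup.subset_closure hx) (Subgroup.subset_closure hy) h
  set P := LinearMap.range (nil x * nil y)
  set Q := LinearMap.range (nil y * nil x)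
  have hle : LinearMap.range (brk x y) ≤ P ⊔ Q := by
    rintro _ ⟨m, rfl⟩
    rw [LinearMap.sub_apply]
    exact sub_mem (Submodule.mem_sup_left (LinearMap.mem_range_self _ m))
      (Submodule.mem_sup_right (LinearMap.mem_range_self _ m))
  have h4 := Submodule.finrank_sup_add_finrank_inf_eq P Q
  have h5 := Submodule.finrank_mono hle
  have hinf : P ⊓ Q = ⊥ := Submodule.finrank_eq_zero.1 (by omega)
  have h6 : Module.finrank k ↥(P ⊓ Q) = 0 := by rw [hinf, finrank_bot]
  exact ⟨Submodule.eq_of_le_of_finrank_le h3' (by omega), Submodule.eq_of_le_of_finrank_le h3 (by omega),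
    Submodule.eq_of_le_of_finrank_le hle (by omega), disjoint_iff.2 hinf, by omega⟩

theorem ker_mul_eq (hu : Uni G σ τ) (hσ : σ ∈ minimalQuadraticElements G)
    (hτ : τ ∈ minimalQuadraticElements G) {x y : GLM} (hx : x ∈ sameActionClass G σ)
    (hy : y ∈ sameActionClass G τ) (h : brk x y ≠ 0) :
    LinearMap.ker (nil x * nil y) = LinearMap.range (nil σ) ⊔ LinearMap.ker (nil τ) := by
  obtain ⟨-, hTS, -⟩ := range_parts hu hσ hτ hx hy h
  obtain ⟨h1, -⟩ := hu x (Subgroup.subset_closure hx) y (Subgroup.subset_closure hy)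
  ext m
  constructor
  · intro hm
    have : nil y m ∈ LinearMap.range (nil τ) ⊓ LinearMap.ker (nil σ) :=
      ⟨hy.2.2 ▸ LinearMap.mem_range_self _ m, hx.2.1 ▸ hm⟩
    rw [← hTS] at this
    obtain ⟨w, hw⟩ := this
    refine Submodule.mem_sup.2 ⟨nil x w, hx.2.2 ▸ LinearMap.mem_range_self _ w, m - nil x w, ?_,
      add_sub_cancel _ _⟩
    rw [← hy.2.1, LinearMap.mem_ker, map_sub, ← Module.End.mul_apply, hw, sub_self]
  · intro hm
    obtain ⟨a, ha, b, hb, rfl⟩ := Submodule.mem_sup.1 hm
    rw [← hx.2.2] at ha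
    obtain ⟨w, rfl⟩ := ha
    rw [← hy.2.1, LinearMap.mem_ker] at hb
    rw [LinearMap.mem_ker, map_add, Module.End.mul_apply (nil x) (nil y) b, hb, map_zero, add_zero,
      ← Module.End.mul_apply, h1]
    rfl

theorem ker_brk (hu : Uni G σ τ) (hσ : σ ∈ minimalQuadraticElements G)
    (hτ : τ ∈ minimalQuadraticElements G) {x y : GLM} (hx : x ∈ sameActionClass G σ)
    (hy : y ∈ sameActionClass G τ) (h : brk x y ≠ 0) :
    LinearMap.ker (brk x y) = (LinearMap.range (nil σ) ⊔ LinearMap.ker (nil τ)) ⊓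
      (LinearMap.range (nil τ) ⊔ LinearMap.ker (nil σ)) := by
  rw [← ker_mul_eq hu hσ hτ hx hy h, ← ker_mul_eq hu.symm hτ hσ hy hx (by rwa [brk_swap, neg_ne_zero])]
  obtain ⟨-, -, -, hdis, -⟩ := range_parts hu hσ hτ hx hy h
  refine le_antisymm (fun m hm => ?_) fun m hm => ?_
  · rw [LinearMap.mem_ker, LinearMap.sub_apply, sub_eq_zero] at hm
    have h0 := (disjoint_iff.1 hdis).le ⟨LinearMap.mem_range_self _ m, hm ▸ LinearMap.mem_range_self _ m⟩
    rw [Submodule.mem_bot] at h0
    exact ⟨h0, LinearMap.mem_ker.2 (hm.symm.trans h0)⟩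
  · rw [LinearMap.mem_ker, LinearMap.sub_apply, LinearMap.mem_ker.1 hm.1, LinearMap.mem_ker.1 hm.2, sub_zero]

/-- All non-trivial commutators of the two classes lie in one class. -/
theorem commutator_class (hu : Uni G σ τ) (hσ : σ ∈ minimalQuadraticElements G)
    (hτ : τ ∈ minimalQuadraticElements G)
    (h : ⁅sameActionSubgroup G σ, sameActionSubgroup G τ⁆ ≠ ⊥) :
    ∃ n ∈ minimalQuadraticElements G, ∀ x ∈ sameActionSubgroup G σ, ∀ y ∈ sameActionSubgroup G τ,
      x * y * x⁻¹ * y⁻¹ ∈ sameActionSubgroup G n ∧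
      (x ≠ 1 → y ≠ 1 → x * y * x⁻¹ * y⁻¹ ∈ sameActionClass G n) := by
  have hmin : ∀ x ∈ sameActionSubgroup G σ, ∀ y ∈ sameActionSubgroup G τ, x ≠ 1 → y ≠ 1 →
      x * y * x⁻¹ * y⁻¹ ∈ minimalQuadraticElements G := by
    intro x hx y hy hx1 hy1
    have hne := brk_ne hu hσ hτ h hx hx1 hy hy1
    refine ⟨bracket_quadratic hu hx hy hne, fun t ht => ?_⟩
    show Module.finrank k (LinearMap.range (nil (x * y * x⁻¹ * y⁻¹))) ≤ _
    rw [(nil_commutator hu hx hy).1, (range_parts hu hσ hτ (mem_class hx hx1) (mem_class hy hy1) hne).2.2.2.2]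
    exact hσ.2 t ht
  have hσ1 := ne_one_of_quadratic hσ.1
  have hτ1 := ne_one_of_quadratic hτ.1
  refine ⟨σ * τ * σ⁻¹ * τ⁻¹, hmin σ (mem_self hσ) τ (mem_self hτ) hσ1 hτ1, fun x hx y hy => ?_⟩
  have hcl : x ≠ 1 → y ≠ 1 → x * y * x⁻¹ * y⁻¹ ∈ sameActionClass G (σ * τ * σ⁻¹ * τ⁻¹) := by
    intro hx1 hy1
    have hne := brk_ne hu hσ hτ h hx hx1 hy hy1
    have hne0 := brk_ne hu hσ hτ h (mem_self hσ) hσ1 (mem_self hτ) hτ1
    refine ⟨hmin x hx y hy hx1 hy1, ?_, ?_⟩
    · show LinearMap.ker (nil (x * y * x⁻¹ * y⁻¹)) = LinearMap.ker (nil (σ * τ * σ⁻¹ * τ⁻¹))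
      rw [(nil_commutator hu hx hy).1, (nil_commutator hu (mem_self hσ) (mem_self hτ)).1,
        ker_brk hu hσ hτ (mem_class hx hx1) (mem_class hy hy1) hne,
        ker_brk hu hσ hτ (mem_sameActionClass_self hσ) (mem_sameActionClass_self hτ) hne0]
    · show LinearMap.range (nil (x * y * x⁻¹ * y⁻¹)) = LinearMap.range (nil (σ * τ * σ⁻¹ * τ⁻¹))
      obtain ⟨a1, a2, a3, -⟩ := range_parts hu hσ hτ (mem_class hx hx1) (mem_class hy hy1) hne
      obtain ⟨b1, b2, b3, -⟩ :=
        range_parts hu hσ hτ (mem_sameActionClass_self hσ) (mem_sameActionClass_self hτ) hne0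
      rw [(nil_commutator hu hx hy).1, (nil_commutator hu (mem_self hσ) (mem_self hτ)).1, a3, b3, a1, a2, b1, b2]
  refine ⟨?_, hcl⟩
  by_cases hx1 : x = 1
  · subst hx1; simp [one_mem]
  by_cases hy1 : y = 1
  · subst hy1; simp [one_mem]
  exact Subgroup.subset_closure (hcl hx1 hy1)

end Cfsg.Agent.RootSubgroups.Cls
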