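import Mathlib
import Cfsg.Agent.Lib.RootSubgroups.QuadUni
import Cfsg.Agent.Lib.RootSubgroups.Unipotent

/-!
Partners of classes, conjugacy along partners, and the commutator case for classes acting unipotently.
-/

set_option autoImplicit false
open Cfsg

namespace Cfsg.Agent.RootSubgroups.Cls

open Quad

variable {k : Type*} [Field k] {M : Type*} [AddCommGroup M] [Module k M] [FiniteDimensional k M]

local notation "GLM" => LinearMap.GeneralLinearGroup k M
local notation "EndM" => Module.End k M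

variable {G : Subgroup (LinearMap.GeneralLinearGroup k M)} {σ τ n : LinearMap.GeneralLinearGroup k M}

/-- A subgroup containing all commutators of generators and centralised by them contains the commutator. -/
theorem commutator_sup_le {X : Type*} [Group X] {A B D : Subgroup X}
    (hc : ∀ d ∈ D, ∀ x ∈ (A : Set X) ∪ B, d * x = x * d)
    (h : ∀ x ∈ (A : Set X) ∪ B, ∀ y ∈ (A : Set X) ∪ B, x * y * x⁻¹ * y⁻¹ ∈ D) :
    ⁅A ⊔ B, A ⊔ B⁆ ≤ D := by
  have e : A ⊔ B = Subgroup.closure ((A : Set X) ∪ B) := by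
    rw [Subgroup.closure_union, Subgroup.closure_eq, Subgroup.closure_eq]
  have hc' : ∀ d ∈ D, ∀ x ∈ Subgroup.closure ((A : Set X) ∪ B), d * x = x * d := by
    intro d hd x hx
    induction hx using Subgroup.closure_induction with
    | mem y hy => exact hc d hd y hy
    | one => simp
    | mul y z _ _ hy hz => rw [← mul_assoc, hy, mul_assoc, hz, mul_assoc]
    | inv y _ hy => exact (Commute.inv_right hy).eq
  have hfix : ∀ d ∈ D, ∀ x ∈ Subgroup.closure ((A : Set X) ∪ B), x * d * x⁻¹ = d :=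
    fun d hd x hx => by rw [← hc' d hd x hx, mul_inv_cancel_right]
  -- fix the right argument
  have step : ∀ y ∈ Subgroup.closure ((A : Set X) ∪ B),
      (∀ x ∈ (A : Set X) ∪ B, x * y * x⁻¹ * y⁻¹ ∈ D) →
      ∀ x ∈ Subgroup.closure ((A : Set X) ∪ B), x * y * x⁻¹ * y⁻¹ ∈ D := by
    intro y _ hy x hx
    induction hx using Subgroup.closure_induction with
    | mem z hz => exact hy z hz
    | one => simp [one_mem]
    | mul a b ha hb iha ihb =>
      rw [show a * b * y * (a * b)⁻¹ * y⁻¹ = (a * (b * y * b⁻¹ * y⁻¹) * a⁻¹) * (a * y * a⁻¹ * y⁻¹) by group,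
        hfix _ ihb a ha]
      exact mul_mem ihb iha
    | inv a ha iha =>
      rw [show a⁻¹ * y * a⁻¹⁻¹ * y⁻¹ = a⁻¹ * (a * y * a⁻¹ * y⁻¹)⁻¹ * a⁻¹⁻¹ by group,
        hfix _ (inv_mem iha) _ (inv_mem ha)]
      exact inv_mem iha
  rw [e, Subgroup.commutator_le]
  intro x hx y hy
  refine step y hy (fun z hz => ?_) x hx
  have h1 := step z (Subgroup.subset_closure hz) (fun w hw => h w hw z hz) y hy
  simpa [mul_assoc] using inv_mem h1

theorem bracket_kill {R : Type*} [Ring R] {S Y : R} (h : S * S = 0) (z : S * Y * S = 0) :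
    (S * Y - Y * S) * S = 0 ∧ S * (S * Y - Y * S) = 0 := by
  constructor
  · rw [sub_mul, z, mul_assoc, h, mul_zero, sub_zero]
  · rw [mul_sub, ← mul_assoc, h, zero_mul, ← mul_assoc, z, sub_zero]

theorem fixedSubmodule_eq (hσ : σ ∈ minimalQuadraticElements G) :
    fixedSubmodule (sameActionSubgroup G σ) = LinearMap.ker (nil σ) := by
  refine le_antisymm (iInf₂_le σ (mem_self hσ)) (le_iInf₂ fun x hx => ?_)
  change _ ≤ LinearMap.ker (nil x)
  rcases mem_iff.1 hx with h | rfl
  · exact (h.2.1).symm.le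
  · rw [nil_eq_zero.2 rfl, LinearMap.ker_zero]; exact le_top

theorem commutatorSubmodule_eq (hσ : σ ∈ minimalQuadraticElements G) :
    commutatorSubmodule (sameActionSubgroup G σ) = LinearMap.range (nil σ) := by
  refine le_antisymm (iSup₂_le fun x hx => ?_)
    (le_iSup₂ (f := fun (g : GLM) (_ : g ∈ sameActionSubgroup G σ) => LinearMap.range (nil g)) σ (mem_self hσ))
  change LinearMap.range (nil x) ≤ _
  rcases mem_iff.1 hx with h | rfl
  · exact h.2.2.le
  · rw [nil_eq_zero.2 rfl, LinearMap.range_zero]; exact bot_le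

theorem mem_conjBy_conj {g x : GLM} (hg : g ∈ G) (hx : x ∈ sameActionSubgroup G σ) :
    g * x * g⁻¹ ∈ sameActionSubgroup G (g * σ * g⁻¹) := by
  rw [← conjBy_eq hg]; exact conj_mem_conjBy hx

theorem Inv.conj {g : GLM} (hg : g ∈ G) (h : Inv G σ τ) : Inv G (g * σ * g⁻¹) (g * τ * g⁻¹) := by
  intro x hx hx1
  have hx' : g⁻¹ * x * g ∈ sameActionSubgroup G σ := by
    have := mem_conjBy_conj (inv_mem hg) hx
    simpa [mul_assoc] using this
  obtain ⟨y, hy, hy1, e1, e2⟩ := h _ hx' (fun e => hx1 (by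
    have := congrArg (fun z => g * z * g⁻¹) e; simpa [mul_assoc] using this))
  have key : ∀ a b : GLM, nil a * nil b * nil a = nil a →
      nil (g * a * g⁻¹) * nil (g * b * g⁻¹) * nil (g * a * g⁻¹) = nil (g * a * g⁻¹) := by
    intro a b hab
    rw [nil_conj, nil_conj]
    calc (g : EndM) * nil a * ((g⁻¹ : GLM) : EndM) * ((g : EndM) * nil b * ((g⁻¹ : GLM) : EndM)) *
          ((g : EndM) * nil a * ((g⁻¹ : GLM) : EndM))
        = (g : EndM) * nil a * (((g⁻¹ : GLM) : EndM) * (g : EndM)) * nil b *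
          (((g⁻¹ : GLM) : EndM) * (g : EndM)) * nil a * ((g⁻¹ : GLM) : EndM) := by simp only [mul_assoc]
      _ = (g : EndM) * (nil a * nil b * nil a) * ((g⁻¹ : GLM) : EndM) := by
          rw [g.inv_mul]; simp only [mul_one, mul_assoc]
      _ = _ := by rw [hab]
  refine ⟨g * y * g⁻¹, mem_conjBy_conj hg hy, fun e => hy1 (conj_eq_one_iff.1 e), ?_, ?_⟩
  · simpa [mul_assoc] using key _ _ e1
  · simpa [mul_assoc] using key _ _ e2

theorem not_uni_of_inv (hσ : σ ∈ minimalQuadraticElements G) (h : Inv G σ τ) : ¬ Uni G σ τ := by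
  intro hu
  obtain ⟨y, hy, -, e, -⟩ := h σ (mem_self hσ) (ne_one_of_quadratic hσ.1)
  exact (mem_quadratic.1 hσ.1).2.1 (e.symm.trans (hu σ (mem_self hσ) y hy).1)

theorem not_inv_of_unipotent (hσ : σ ∈ minimalQuadraticElements G)
    (hu : IsUnipotentOn (sameActionSubgroup G σ ⊔ sameActionSubgroup G τ)) : ¬ Inv G σ τ := by
  intro h
  obtain ⟨y, hy, -, e, -⟩ := h σ (mem_self hσ) (ne_one_of_quadratic hσ.1)
  obtain ⟨m, hm⟩ := Unipotent.isUnipotentOn_iff.1 hu
  refine (mem_quadratic.1 hσ.1).2.1 ?_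
  have hp : ∀ i, (nil σ * nil y) ^ i * nil σ = nil σ := by
    intro i
    induction i with
    | zero => rw [pow_zero, one_mul]
    | succ i ih => rw [pow_succ, mul_assoc, e, ih]
  have hmem : nil σ * nil y ∈ Unipotent.sp (sameActionSubgroup G σ ⊔ sameActionSubgroup G τ) :=
    Unipotent.sp_mul_sp (Submodule.mul_mem_mul
      (Unipotent.sub_one_mem (Subgroup.mem_sup_left (mem_self hσ)))
      (Unipotent.sub_one_mem (Subgroup.mem_sup_right hy)))
  have h0 := Submodule.pow_mem_pow _ hmem m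
  rw [hm, Submodule.mem_bot] at h0
  rw [← hp m, h0, zero_mul]

/-- No non-trivial subgroup of `G` normalised by `G` acts unipotently. -/
def NoUni (G : Subgroup (LinearMap.GeneralLinearGroup k M)) : Prop :=
  ∀ U : Subgroup (LinearMap.GeneralLinearGroup k M), U ≤ G → IsUnipotentOn U →
    (∀ g ∈ G, ∀ u ∈ U, g * u * g⁻¹ ∈ U) → U = ⊥

/-- An irreducible group has no non-trivial normal unipotent subgroup. -/
theorem noUni_of_irreducible (hirr : IsIrreducibleFor G) : NoUni G := by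
  intro U _ hU hconj
  refine eq_bot_iff.2 fun x hx => Subgroup.mem_bot.2 ?_
  obtain ⟨⟨m₀, hm₀⟩, hsub⟩ := hirr
  set F : Submodule k M := ⨅ u ∈ U, LinearMap.ker (nil u) with hF
  have hmemF : ∀ {m : M}, m ∈ F ↔ ∀ u ∈ U, nil u m = 0 := by
    intro m
    simp only [hF, Submodule.mem_iInf, LinearMap.mem_ker]
  rcases hsub F (fun g hg w hw => hmemF.2 fun u hu => by
    have h1 := hmemF.1 hw _ (hconj g⁻¹ (inv_mem hg) u hu)
    rw [nil_conj, inv_inv, Module.End.mul_apply, Module.End.mul_apply] at h1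
    have h2 := congrArg (g : EndM) h1
    rw [← Module.End.mul_apply (g : EndM) ((g⁻¹ : GLM) : EndM), g.mul_inv, map_zero] at h2
    exact h2) with hbot | htop
  · obtain ⟨N, hN⟩ := Unipotent.isUnipotentOn_iff.1 hU
    have key : ∀ i, ∀ m : M, (∀ Z ∈ Unipotent.sp U ^ i, Z m = 0) → m = 0 := by
      intro i
      induction i with
      | zero =>
        intro m hm
        exact hm 1 (by rw [pow_zero, Submodule.one_eq_span]; exact Submodule.mem_span_singleton_self _)
      | succ i ih =>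
        intro m hm
        refine ih m fun Z hZ => ?_
        have h1 : Z m ∈ F := hmemF.2 fun u hu => by
          rw [← Module.End.mul_apply]
          exact hm _ (by rw [pow_succ']; exact Submodule.mul_mem_mul (Unipotent.sub_one_mem hu) hZ)
        rw [hbot, Submodule.mem_bot] at h1
        exact h1
    refine absurd (key N m₀ fun Z hZ => ?_) hm₀
    rw [hN, Submodule.mem_bot] at hZ
    rw [hZ]; rfl
  · exact nil_eq_zero.1 (LinearMap.ext fun m => hmemF.1 (htop ▸ Submodule.mem_top : m ∈ F) x hx)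

/-- Every class has a partner. -/
theorem exists_partner (hk2 : ringChar k ≠ 2) (hk3 : Nat.card k ≠ 3) (hirr : NoUni G)
    (hσ : σ ∈ minimalQuadraticElements G) :
    ∃ ρ ∈ minimalQuadraticElements G, Inv G σ ρ ∧ Inv G ρ σ := by
  by_contra hne
  set W : Set (Subgroup GLM) := {A | ∃ g ∈ G, A = conjBy (sameActionSubgroup G σ) g} with hW
  have hWW : ∀ A ∈ W, ∀ B ∈ W, IsUnipotentOn (A ⊔ B) := by
    rintro A ⟨g, hg, rfl⟩ B ⟨h, hh, rfl⟩
    rw [conjBy_eq hg, conjBy_eq hh]
    rcases uni_or_inv hk2 hk3 (minimal_conj hg hσ) (minimal_conj hh hσ) with hu | ⟨h1, h2⟩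
    · exact unipotent_of_uni hu
    · refine absurd ⟨_, minimal_conj (mul_mem (inv_mem hg) hh) hσ, ?_, ?_⟩ hne
      · simpa [mul_assoc] using Inv.conj (inv_mem hg) h1
      · simpa [mul_assoc] using Inv.conj (inv_mem hg) h2
  have hWle : ∀ A ∈ W, A ≤ G := by
    rintro A ⟨g, hg, rfl⟩
    exact conjBy_le le_group hg
  have hU := Unipotent.iSup_unipotent hWW (fun A hA B hB b hb => by
    obtain ⟨g, hg, rfl⟩ := hA
    exact ⟨b * g, mul_mem (hWle B hB hb) hg, conjBy_conjBy _ _ _⟩)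
  set U := ⨆ A ∈ W, A with hUdef
  have hσU : σ ∈ U := by
    have h1 : sameActionSubgroup G σ ≤ U :=
      le_iSup₂_of_le (f := fun (B : Subgroup GLM) (_ : B ∈ W) => B) _ ⟨1, one_mem _, (conjBy_one _).symm⟩ le_rfl
    exact h1 (mem_self hσ)
  have hconj : ∀ g ∈ G, ∀ u ∈ U, g * u * g⁻¹ ∈ U := by
    intro g hg u hu
    have h1 : U ≤ U.comap (MulAut.conj g).toMonoidHom := by
      refine iSup₂_le fun A hA x hx => ?_
      obtain ⟨h, hh, rfl⟩ := hA
      have h2 : conjBy (conjBy (sameActionSubgroup G σ) h) g ≤ U :=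
        le_iSup₂_of_le (f := fun (B : Subgroup GLM) (_ : B ∈ W) => B) _ ⟨g * h, mul_mem hg hh, conjBy_conjBy _ _ _⟩ le_rfl
      exact h2 (conj_mem_conjBy hx)
    exact h1 hu
  exact ne_one_of_quadratic hσ.1 (Subgroup.mem_bot.1 (hirr U (iSup₂_le hWle) hU hconj ▸ hσU))

/-- Two inverting classes are conjugate in `G`. -/
theorem conj_of_inv (hσ : σ ∈ minimalQuadraticElements G) (h : Inv G σ τ) (h' : Inv G τ σ) :
    ∃ g ∈ G, conjBy (sameActionSubgroup G σ) g = sameActionSubgroup G τ := by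
  obtain ⟨g, hg, e⟩ := exists_conj_right (pair hσ h h')
  exact ⟨g, sup_le (le_group : sameActionSubgroup G σ ≤ G) (le_group : sameActionSubgroup G τ ≤ G) hg, e⟩

/-- The space of nilpotent parts of a class. -/
def nilMod (G : Subgroup (LinearMap.GeneralLinearGroup k M)) (σ : LinearMap.GeneralLinearGroup k M) :
    Submodule k (Module.End k M) where
  carrier := {X | ∃ x ∈ sameActionSubgroup G σ, nil x = X}
  add_mem' := by
    rintro _ _ ⟨x, hx, rfl⟩ ⟨y, hy, rfl⟩
    exact ⟨x * y, mul_mem hx hy, nil_mul_mem hx hy⟩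
  zero_mem' := ⟨1, one_mem _, nil_eq_zero.2 rfl⟩
  smul_mem' := by
    rintro c _ ⟨x, hx, rfl⟩
    exact exists_smul hx c

theorem nilMod_finrank_eq {g : GLM} (hg : g ∈ G)
    (h : conjBy (sameActionSubgroup G σ) g = sameActionSubgroup G τ) :
    Module.finrank k (nilMod G σ) = Module.finrank k (nilMod G τ) := by
  have hi : Function.Injective
      ((LinearMap.mulRight k ((g⁻¹ : GLM) : EndM)).comp (LinearMap.mulLeft k (g : EndM))) := by
    intro a b hab
    simp only [LinearMap.comp_apply, LinearMap.mulLeft_apply, LinearMap.mulRight_apply] at hab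
    exact g.isUnit.mul_left_cancel ((g⁻¹).isUnit.mul_right_cancel hab)
  have e : (nilMod G σ).map
      ((LinearMap.mulRight k ((g⁻¹ : GLM) : EndM)).comp (LinearMap.mulLeft k (g : EndM))) = nilMod G τ := by
    ext Z
    constructor
    · rintro ⟨_, ⟨x, hx, rfl⟩, rfl⟩
      exact ⟨g * x * g⁻¹, h ▸ conj_mem_conjBy hx, nil_conj g x⟩
    · rintro ⟨y, hy, rfl⟩
      rw [← h] at hy
      obtain ⟨x, hx, rfl⟩ := hy
      exact ⟨nil x, ⟨x, hx, rfl⟩, (nil_conj g x).symm⟩
  rw [← e]
  exact (Submodule.equivMapOfInjective _ hi _).finrank_eq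

/-- The class of the commutators is conjugate to each of the two classes. -/
theorem conj_commutator (hk2 : ringChar k ≠ 2) (hk3 : Nat.card k ≠ 3) (hirr : NoUni G)
    (hu : Uni G σ τ) (hσ : σ ∈ minimalQuadraticElements G) (hτ : τ ∈ minimalQuadraticElements G)
    (hn : n ∈ minimalQuadraticElements G) (hc : σ * τ * σ⁻¹ * τ⁻¹ ∈ sameActionClass G n) :
    ∃ g ∈ G, conjBy (sameActionSubgroup G σ) g = sameActionSubgroup G n := by
  obtain ⟨ρ, hρ, h1, h2⟩ := exists_partner hk2 hk3 hirr hn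
  obtain ⟨g₂, hg₂, e₂⟩ := conj_of_inv hρ h2 h1
  rcases uni_or_inv hk2 hk3 hσ hρ with hur | ⟨a1, a2⟩
  swap
  · obtain ⟨g₁, hg₁, e₁⟩ := conj_of_inv hσ a1 a2
    exact ⟨g₂ * g₁, mul_mem hg₂ hg₁, by rw [← conjBy_conjBy, e₁, e₂]⟩
  obtain ⟨n', hn', -, hN, -⟩ := h1 _ (Subgroup.subset_closure hc) (ne_one_of_quadratic hc.1.1)
  rw [(nil_commutator hu (mem_self hσ) (mem_self hτ)).1] at hN
  have step : ∀ t ∈ sameActionSubgroup G τ, ∀ a : k, nil t = a • nil τ → a * a = 1 →
      nil (t * σ * t⁻¹) = nil σ - a • brk σ τ := by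
    intro t ht a hta ha
    obtain ⟨-, z⟩ := hu σ (mem_self hσ) τ (mem_self hτ)
    have hT2 : nil t * nil t = 0 := sameActionSubgroup_annihilate ht ht
    have z' : nil t * nil σ * nil t = 0 := by
      rw [hta, smul_mul_assoc, mul_smul_comm, smul_mul_assoc, z, smul_zero, smul_zero]
    rw [nil_mul, nil_mul, nil_inv hT2, mul_neg, add_mul, z', zero_add, add_mul, hT2, zero_add, hta, brk]
    generalize nil σ = S
    generalize nil τ = T
    simp only [smul_sub, smul_mul_assoc, mul_smul_comm]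
    abel
  by_contra hne
  have huni : ∀ t ∈ sameActionSubgroup G τ,
      nil (t * σ * t⁻¹) * nil n' * nil (t * σ * t⁻¹) = 0 := by
    intro t ht
    rcases uni_or_inv hk2 hk3 (minimal_conj (le_group ht) hσ) hρ with hu' | ⟨a1, a2⟩
    · exact (hu' _ (mem_self (minimal_conj (le_group ht) hσ)) n' hn').1
    · obtain ⟨g₁, hg₁, e₁⟩ := conj_of_inv (minimal_conj (le_group ht) hσ) a1 a2
      rw [← conjBy_eq (le_group ht)] at e₁
      exact absurd ⟨g₂ * g₁ * t, mul_mem (mul_mem hg₂ hg₁) (le_group ht),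
        by rw [← conjBy_conjBy, ← conjBy_conjBy, e₁, e₂]⟩ hne
  have p1 := huni τ (mem_self hτ)
  have p2 := huni τ⁻¹ (inv_mem (mem_self hτ))
  rw [step τ (mem_self hτ) 1 (one_smul k _).symm (one_mul 1), one_smul] at p1
  rw [step τ⁻¹ (inv_mem (mem_self hτ)) (-1)
    (by rw [nil_inv (sameActionSubgroup_annihilate (mem_self hτ) (mem_self hτ)), neg_smul, one_smul])
    (by rw [neg_mul_neg, one_mul]), neg_smul, one_smul, sub_neg_eq_add] at p2
  have z0 : nil σ * nil n' * nil σ = 0 := (hur σ (mem_self hσ) n' hn').1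
  have hb : brk σ τ ≠ 0 := fun e => ne_one_of_quadratic hc.1.1
    (nil_eq_zero.1 ((nil_commutator hu (mem_self hσ) (mem_self hτ)).1.trans e))
  generalize nil σ = S at p1 p2 z0
  generalize nil n' = P at p1 p2 z0 hN
  generalize brk σ τ = N at p1 p2 hN hb
  simp only [sub_mul, mul_sub, add_mul, mul_add, z0, hN] at p1 p2
  have h3 : (2 : k) • N = 0 := by
    rw [two_smul]
    calc N + N = (0 - (N * P * S) - (S * P * N - N)) + (0 + N * P * S + (S * P * N + N)) := by abel
      _ = 0 := by rw [p1, p2, add_zero]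
  exact hb ((smul_eq_zero.1 h3).resolve_left (Dk.two_ne_zero_of_ringChar hk2))

/-- Every element of the commutator class is a commutator with a prescribed element. -/
theorem exists_commutator_eq (hk2 : ringChar k ≠ 2) (hk3 : Nat.card k ≠ 3) (hirr : NoUni G)
    (hu : Uni G σ τ) (hσ : σ ∈ minimalQuadraticElements G) (hτ : τ ∈ minimalQuadraticElements G)
    (hn : n ∈ minimalQuadraticElements G)
    (hc : ∀ x ∈ sameActionSubgroup G σ, ∀ y ∈ sameActionSubgroup G τ,
      x * y * x⁻¹ * y⁻¹ ∈ sameActionSubgroup G n ∧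
      (x ≠ 1 → y ≠ 1 → x * y * x⁻¹ * y⁻¹ ∈ sameActionClass G n))
    {x : GLM} (hx : x ∈ sameActionSubgroup G σ) (hx1 : x ≠ 1) {d : GLM}
    (hd : d ∈ sameActionSubgroup G n) :
    ∃ y ∈ sameActionSubgroup G τ, x * y * x⁻¹ * y⁻¹ = d := by
  have hc' := (hc σ (mem_self hσ) τ (mem_self hτ)).2 (ne_one_of_quadratic hσ.1) (ne_one_of_quadratic hτ.1)
  have hc'' : τ * σ * τ⁻¹ * σ⁻¹ ∈ sameActionClass G n := by
    have h1 : τ * σ * τ⁻¹ * σ⁻¹ = (σ * τ * σ⁻¹ * τ⁻¹)⁻¹ := by group
    rw [h1]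
    exact mem_class (inv_mem (Subgroup.subset_closure hc')) (inv_ne_one.2 (ne_one_of_quadratic hc'.1.1))
  obtain ⟨g, hg, e⟩ := conj_commutator hk2 hk3 hirr hu.symm hτ hσ hn hc''
  let φ : nilMod G τ →ₗ[k] Module.End k M :=
    ((LinearMap.mulLeft k (nil x)) - LinearMap.mulRight k (nil x)).comp (nilMod G τ).subtype
  have hφ : ∀ y (hy : y ∈ sameActionSubgroup G τ), φ ⟨nil y, y, hy, rfl⟩ = brk x y := fun y hy => rfl
  have hinj : LinearMap.ker φ = ⊥ := by
    rw [LinearMap.ker_eq_bot']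
    rintro ⟨_, y, hy, rfl⟩ h0
    by_cases hy1 : y = 1
    · exact Subtype.ext (nil_eq_zero.2 hy1)
    · rw [hφ y hy] at h0
      have h1 := ne_one_of_quadratic ((hc x hx y hy).2 hx1 hy1).1.1
      exact absurd (nil_eq_zero.1 ((nil_commutator hu hx hy).1.trans h0)) h1
  have hle : LinearMap.range φ ≤ nilMod G n := by
    rintro _ ⟨⟨_, y, hy, rfl⟩, rfl⟩
    exact ⟨_, (hc x hx y hy).1, (nil_commutator hu hx hy).1⟩
  have hrange : LinearMap.range φ = nilMod G n := by
    refine Submodule.eq_of_le_of_finrank_le hle (le_of_eq ?_)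
    rw [LinearMap.finrank_range_of_inj (LinearMap.ker_eq_bot.1 hinj), nilMod_finrank_eq hg e]
  obtain ⟨⟨_, y, hy, rfl⟩, he⟩ : nil d ∈ LinearMap.range φ := hrange ▸ ⟨d, hd, rfl⟩
  exact ⟨y, hy, nil_inj ((nil_commutator hu hx hy).1.trans he)⟩

/-- Two classes acting unipotently commute or are in the commutator case inside a unipotent core. -/
theorem uni_case (hk2 : ringChar k ≠ 2) (hk3 : Nat.card k ≠ 3) (hirr : NoUni G)
    (hu : Uni G σ τ) (hσ : σ ∈ minimalQuadraticElements G) (hτ : τ ∈ minimalQuadraticElements G)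
    (hne : ⁅sameActionSubgroup G σ, sameActionSubgroup G τ⁆ ≠ ⊥) :
    RootCommutatorCase (quadraticRootSubgroups G) (sameActionSubgroup G σ) (sameActionSubgroup G τ) ∧
      ⁅sameActionSubgroup G σ ⊔ sameActionSubgroup G τ, sameActionSubgroup G σ ⊔ sameActionSubgroup G τ⁆ ≠ ⊥ ∧
      ⁅⁅sameActionSubgroup G σ ⊔ sameActionSubgroup G τ, sameActionSubgroup G σ ⊔ sameActionSubgroup G τ⁆,
        sameActionSubgroup G σ ⊔ sameActionSubgroup G τ⁆ = ⊥ ∧
      ((sameActionSubgroup G σ ⊔ sameActionSubgroup G τ : Subgroup GLM) : Set GLM) ⊆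
        quadraticUnipotentCore G ⁅sameActionSubgroup G σ, sameActionSubgroup G τ⁆ := by
  obtain ⟨n, hn, hc⟩ := commutator_class hu hσ hτ hne
  have hc₂ : ∀ y ∈ sameActionSubgroup G τ, ∀ x ∈ sameActionSubgroup G σ,
      y * x * y⁻¹ * x⁻¹ ∈ sameActionSubgroup G n ∧
      (y ≠ 1 → x ≠ 1 → y * x * y⁻¹ * x⁻¹ ∈ sameActionClass G n) := by
    intro y hy x hx
    have e : y * x * y⁻¹ * x⁻¹ = (x * y * x⁻¹ * y⁻¹)⁻¹ := by group
    rw [e]
    exact ⟨inv_mem (hc x hx y hy).1, fun hy1 hx1 => mem_class (inv_mem (hc x hx y hy).1)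
      (inv_ne_one.2 (ne_one_of_quadratic ((hc x hx y hy).2 hx1 hy1).1.1))⟩
  set A := sameActionSubgroup G σ with hA
  set B := sameActionSubgroup G τ with hB
  set D := sameActionSubgroup G n with hD
  have cl1 : ∀ a ∈ A, a ≠ 1 →
      Subgroup.closure ((fun b : GLM => a * b * a⁻¹ * b⁻¹) '' (B : Set GLM)) = D := by
    intro a ha ha1
    refine le_antisymm ((Subgroup.closure_le _).2 ?_) fun d hd => ?_
    · rintro _ ⟨b, hb, rfl⟩; exact (hc a ha b hb).1
    · obtain ⟨b, hb, e⟩ := exists_commutator_eq hk2 hk3 hirr hu hσ hτ hn hc ha ha1 hd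
      exact Subgroup.subset_closure ⟨b, hb, e⟩
  have cl2 : ∀ b ∈ B, b ≠ 1 →
      Subgroup.closure ((fun a : GLM => a * b * a⁻¹ * b⁻¹) '' (A : Set GLM)) = D := by
    intro b hb hb1
    refine le_antisymm ((Subgroup.closure_le _).2 ?_) fun d hd => ?_
    · rintro _ ⟨a, ha, rfl⟩; exact (hc a ha b hb).1
    · obtain ⟨a, ha, e⟩ := exists_commutator_eq hk2 hk3 hirr hu.symm hτ hσ hn hc₂ hb hb1 (inv_mem hd)
      refine Subgroup.subset_closure ⟨a, ha, ?_⟩
      calc a * b * a⁻¹ * b⁻¹ = (b * a * b⁻¹ * a⁻¹)⁻¹ := by group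
        _ = d := by rw [e, inv_inv]
  have hσ1 := ne_one_of_quadratic hσ.1
  have hτ1 := ne_one_of_quadratic hτ.1
  have hcomm : ⁅A, B⁆ = D := by
    refine le_antisymm (Subgroup.commutator_le.2 fun a ha b hb => (hc a ha b hb).1) ?_
    rw [← cl1 σ (mem_self hσ) hσ1, Subgroup.closure_le]
    rintro _ ⟨b, hb, rfl⟩
    exact Subgroup.commutator_mem_commutator (mem_self hσ) hb
  -- the nilpotent parts of `D` annihilate those of `A` and `B`
  have han : ∀ d ∈ D, ∀ x ∈ (A : Set GLM) ∪ B, nil d * nil x = 0 ∧ nil x * nil d = 0 := by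
    intro d hd x hx
    by_cases hx1 : x = 1
    · rw [nil_eq_zero.2 hx1, mul_zero, zero_mul]; exact ⟨rfl, rfl⟩
    rcases hx with hx | hx
    · obtain ⟨b, hb, rfl⟩ := exists_commutator_eq hk2 hk3 hirr hu hσ hτ hn hc hx hx1 hd
      obtain ⟨z, -⟩ := hu x hx b hb
      have hS : nil x * nil x = 0 := sameActionSubgroup_annihilate hx hx
      rw [(nil_commutator hu hx hb).1]
      exact bracket_kill hS z
    · obtain ⟨a, ha, rfl⟩ := exists_commutator_eq hk2 hk3 hirr hu.symm hτ hσ hn hc₂ hx hx1 hd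
      obtain ⟨-, z⟩ := hu a ha x hx
      have hS : nil x * nil x = 0 := sameActionSubgroup_annihilate hx hx
      rw [(nil_commutator hu.symm hx ha).1]
      exact bracket_kill hS z
  have hcen : ∀ d ∈ D, ∀ x ∈ (A : Set GLM) ∪ B, d * x = x * d := fun d hd x hx => nil_inj (by
    rw [nil_mul, nil_mul, (han d hd x hx).1, (han d hd x hx).2, add_comm (nil d)])
  have hsupD : ⁅A ⊔ B, A ⊔ B⁆ ≤ D := by
    refine commutator_sup_le hcen fun x hx y hy => ?_
    rcases hx with hx | hx <;> rcases hy with hy | hy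
    · rw [mul_comm_mem hx hy]; simp [one_mem]
    · exact (hc x hx y hy).1
    · exact (hc₂ x hx y hy).1
    · rw [mul_comm_mem hx hy]; simp [one_mem]
  have hcen' : ∀ d ∈ D, ∀ x ∈ A ⊔ B, d * x = x * d := by
    intro d hd x hx
    rw [sup_eq_closure] at hx
    induction hx using Subgroup.closure_induction with
    | mem y hy => exact hcen d hd y hy
    | one => simp
    | mul y z _ _ hy hz => rw [← mul_assoc, hy, mul_assoc, hz, mul_assoc]
    | inv y _ hy => exact (Commute.inv_right hy).eq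
  refine ⟨⟨?_, ?_, ?_, ?_⟩, ?_, ?_, ?_⟩
  · exact hcomm ▸ ⟨n, hn, rfl⟩
  · rw [hcomm]; exact hcen'
  · rw [hcomm]; exact cl1
  · rw [hcomm]; exact cl2
  · exact fun e => hne (le_bot_iff.1 (e ▸ Subgroup.commutator_mono le_sup_left le_sup_right))
  · exact le_bot_iff.1 ((Subgroup.commutator_mono hsupD le_rfl).trans
      (commutator_eq_bot_of_commute hcen').le)
  · rw [hcomm]
    have hgen : ∀ x ∈ (A : Set GLM) ∪ B,
        ∀ m ∈ LinearMap.ker (nil n), nil x m ∈ LinearMap.range (nil n) := by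
      intro x hx m hm
      by_cases hx1 : x = 1
      · rw [nil_eq_zero.2 hx1]; exact zero_mem _
      rcases hx with hx | hx
      · have hxc := mem_class hx hx1
        have hyc := mem_sameActionClass_self hτ
        have hcl := (hc x hx τ (mem_self hτ)).2 hx1 hτ1
        have hne' := brk_ne hu hσ hτ hne hx hx1 (mem_self hτ) hτ1
        have hk : m ∈ LinearMap.ker (brk x τ) := by
          rw [← (nil_commutator hu hx (mem_self hτ)).1, hcl.2.1]; exact hm
        rw [ker_brk hu hσ hτ hxc hyc hne'] at hk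
        obtain ⟨c, ⟨w, rfl⟩, e, he, rfl⟩ := Submodule.mem_sup.1 hk.2
        obtain ⟨-, -, h3, -⟩ := range_parts hu hσ hτ hxc hyc hne'
        rw [← hxc.2.1, LinearMap.mem_ker] at he
        rw [← hcl.2.2]
        change nil x _ ∈ LinearMap.range (nil (x * τ * x⁻¹ * τ⁻¹))
        rw [(nil_commutator hu hx (mem_self hτ)).1, h3, map_add, he, add_zero]
        exact Submodule.mem_sup_left ⟨w, rfl⟩
      · have hxc := mem_class hx hx1
        have hyc := mem_sameActionClass_self hσ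
        have hcl := (hc σ (mem_self hσ) x hx).2 hσ1 hx1
        have hne' := brk_ne hu hσ hτ hne (mem_self hσ) hσ1 hx hx1
        have hk : m ∈ LinearMap.ker (brk σ x) := by
          rw [← (nil_commutator hu (mem_self hσ) hx).1, hcl.2.1]; exact hm
        rw [ker_brk hu hσ hτ hyc hxc hne'] at hk
        obtain ⟨c, ⟨w, rfl⟩, e, he, rfl⟩ := Submodule.mem_sup.1 hk.1
        obtain ⟨-, -, h3, -⟩ := range_parts hu hσ hτ hyc hxc hne'
        rw [← hxc.2.1, LinearMap.mem_ker] at he
        rw [← hcl.2.2]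
        change nil x _ ∈ LinearMap.range (nil (σ * x * σ⁻¹ * x⁻¹))
        rw [(nil_commutator hu (mem_self hσ) hx).1, h3, map_add, he, add_zero]
        exact Submodule.mem_sup_right ⟨w, rfl⟩
    intro g hg
    have hgG : g ∈ G := sup_le (le_group : A ≤ G) (le_group : B ≤ G) hg
    have hP : nil n * nil g = 0 ∧ nil g * nil n = 0 ∧
        ∀ m ∈ LinearMap.ker (nil n), nil g m ∈ LinearMap.range (nil n) := by
      have hg' := hg
      rw [SetLike.mem_coe, sup_eq_closure] at hg'
      clear hg hgG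
      induction hg' using Subgroup.closure_induction'' with
      | mem x hx => exact ⟨(han n (mem_self hn) x hx).1, (han n (mem_self hn) x hx).2, hgen x hx⟩
      | inv_mem x hx =>
        have hx' : x⁻¹ ∈ (A : Set GLM) ∪ B := hx.imp (fun h => inv_mem h) (fun h => inv_mem h)
        exact ⟨(han n (mem_self hn) _ hx').1, (han n (mem_self hn) _ hx').2, hgen _ hx'⟩
      | one =>
        rw [nil_eq_zero.2 rfl, mul_zero, zero_mul]
        exact ⟨rfl, rfl, fun m _ => zero_mem _⟩
      | mul a b _ _ iha ihb =>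
        obtain ⟨a1, a2, a3⟩ := iha
        obtain ⟨b1, b2, b3⟩ := ihb
        refine ⟨?_, ?_, fun m hm => ?_⟩
        · rw [nil_mul, mul_add, ← mul_assoc, a1, zero_mul, zero_add, mul_add, a1, b1, add_zero]
        · rw [nil_mul, add_mul, mul_assoc, b2, mul_zero, zero_add, add_mul, a2, b2, add_zero]
        · obtain ⟨w, hw⟩ := b3 m hm
          rw [nil_mul, LinearMap.add_apply, LinearMap.add_apply, Module.End.mul_apply, ← hw,
            ← Module.End.mul_apply, a2, LinearMap.zero_apply, zero_add, hw]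
          exact add_mem (a3 m hm) (b3 m hm)
    refine ⟨hgG, mem_normalizer_iff_conjBy.2 (conjBy_of_commute fun d hd => (hcen' d hd g hg).symm), ?_, ?_, ?_⟩
    · intro m
      rw [fixedSubmodule_eq hn, LinearMap.mem_ker]
      exact LinearMap.congr_fun hP.1 m
    · intro m hm
      rw [fixedSubmodule_eq hn] at hm
      rw [commutatorSubmodule_eq hn]
      exact hP.2.2 m hm
    · intro m hm
      rw [commutatorSubmodule_eq hn] at hm
      obtain ⟨w, rfl⟩ := hm
      exact sub_eq_zero.1 (LinearMap.congr_fun hP.2.1 w)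

end Cfsg.Agent.RootSubgroups.Cls
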