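import Cfsg.Agent.Lib.RootSubgroups.QuadSL2
import Cfsg.Agent.Lib.RootSubgroups.Components

/-!
The components of the classes of a quadratic pair generate pairwise commuting quasisimple groups.
-/

set_option autoImplicit false
open Cfsg

namespace Cfsg.Agent.RootSubgroups.Cls

open Quad

variable {k : Type*} [Field k] {M : Type*} [AddCommGroup M] [Module k M] [FiniteDimensional k M]

local notation "GLM" => LinearMap.GeneralLinearGroup k M
local notation "EndM" => Module.End k M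

variable {G : Subgroup (LinearMap.GeneralLinearGroup k M)} {σ τ : LinearMap.GeneralLinearGroup k M}
  {A B : Subgroup (LinearMap.GeneralLinearGroup k M)}

/-- The group generated by the classes. -/
abbrev g0 (G : Subgroup (LinearMap.GeneralLinearGroup k M)) : Subgroup (LinearMap.GeneralLinearGroup k M) :=
  ⨆ B ∈ quadraticRootSubgroups G, B

/-- The component of a class. -/
abbrev part (G A : Subgroup (LinearMap.GeneralLinearGroup k M)) : Set (Subgroup (LinearMap.GeneralLinearGroup k M)) :=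
  componentOf (FAdj (quadraticRootSubgroups G)) (quadraticRootSubgroups G) A

/-- The group generated by a component. -/
abbrev gPart (G A : Subgroup (LinearMap.GeneralLinearGroup k M)) : Subgroup (LinearMap.GeneralLinearGroup k M) :=
  ⨆ B ∈ part G A, B

theorem g0_le : g0 G ≤ G := iSup₂_le fun _ hB => by
  obtain ⟨τ, -, rfl⟩ := hB
  exact le_group

theorem mem_g0 (hA : A ∈ quadraticRootSubgroups G) : A ≤ g0 G := Restrict.le_iSup_mem hA

theorem sigma_conj {g : GLM} (hg : g ∈ G) (hA : A ∈ quadraticRootSubgroups G) :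
    conjBy A g ∈ quadraticRootSubgroups G := by
  obtain ⟨σ, hσ, rfl⟩ := hA
  exact ⟨_, minimal_conj hg hσ, conjBy_eq hg σ⟩

theorem g0_rootSet (hk2 : ringChar k ≠ 2) (hk3 : Nat.card k ≠ 3) (hirr : NoUni G) :
    IsRootSubgroupSet ((fun A => A.subgroupOf (g0 G)) '' quadraticRootSubgroups G) := by
  refine Restrict.isRootSubgroupSet ?_ ?_ (fun A hA g hg => sigma_conj (g0_le hg) hA)
    (fun A hA B hB => trichotomy hk2 hk3 hirr hA hB)
  · rintro A ⟨σ, -, rfl⟩; exact commutative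
  · rintro A ⟨σ, hσ, rfl⟩; exact ne_bot hσ

theorem linked_map {X Y : Subgroup (g0 G)}
    (h : Linked ((fun A => A.subgroupOf (g0 G)) '' quadraticRootSubgroups G) X Y) :
    Linked (quadraticRootSubgroups G) (X.map (g0 G).subtype) (Y.map (g0 G).subtype) := by
  induction h with
  | refl => exact Linked.refl _
  | tail _ h2 ih =>
    obtain ⟨⟨P, hP, rfl⟩, ⟨Q, hQ, rfl⟩, hp⟩ := h2
    refine ih.trans ?_
    have h3 := pair_map (g0 G).subtype_injective hp
    rw [Restrict.map_eq (mem_g0 hP), Restrict.map_eq (mem_g0 hQ)] at h3 ⊢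
    exact Linked.of_adj hP hQ h3

theorem g0_partners (hk2 : ringChar k ≠ 2) (hk3 : Nat.card k ≠ 3) (hirr : NoUni G) :
    ∀ X ∈ (fun A => A.subgroupOf (g0 G)) '' quadraticRootSubgroups G,
      ∃ X' ∈ (fun A => A.subgroupOf (g0 G)) '' quadraticRootSubgroups G, IsRankOnePair X X' := by
  rintro _ ⟨A, hA, rfl⟩
  obtain ⟨B, hB, hp⟩ := exists_pair_member hk2 hk3 hirr hA
  exact ⟨_, ⟨B, hB, rfl⟩, Restrict.pair (mem_g0 hA) (mem_g0 hB) hp⟩

theorem linked_of_cc' (hk2 : ringChar k ≠ 2) (hk3 : Nat.card k ≠ 3) (hirr : NoUni G)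
    (hA : A ∈ quadraticRootSubgroups G) (hB : B ∈ quadraticRootSubgroups G)
    (h : RootCommutatorCase (quadraticRootSubgroups G) A B) : Linked (quadraticRootSubgroups G) A B := by
  have h1 := linked_map (linked_of_cc (g0_rootSet hk2 hk3 hirr) (g0_partners hk2 hk3 hirr)
    ⟨A, hA, rfl⟩ ⟨B, hB, rfl⟩ (Restrict.cc (mem_g0 hA) (mem_g0 hB) h))
  rwa [Restrict.map_eq (mem_g0 hA), Restrict.map_eq (mem_g0 hB)] at h1

theorem linked_conj' (hk2 : ringChar k ≠ 2) (hk3 : Nat.card k ≠ 3) (hirr : NoUni G)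
    (hA : A ∈ quadraticRootSubgroups G) {g : GLM} (hg : g ∈ g0 G) :
    Linked (quadraticRootSubgroups G) A (conjBy A g) := by
  obtain ⟨X', hX', hp⟩ := g0_partners hk2 hk3 hirr _ ⟨A, hA, rfl⟩
  have h1 := linked_map (linked_conj (g0_rootSet hk2 hk3 hirr) ⟨A, hA, rfl⟩ hX' hp ⟨g, hg⟩)
  rw [conjBy_map, Restrict.map_eq (mem_g0 hA)] at h1
  exact h1

theorem commute_of_not_linked (hk2 : ringChar k ≠ 2) (hk3 : Nat.card k ≠ 3) (hirr : NoUni G)
    (hA : A ∈ quadraticRootSubgroups G) (hB : B ∈ quadraticRootSubgroups G)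
    (h : ¬ Linked (quadraticRootSubgroups G) A B) : ⁅A, B⁆ = ⊥ := by
  rcases trichotomy hk2 hk3 hirr hA hB with h1 | h1 | h1
  · exact h1
  · exact absurd (Linked.of_adj hA hB h1) h
  · exact absurd (linked_of_cc' hk2 hk3 hirr hA hB h1) h

theorem part_subset : part G A ⊆ quadraticRootSubgroups G := fun _ hB => hB.1

theorem part_self (hA : A ∈ quadraticRootSubgroups G) : A ∈ part G A := ⟨hA, Linked.refl A⟩

theorem part_eq (hB : B ∈ part G A) : part G B = part G A := by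
  ext C
  exact ⟨fun h => ⟨h.1, Linked.trans hB.2 h.2⟩, fun h => ⟨h.1, Linked.trans (Linked.symm hB.2) h.2⟩⟩

theorem gPart_le : gPart G A ≤ g0 G := iSup₂_le fun _ hB => mem_g0 hB.1

theorem part_conj (hk2 : ringChar k ≠ 2) (hk3 : Nat.card k ≠ 3) (hirr : NoUni G)
    (hB : B ∈ part G A) {g : GLM} (hg : g ∈ g0 G) : conjBy B g ∈ part G A :=
  ⟨sigma_conj (g0_le hg) hB.1, Linked.trans hB.2 (linked_conj' hk2 hk3 hirr hB.1 hg)⟩

theorem exists_partner_part (hk2 : ringChar k ≠ 2) (hk3 : Nat.card k ≠ 3) (hirr : NoUni G)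
    (hB : B ∈ part G A) : ∃ B' ∈ part G A, IsRankOnePair B B' := by
  obtain ⟨B', hB', hp⟩ := exists_pair_member hk2 hk3 hirr hB.1
  exact ⟨B', ⟨hB', Linked.trans hB.2 (Linked.of_adj hB.1 hB' hp)⟩, hp⟩

theorem commutator_mem_part (hk2 : ringChar k ≠ 2) (hk3 : Nat.card k ≠ 3) (hirr : NoUni G)
    {P Q : Subgroup GLM} (hP : P ∈ part G A) (hQ : Q ∈ quadraticRootSubgroups G)
    (h : RootCommutatorCase (quadraticRootSubgroups G) P Q) : ⁅P, Q⁆ ∈ part G A := by
  refine ⟨h.1, Linked.trans hP.2 ?_⟩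
  have hl := linked_commutator (g0_rootSet hk2 hk3 hirr) (g0_partners hk2 hk3 hirr)
    ⟨P, hP.1, rfl⟩ ⟨Q, hQ, rfl⟩ (Restrict.cc (mem_g0 hP.1) (mem_g0 hQ) h)
  rw [Restrict.commutator_eq (mem_g0 hP.1) (mem_g0 hQ)] at hl
  have h1 := linked_map hl
  rwa [Restrict.map_eq (mem_g0 hP.1), Restrict.map_eq (mem_g0 h.1)] at h1

theorem part_conjugate {C : Subgroup GLM} (hB : B ∈ part G A) (hC : C ∈ part G A) :
    ∃ g ∈ gPart G A, C = conjBy B g := by
  have hl : Linked (quadraticRootSubgroups G) B C := Linked.trans (Linked.symm hB.2) hC.2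
  clear hC
  induction hl with
  | refl => exact ⟨1, one_mem _, (conjBy_one B).symm⟩
  | @tail P Q h1 h2 ih =>
    obtain ⟨g, hg, e⟩ := ih
    obtain ⟨x, hx, e'⟩ := exists_conj_right h2.2.2
    have hP : P ∈ part G A := ⟨h2.1, Linked.trans hB.2 h1⟩
    have hQ : Q ∈ part G A := ⟨h2.2.1, Linked.trans hP.2 (Linked.of_adj h2.1 h2.2.1 h2.2.2)⟩
    refine ⟨x * g, mul_mem (sup_le (Restrict.le_iSup_mem hP) (Restrict.le_iSup_mem hQ) hx) hg, ?_⟩
    rw [← conjBy_conjBy, ← e, e']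

theorem gPart_isRootSubgroupClass (hk2 : ringChar k ≠ 2) (hk3 : Nat.card k ≠ 3) (hirr : NoUni G)
    (hA : A ∈ quadraticRootSubgroups G) :
    IsRootSubgroupClass ((fun B => B.subgroupOf (gPart G A)) '' part G A) := by
  refine ⟨Restrict.isRootSubgroupSet ?_ ?_ (fun B hB g hg => part_conj hk2 hk3 hirr hB (gPart_le hg)) ?_, ?_⟩
  · rintro B ⟨⟨σ, -, rfl⟩, -⟩; exact commutative
  · rintro B ⟨⟨σ, hσ, rfl⟩, -⟩; exact ne_bot hσ
  · intro P hP Q hQ
    rcases trichotomy hk2 hk3 hirr hP.1 hQ.1 with h | h | h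
    · exact Or.inl h
    · exact Or.inr (Or.inl h)
    · exact Or.inr (Or.inr ⟨commutator_mem_part hk2 hk3 hirr hP hQ.1 h, h.2⟩)
  · refine ⟨⟨_, A, part_self hA, rfl⟩, ?_⟩
    rintro _ ⟨P, hP, rfl⟩ _ ⟨Q, hQ, rfl⟩
    obtain ⟨g, hg, rfl⟩ := part_conjugate hP hQ
    exact ⟨⟨g, hg⟩, (Restrict.conj_eq (Restrict.le_iSup_mem hP) ⟨g, hg⟩).symm⟩

theorem gPart_commute (hk2 : ringChar k ≠ 2) (hk3 : Nat.card k ≠ 3) (hirr : NoUni G)
    (h : part G A ≠ part G B) : ⁅gPart G A, gPart G B⁆ = ⊥ := by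
  rw [Subgroup.commutator_eq_bot_iff_le_centralizer]
  refine iSup₂_le fun P hP => ?_
  rw [Subgroup.le_centralizer_iff]
  refine iSup₂_le fun Q hQ => ?_
  rw [Subgroup.le_centralizer_iff, ← Subgroup.commutator_eq_bot_iff_le_centralizer]
  refine commute_of_not_linked hk2 hk3 hirr hP.1 hQ.1 fun hl => h ?_
  have hQ' : Q ∈ part G A := ⟨hQ.1, Linked.trans hP.2 hl⟩
  exact (part_eq hQ').symm.trans (part_eq hQ)

theorem gPart_normal (hk2 : ringChar k ≠ 2) (hk3 : Nat.card k ≠ 3) (hirr : NoUni G)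
    {g : GLM} (hg : g ∈ g0 G) {x : GLM} (hx : x ∈ gPart G A) : g * x * g⁻¹ ∈ gPart G A := by
  have h : gPart G A ≤ (gPart G A).comap (MulAut.conj g).toMonoidHom :=
    iSup₂_le fun P hP p hp => Restrict.le_iSup_mem (part_conj hk2 hk3 hirr hP hg) (conj_mem_conjBy hp)
  exact h hx

theorem exists_square_ne (hk2 : ringChar k ≠ 2) (hk3 : Nat.card k ≠ 3) : ∃ t : k, t ≠ 0 ∧ t * t ≠ 1 := by
  by_contra h
  push Not at h
  have h3 := three_lt_card (k := k) hk2 hk3
  have hsub : (Set.univ : Set k) ⊆ {0, 1, -1} := fun t _ => by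
    by_cases ht : t = 0
    · exact Or.inl ht
    · rcases mul_self_eq_one_iff.1 (h t ht) with e | e
      · exact Or.inr (Or.inl e)
      · exact Or.inr (Or.inr e)
  have hle : (Set.univ : Set k).encard ≤ 3 := (Set.encard_le_encard hsub).trans
    ((Set.encard_insert_le _ _).trans (by
      refine (add_le_add ((Set.encard_insert_le _ _).trans (add_le_add (Set.encard_singleton _).le le_rfl)) le_rfl).trans ?_
      norm_num))
  rw [Set.encard_univ] at hle
  exact absurd hle (not_le.2 h3)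

theorem mem_commutator_of_inv (hk2 : ringChar k ≠ 2) (hk3 : Nat.card k ≠ 3)
    (hσ : σ ∈ minimalQuadraticElements G) (hinv : Inv G σ τ) :
    σ ∈ ⁅sameActionSubgroup G σ ⊔ sameActionSubgroup G τ, sameActionSubgroup G σ ⊔ sameActionSubgroup G τ⁆ := by
  obtain ⟨y, hy, -, h1, h2⟩ := hinv σ (mem_self hσ) (ne_one_of_quadratic hσ.1)
  have hS := sameActionSubgroup_annihilate (mem_self hσ) (mem_self hσ)
  have hT := sameActionSubgroup_annihilate hy hy
  set X := sameActionSubgroup G σ ⊔ sameActionSubgroup G τ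
  obtain ⟨φ, hφ⟩ : ∃ φ, φ = sl2Hom (nil σ) (nil y) hS hT h1 h2 := ⟨_, rfl⟩
  have hval : ∀ g, nil (φ g) = (g.1 0 0 - 1) • (nil σ * nil y) + g.1 0 1 • nil σ + g.1 1 0 • nil y +
      (g.1 1 1 - 1) • (nil y * nil σ) := fun g => hφ ▸ nil_sl2Hom _ _ hS hT h1 h2 g
  have hX : ∀ g, φ g ∈ X := by
    intro g
    have hg : g ∈ (⊤ : Subgroup (Matrix.SpecialLinearGroup (Fin 2) k)) := Subgroup.mem_top g
    rw [← SL2.top_eq_sup] at hg
    refine (sup_le ?_ ?_ : lowerUnipotentSL2 k ⊔ upperUnipotentSL2 k ≤ X.comap φ) hg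
    · intro g hg
      obtain ⟨x, rfl⟩ := SL2.mem_lower.1 hg
      obtain ⟨z, hz, e⟩ := exists_smul hy x
      rw [Subgroup.mem_comap, show φ (SL2.v x) = z from nil_inj (by rw [hval, e]; simp)]
      exact Subgroup.mem_sup_right hz
    · intro g hg
      obtain ⟨x, rfl⟩ := SL2.mem_upper.1 hg
      obtain ⟨z, hz, e⟩ := exists_smul (mem_self hσ) x
      rw [Subgroup.mem_comap, show φ (SL2.u x) = z from nil_inj (by rw [hval, e]; simp)]
      exact Subgroup.mem_sup_left hz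
  obtain ⟨t, ht0, ht1⟩ := exists_square_ne hk2 hk3
  have hne : t * t - 1 ≠ 0 := sub_ne_zero.2 ht1
  obtain ⟨b, hb⟩ : ∃ b, b = (t * t - 1)⁻¹ := ⟨_, rfl⟩
  have e : SL2.h t * SL2.u b * (SL2.h t)⁻¹ * (SL2.u b)⁻¹ = SL2.u 1 := by
    have e1 : SL2.h t * SL2.u b = SL2.u (t * t * b) * SL2.h t := by
      apply SL2.ext2 <;> simp [Matrix.mul_apply, Fin.sum_univ_two, SL2.h_entries ht0] <;> field_simp
    rw [e1, mul_inv_cancel_right, SL2.u_inv, ← SL2.u_add]
    congr 1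
    rw [hb, ← sub_eq_add_neg, ← sub_one_mul, mul_inv_cancel₀ hne]
  have e2 : φ (SL2.u 1) = σ := nil_inj (by rw [hval]; simp)
  rw [← e2, ← e, map_mul, map_mul, map_mul, map_inv, map_inv]
  exact Subgroup.commutator_mem_commutator (hX _) (hX _)

theorem le_commutator_pair (hk2 : ringChar k ≠ 2) (hk3 : Nat.card k ≠ 3) (hirr : NoUni G)
    (hA : A ∈ quadraticRootSubgroups G) (hB : B ∈ quadraticRootSubgroups G) (hp : IsRankOnePair A B) :
    A ≤ ⁅A ⊔ B, A ⊔ B⁆ := by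
  obtain ⟨σ, hσ, rfl⟩ := hA
  obtain ⟨τ, hτ, rfl⟩ := hB
  intro x hx
  by_cases hx1 : x = 1
  · rw [hx1]; exact one_mem _
  have hc := mem_class hx hx1
  rw [← eq_of_class hc] at hp ⊢
  exact mem_commutator_of_inv hk2 hk3 hc.1 (inv_of_pair hk2 hk3 hirr hc.1 hτ hp).1

/-- A subgroup of `g0 G` normalised by it and acting unipotently is trivial. -/
theorem eq_bot_of_unipotent (hirr : NoUni G) {K : Subgroup GLM} (hK : K ≤ g0 G)
    (hu : IsUnipotentOn K) (hn : ∀ g ∈ g0 G, conjBy K g = K) : K = ⊥ := by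
  have hconjU : ∀ g ∈ G, IsUnipotentOn (conjBy K g) := by
    intro g _
    obtain ⟨n, hn'⟩ := Unipotent.isUnipotentOn_iff.1 hu
    refine Unipotent.isUnipotentOn_iff.2 ⟨n, eq_bot_iff.2 ?_⟩
    let c : Module.End k M →ₐ[k] Module.End k M :=
      AlgHom.ofLinearMap ((LinearMap.mulRight k ((g⁻¹ : GLM) : EndM)).comp (LinearMap.mulLeft k (g : EndM)))
        (by simp [← Units.val_mul])
        (fun x y => by
          simp only [LinearMap.comp_apply, LinearMap.mulLeft_apply, LinearMap.mulRight_apply]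
          calc (g : EndM) * (x * y) * ((g⁻¹ : GLM) : EndM)
              = (g : EndM) * x * (((g⁻¹ : GLM) : EndM) * (g : EndM)) * y * ((g⁻¹ : GLM) : EndM) := by
                rw [g.inv_mul, mul_one]; simp only [mul_assoc]
            _ = _ := by simp only [mul_assoc])
    have hle : Unipotent.sp (conjBy K g) ≤ (Unipotent.sp K).map c.toLinearMap := by
      refine Unipotent.sp_le ?_
      rintro _ ⟨x, hx, rfl⟩
      exact ⟨nil x, Unipotent.sub_one_mem hx, (nil_conj g x).symm⟩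
    calc Unipotent.sp (conjBy K g) ^ n ≤ ((Unipotent.sp K).map c.toLinearMap) ^ n := pow_le_pow_left' hle n
      _ = (Unipotent.sp K ^ n).map c.toLinearMap := (Submodule.map_pow _ c n).symm
      _ ≤ ⊥ := by rw [hn', Submodule.map_bot]
  set W : Set (Subgroup GLM) := {L | ∃ g ∈ G, L = conjBy K g} with hW
  have hg0G : ∀ g ∈ G, ∀ h ∈ g0 G, g * h * g⁻¹ ∈ g0 G := by
    intro g hg h hh
    have h1 : g0 G ≤ (g0 G).comap (MulAut.conj g).toMonoidHom :=
      iSup₂_le fun P hP p hp => mem_g0 (sigma_conj hg hP) (conj_mem_conjBy hp)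
    exact h1 hh
  have hWle : ∀ L ∈ W, L ≤ g0 G := by
    rintro L ⟨g, hg, rfl⟩ _ ⟨x, hx, rfl⟩
    exact hg0G g hg x (hK hx)
  have hWn : ∀ L ∈ W, ∀ h ∈ g0 G, conjBy L h = L := by
    rintro L ⟨g, hg, rfl⟩ h hh
    rw [conjBy_conjBy]
    have h1 := hn _ (show g⁻¹ * h * g ∈ g0 G by simpa using hg0G g⁻¹ (inv_mem hg) h hh)
    calc conjBy K (h * g) = conjBy (conjBy K (g⁻¹ * h * g)) g := by rw [conjBy_conjBy]; group
      _ = _ := by rw [h1]
  have hWU : ∀ L ∈ W, IsUnipotentOn L := by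
    rintro L ⟨g, hg, rfl⟩
    exact hconjU g hg
  have hWW : ∀ L ∈ W, ∀ L' ∈ W, IsUnipotentOn (L ⊔ L') := fun L hL L' hL' =>
    Unipotent.sup_normal (hWU L hL) (hWU L' hL') fun x hx =>
      mem_normalizer_iff_conjBy.2 (hWn L hL x (hWle L' hL' hx))
  have hU := Unipotent.iSup_unipotent hWW (fun L hL L' hL' b hb => by
    rwa [hWn L hL b (hWle L' hL' hb)])
  refine eq_bot_iff.2 fun x hx => Subgroup.mem_bot.2 ?_
  refine Subgroup.mem_bot.1 (hirr _ (iSup₂_le fun L hL => (hWle L hL).trans g0_le) hU ?_ ▸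
    (Restrict.le_iSup_mem (Λ := W) ⟨1, one_mem _, (conjBy_one K).symm⟩) hx)
  intro g hg u hu
  have h1 : (⨆ L ∈ W, L) ≤ (⨆ L ∈ W, L).comap (MulAut.conj g).toMonoidHom := by
    refine iSup₂_le fun L hL p hp => ?_
    obtain ⟨h, hh, rfl⟩ := hL
    exact Restrict.le_iSup_mem (Λ := W) ⟨g * h, mul_mem hg hh, conjBy_conjBy _ _ _⟩ (conj_mem_conjBy hp)
  exact h1 hu

end Cfsg.Agent.RootSubgroups.Cls
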