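import Cfsg.Agent.Lib.RootSubgroups.QuadSplit

/-!
Every quadratic element lies in the product of the group of the classes and its centraliser.
-/

set_option autoImplicit false
open Cfsg

namespace Cfsg.Agent.RootSubgroups.Cls

open Quad

variable {k : Type*} [Field k] {M : Type*} [AddCommGroup M] [Module k M] [FiniteDimensional k M]

local notation "GLM" => LinearMap.GeneralLinearGroup k M

variable {G : Subgroup (LinearMap.GeneralLinearGroup k M)}

theorem red_mem_centralizer (hk2 : ringChar k ≠ 2) (hk3 : Nat.card k ≠ 3) (hno : NoUni G) {x : GLM}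
    (hx : x ∈ quadraticElements G) (hX : Red G (nil x)) :
    x ∈ Subgroup.centralizer ((g0 G : Subgroup GLM) : Set GLM) := by
  have h : g0 G ≤ Subgroup.centralizer {x} := iSup₂_le fun A hA a ha => by
    obtain ⟨σ, hσ, rfl⟩ := hA
    refine Subgroup.mem_centralizer_iff.2 fun v hv => ?_
    rw [Set.mem_singleton_iff.1 hv]
    rcases mem_iff.1 ha with hc | rfl
    · exact red_commute hk2 hk3 hno hx hX hc.1
    · rw [one_mul, mul_one]
  exact Subgroup.mem_centralizer_iff.2 fun a ha => (Subgroup.mem_centralizer_iff.1 (h ha) x rfl).symm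

theorem mem_g0_of_minimal {y : GLM} (hy : y ∈ minimalQuadraticElements G) : y ∈ g0 G :=
  mem_g0 ⟨y, hy, rfl⟩ (mem_self hy)

theorem quadratic_mem_sup (hk2 : ringChar k ≠ 2) (hk3 : Nat.card k ≠ 3) (hno : NoUni G) {x : GLM}
    (hx : x ∈ quadraticElements G) :
    x ∈ g0 G ⊔ (G ⊓ Subgroup.centralizer ((g0 G : Subgroup GLM) : Set GLM)) := by
  induction hn : commutatorRank x using Nat.strong_induction_on generalizing x with
  | _ n ih =>
    by_cases hX : Red G (nil x)
    · exact Subgroup.mem_sup_right ⟨hx.1, red_mem_centralizer hk2 hk3 hno hx hX⟩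
    obtain ⟨y, hy, -, -, h⟩ := exists_split hk2 hk3 hx hX
    have hy' := Subgroup.mem_sup_left (T := G ⊓ Subgroup.centralizer ((g0 G : Subgroup GLM) : Set GLM))
      (mem_g0_of_minimal hy)
    rcases h with h | ⟨hq, hlt, -⟩
    · rwa [mul_inv_eq_one.1 h]
    · have := mul_mem (ih _ (hn ▸ hlt) hq rfl) hy'
      rwa [inv_mul_cancel_right] at this

end Cfsg.Agent.RootSubgroups.Cls
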