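import Cfsg.Agent.Lib.RootSubgroups.QuadParts
import Cfsg.Agent.Lib.RootSubgroups.DichotomyUni

/-!
Splitting off minimal parts from a quadratic element; the elements with nothing to split off centralise
all classes.
-/

set_option autoImplicit false
open Cfsg

namespace Cfsg.Agent.RootSubgroups.Cls

open Quad

variable {k : Type*} [Field k] {M : Type*} [AddCommGroup M] [Module k M]

local notation "GLM" => LinearMap.GeneralLinearGroup k M
local notation "EndM" => Module.End k M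

variable {G : Subgroup (LinearMap.GeneralLinearGroup k M)} {σ τ x : LinearMap.GeneralLinearGroup k M}

/-- `SXS = 0` for all minimal quadratic `S`. -/
def Red (G : Subgroup (LinearMap.GeneralLinearGroup k M)) (X : Module.End k M) : Prop :=
  ∀ q ∈ minimalQuadraticElements G, nil q * X * nil q = 0

theorem sandwich_sub {R : Type*} [Ring R] (a b c : R) : a * (b - c) * a = a * b * a - a * c * a := by
  rw [mul_sub, sub_mul]

theorem conj_expand {R : Type*} [Ring R] {a b : R} (h : a * b * a = 0) :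
    (1 + a) * b * (1 - a) = b + (a * b - b * a) := by
  rw [mul_sub, add_mul, one_mul, mul_one, add_mul, h, add_zero]
  abel

theorem nil_conj_quadratic {x : GLM} (hX : nil x * nil x = 0) (s : GLM) :
    nil (x * s * x⁻¹) = (1 + nil x) * nil s * (1 - nil x) := by
  rw [nil_mul (x * s), nil_mul x s, nil_inv hX]
  obtain ⟨X, hXd⟩ : ∃ X, X = nil x := ⟨_, rfl⟩
  rw [← hXd] at hX ⊢
  generalize nil s = S
  simp only [mul_neg, add_mul, mul_sub, sub_mul, mul_one, one_mul, hX]
  abel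

variable [FiniteDimensional k M]

theorem red_conj {g : GLM} (hg : g ∈ G) {X : EndM} (h : Red G X) :
    Red G ((g : EndM) * X * ((g⁻¹ : GLM) : EndM)) := by
  intro q hq
  have h1 := h _ (minimal_conj (inv_mem hg) hq)
  rw [nil_conj, inv_inv] at h1
  have h2 := congrArg (fun Z => (g : EndM) * Z * ((g⁻¹ : GLM) : EndM)) h1
  simp only [mul_zero, zero_mul] at h2
  rw [← h2]
  have e1 : ∀ Z : EndM, (g : EndM) * (((g⁻¹ : GLM) : EndM) * Z) = Z := fun Z => by
    rw [← mul_assoc, g.mul_inv, one_mul]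
  simp only [mul_assoc, g.mul_inv, mul_one, e1]

omit [FiniteDimensional k M] in
theorem red_smul {X : EndM} (h : Red G X) (c : k) : Red G (c • X) := fun q hq => by
  rw [mul_smul_comm, smul_mul_assoc, h q hq, smul_zero]

theorem red_bracket (hk2 : ringChar k ≠ 2) (hX : Red G (nil x)) {y : GLM} (hy : y ∈ quadraticElements G)
    (hσ : σ ∈ minimalQuadraticElements G) :
    nil σ * (nil x * nil y - nil y * nil x) * nil σ = 0 := by
  obtain ⟨hY, -, -⟩ := mem_quadratic.1 hy
  have key : ∀ g : GLM, g ∈ G → nil g * nil g = 0 →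
      nil σ * ((1 + nil g) * nil x * (1 - nil g)) * nil σ = 0 := by
    intro g hg hgg
    have h1 : nil σ * nil (g * x * g⁻¹) * nil σ = 0 := by
      rw [nil_conj]; exact red_conj hg hX σ hσ
    rwa [nil_conj_quadratic hgg] at h1
  have h1 := key y hy.1 hY
  have h2 := key y⁻¹ (inv_mem hy.1) (by rw [nil_inv hY, neg_mul_neg, hY])
  rw [nil_inv hY] at h2
  obtain ⟨S, hS⟩ : ∃ S, S = nil σ := ⟨_, rfl⟩
  obtain ⟨X, hXd⟩ : ∃ X, X = nil x := ⟨_, rfl⟩
  obtain ⟨Y, hYd⟩ : ∃ Y, Y = nil y := ⟨_, rfl⟩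
  rw [← hS, ← hXd, ← hYd] at h1 h2 ⊢
  refine (smul_eq_zero.1 (?_ : (2 : k) • (S * (X * Y - Y * X) * S) = 0)).resolve_left
    (Dk.two_ne_zero_of_ringChar hk2)
  calc (2 : k) • (S * (X * Y - Y * X) * S)
      = S * ((1 + -Y) * X * (1 - -Y)) * S - S * ((1 + Y) * X * (1 - Y)) * S := by
        rw [two_smul]
        simp only [mul_sub, sub_mul, mul_add, add_mul, neg_mul, mul_neg, one_mul, mul_one, mul_assoc]
        abel
    _ = 0 := by rw [h1, h2, sub_zero]

theorem red_sandwich (hk2 : ringChar k ≠ 2) (hx : x ∈ quadraticElements G) (hX : Red G (nil x))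
    {q : GLM} (hq : q ∈ minimalQuadraticElements G) (hσ : σ ∈ minimalQuadraticElements G) :
    nil σ * (nil x * nil q * nil x) * nil σ = 0 := by
  obtain ⟨hQ, -, -⟩ := mem_quadratic.1 hq.1
  obtain ⟨hXX, -, -⟩ := mem_quadratic.1 hx
  have hQXQ := hX q hq
  have h1 := red_bracket hk2 hX (quadratic_conj hq.1.1 hx) hσ
  have h2 := red_bracket hk2 hX (quadratic_conj (inv_mem hq.1.1) hx) hσ
  rw [nil_conj_quadratic hQ] at h1
  rw [nil_conj_quadratic (by rw [nil_inv hQ, neg_mul_neg, hQ]), nil_inv hQ] at h2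
  obtain ⟨S, hS⟩ : ∃ S, S = nil σ := ⟨_, rfl⟩
  obtain ⟨X, hXd⟩ : ∃ X, X = nil x := ⟨_, rfl⟩
  obtain ⟨Q, hQd⟩ : ∃ Q, Q = nil q := ⟨_, rfl⟩
  rw [← hS, ← hXd, ← hQd] at h1 h2 ⊢
  rw [← hQd, ← hXd] at hQXQ
  rw [← hXd] at hXX
  refine (smul_eq_zero.1 (?_ : (2 : k) • (2 : k) • (S * (X * Q * X) * S) = 0)).resolve_left
    (Dk.two_ne_zero_of_ringChar hk2) |> fun h => (smul_eq_zero.1 h).resolve_left
      (Dk.two_ne_zero_of_ringChar hk2)
  have z : ∀ W : EndM, X * (X * W) = 0 := fun W => by rw [← mul_assoc, hXX, zero_mul]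
  have z' : ∀ W : EndM, Q * (X * (Q * W)) = 0 := fun W => by rw [← mul_assoc, ← mul_assoc, hQXQ, zero_mul]
  calc (2 : k) • (2 : k) • (S * (X * Q * X) * S)
      = S * (X * ((1 + Q) * X * (1 - Q)) - (1 + Q) * X * (1 - Q) * X) * S
        - S * (X * ((1 + -Q) * X * (1 - -Q)) - (1 + -Q) * X * (1 - -Q) * X) * S := by
        rw [two_smul, two_smul]
        simp only [mul_sub, sub_mul, mul_add, add_mul, neg_mul, mul_neg, one_mul, mul_one, mul_assoc,
          z, z', hXX, mul_zero, zero_mul]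
        abel
    _ = 0 := by rw [h1, h2, sub_zero]

theorem red_xsx (hk2 : ringChar k ≠ 2) (hk3 : Nat.card k ≠ 3) (hno : NoUni G) (hx : x ∈ quadraticElements G)
    (hX : Red G (nil x)) (hσ : σ ∈ minimalQuadraticElements G) :
    nil x * nil σ * nil x = 0 := by
  obtain ⟨hXX, -, -⟩ := mem_quadratic.1 hx
  obtain ⟨hSS, hS0, -⟩ := mem_quadratic.1 hσ.1
  have hXinv : nil x⁻¹ * nil x⁻¹ = 0 := by rw [nil_inv hXX, neg_mul_neg, hXX]
  set S := nil σ
  set X := nil x
  have hSXS : S * X * S = 0 := hX σ hσ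
  by_contra hP
  set P := X * S * X with hPdef
  have hP2 : P * P = 0 := by
    rw [hPdef, show X * S * X * (X * S * X) = X * S * (X * X) * (S * X) by noncomm_ring, hXX, mul_zero, zero_mul]
  have hmem : ∀ c : k, unit (c • P) (smul_sq hP2 c) ∈ G := by
    intro c
    obtain ⟨s, hs, es⟩ := exists_smul (mem_self hσ) (-(c / 2))
    have hsG : s ∈ G := le_group hs
    have hss : nil s * nil s = 0 := by rw [es]; exact smul_sq hSS _
    have hg : x * s * x⁻¹ * (x⁻¹ * s * x⁻¹⁻¹) * (s⁻¹ * s⁻¹) ∈ G := mul_mem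
      (mul_mem (mul_mem (mul_mem hx.1 hsG) (inv_mem hx.1))
        (mul_mem (mul_mem (inv_mem hx.1) hsG) (inv_mem (inv_mem hx.1)))) (mul_mem (inv_mem hsG) (inv_mem hsG))
    have e : unit (c • P) (smul_sq hP2 c) = x * s * x⁻¹ * (x⁻¹ * s * x⁻¹⁻¹) * (s⁻¹ * s⁻¹) := by
      refine nil_inj ?_
      rw [nil_unit, nil_mul (x * s * x⁻¹ * (x⁻¹ * s * x⁻¹⁻¹)), nil_mul (x * s * x⁻¹) (x⁻¹ * s * x⁻¹⁻¹),
        nil_mul s⁻¹, nil_inv hss, nil_conj_quadratic hXX, nil_conj_quadratic hXinv, nil_inv hXX, es]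
      have z1 : ∀ W : EndM, S * (S * W) = 0 := fun W => by rw [← mul_assoc, hSS, zero_mul]
      have z2 : ∀ W : EndM, X * (X * W) = 0 := fun W => by rw [← mul_assoc, hXX, zero_mul]
      have z3 : ∀ W : EndM, S * (X * (S * W)) = 0 := fun W => by rw [← mul_assoc, ← mul_assoc, hSXS, zero_mul]
      have z4 : S * (X * S) = 0 := by rw [← mul_assoc, hSXS]
      change c • (X * S * X) = _
      simp only [show nil x = X from rfl, show nil σ = S from rfl]
      simp only [mul_add, add_mul, mul_sub, sub_mul, mul_neg, neg_mul, mul_one, one_mul, smul_mul_assoc,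
        mul_smul_comm, mul_assoc, hSS, hXX, z1, z2, z3, z4, mul_zero, zero_mul, smul_zero, neg_zero,
        smul_neg, neg_smul, smul_add, smul_sub, add_zero, zero_add, sub_zero, neg_neg]
      have h2 : (2 : k) ≠ 0 := Dk.two_ne_zero_of_ringChar hk2
      have e2 : c • (X * (S * X)) = (c / 2) • (X * (S * X)) + (c / 2) • (X * (S * X)) := by
        rw [← add_smul]; congr 1; field_simp; norm_num
      rw [e2]
      abel
    exact e ▸ hg
  have hpq : unit P hP2 ∈ quadraticElements G := mem_quadratic.2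
    ⟨by rw [nil_unit]; exact hP2, by rw [nil_unit]; exact hP, fun c => by
      convert hmem c using 2
      rw [nil_unit]⟩
  have hrk : commutatorRank (unit P hP2) ≤ commutatorRank σ := by
    show Module.finrank k (LinearMap.range (nil (unit P hP2))) ≤ Module.finrank k (LinearMap.range S)
    rw [nil_unit, hPdef, mul_assoc, Module.End.mul_eq_comp, LinearMap.range_comp]
    refine le_trans (Submodule.finrank_map_le _ _) (Submodule.finrank_mono ?_)
    exact LinearMap.range_comp_le_range _ _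
  have hπ : unit P hP2 ∈ minimalQuadraticElements G := ⟨hpq, fun t ht => le_trans hrk (hσ.2 t ht)⟩
  obtain ⟨ρ, hρ, h1, -⟩ := exists_partner hk2 hk3 hno hπ
  obtain ⟨q, hq, hq1, e, -⟩ := h1 _ (mem_self hπ) (ne_one_of_quadratic hpq)
  rw [nil_unit] at e
  refine hP (e.symm.trans ?_)
  rw [hPdef, show X * S * X * nil q * (X * S * X) = X * (S * (X * nil q * X) * S) * X by noncomm_ring,
    show S * (X * nil q * X) * S = 0 from red_sandwich hk2 hx hX (mem_class hq hq1).1 hσ, mul_zero, zero_mul]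

/-- Reduced elements centralise every class. -/
theorem red_commute (hk2 : ringChar k ≠ 2) (hk3 : Nat.card k ≠ 3) (hno : NoUni G) (hx : x ∈ quadraticElements G)
    (hX : Red G (nil x)) (hσ : σ ∈ minimalQuadraticElements G) : x * σ = σ * x := by
  -- the elements `[y, τ]` for reduced `y`
  set U : Set GLM := {u | u ∈ quadraticElements G ∧ ∃ y ∈ quadraticElements G, Red G (nil y) ∧
    ∃ τ ∈ minimalQuadraticElements G, nil u = nil y * nil τ - nil τ * nil y} with hUdef
  have hW : ∀ {y τ : GLM}, y ∈ quadraticElements G → Red G (nil y) → τ ∈ minimalQuadraticElements G →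
      nil (y * τ * y⁻¹) = nil τ + (nil y * nil τ - nil τ * nil y) ∧
      nil y * nil τ - nil τ * nil y = nil y - (1 + nil τ) * nil y * (1 - nil τ) := by
    intro y τ hy hY hτ
    obtain ⟨hYY, -, -⟩ := mem_quadratic.1 hy
    have h1 : nil y * nil τ * nil y = 0 := red_xsx hk2 hk3 hno hy hY hτ
    have h2 : nil τ * nil y * nil τ = 0 := hY τ hτ
    rw [nil_conj_quadratic hYY, conj_expand h1, conj_expand h2]
    exact ⟨rfl, by abel⟩
  have hUred : ∀ u ∈ U, Red G (nil u) := by
    rintro u ⟨-, y, hy, hY, τ, hτ, e⟩ q hq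
    have h1 := red_conj hτ.1.1 hY q hq
    rw [← nil_conj, nil_conj_quadratic (mem_quadratic.1 hτ.1).1] at h1
    rw [e, (hW hy hY hτ).2, sandwich_sub, hY q hq, h1, sub_zero]
  have hUU : ∀ u ∈ U, ∀ v ∈ U, nil u * nil v * nil u = 0 := by
    intro u hu v hv
    obtain ⟨-, y, hy, hY, τ, hτ, e⟩ := hv
    have e' : nil v = nil (y * τ * y⁻¹) - nil τ := by rw [e, (hW hy hY hτ).1, add_sub_cancel_left]
    rw [e', sandwich_sub, red_xsx hk2 hk3 hno hu.1 (hUred u hu) (minimal_conj hy.1 hτ),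
      red_xsx hk2 hk3 hno hu.1 (hUred u hu) hτ, sub_zero]
  set W : Set (Subgroup GLM) := {L | ∃ u ∈ U, L = Subgroup.closure (scalarFamily u)} with hWdef
  have hWle : ∀ L ∈ W, L ≤ G := by
    rintro L ⟨u, hu, rfl⟩
    exact (Subgroup.closure_le _).2 hu.1.2.2
  have hWW : ∀ L ∈ W, ∀ L' ∈ W, IsUnipotentOn (L ⊔ L') := by
    rintro L ⟨u, hu, rfl⟩ L' ⟨v, hv, rfl⟩
    rw [← Subgroup.closure_union]
    exact Gamma.unipotent_of_zero hu.1 hv.1 (hUU u hu v hv) (hUU v hv u hu)
  have hUconj : ∀ g ∈ G, ∀ u ∈ U, g * u * g⁻¹ ∈ U := by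
    rintro g hg u ⟨hu, y, hy, hY, τ, hτ, e⟩
    refine ⟨quadratic_conj hg hu, _, quadratic_conj hg hy, by rw [nil_conj]; exact red_conj hg hY,
      _, minimal_conj hg hτ, ?_⟩
    have cm : ∀ a b : EndM, ((g : EndM) * a * ((g⁻¹ : GLM) : EndM)) * ((g : EndM) * b * ((g⁻¹ : GLM) : EndM)) =
        (g : EndM) * (a * b) * ((g⁻¹ : GLM) : EndM) := fun a b => by
      calc _ = (g : EndM) * a * (((g⁻¹ : GLM) : EndM) * (g : EndM)) * b * ((g⁻¹ : GLM) : EndM) := by
            simp only [mul_assoc]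
        _ = _ := by rw [g.inv_mul, mul_one]; simp only [mul_assoc]
    rw [nil_conj, nil_conj, nil_conj, cm, cm, e, mul_sub, sub_mul]
  have hWconj : ∀ g ∈ G, ∀ L ∈ W, conjBy L g ∈ W := by
    rintro g hg L ⟨u, hu, rfl⟩
    refine ⟨_, hUconj g hg u hu, ?_⟩
    rw [conjBy, MonoidHom.map_closure]
    congr 1
    refine Set.Subset.antisymm ?_ fun z hz => ?_
    · rintro _ ⟨w, hw, rfl⟩
      obtain ⟨c, hc⟩ := mem_scalarFamily.1 hw
      refine mem_scalarFamily.2 ⟨c, ?_⟩
      show nil (g * w * g⁻¹) = _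
      rw [nil_conj, nil_conj, hc, mul_smul_comm, smul_mul_assoc]
    · obtain ⟨c, hc⟩ := mem_scalarFamily.1 hz
      refine ⟨g⁻¹ * z * g, mem_scalarFamily.2 ⟨c, ?_⟩, by simp [MulAut.conj_apply, mul_assoc]⟩
      have h := nil_conj g⁻¹ z
      rw [inv_inv] at h
      rw [h, hc, nil_conj, mul_smul_comm, smul_mul_assoc]
      congr 1
      rw [← mul_assoc, ← mul_assoc, g.inv_mul, one_mul, mul_assoc, g.inv_mul, mul_one]
  have hU := Unipotent.iSup_unipotent hWW (fun L hL L' hL' b hb => hWconj b (hWle L' hL' hb) L hL)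
  have htriv : ∀ u ∈ U, u = 1 := by
    intro u hu
    have h := hno _ (iSup₂_le hWle) hU (fun g hg z hz => by
      have h1 : (⨆ L ∈ W, L) ≤ (⨆ L ∈ W, L).comap (MulAut.conj g).toMonoidHom :=
        iSup₂_le fun L hL p hp => Restrict.le_iSup_mem (Λ := W) (hWconj g hg L hL) (conj_mem_conjBy hp)
      exact h1 hz)
    have hu' : u ∈ (⨆ L ∈ W, L) := Restrict.le_iSup_mem (Λ := W) ⟨u, hu, rfl⟩
      (Subgroup.subset_closure (mem_scalarFamily.2 ⟨1, (one_smul k _).symm⟩))
    exact Subgroup.mem_bot.1 (h ▸ hu')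
  by_contra hne
  obtain ⟨hXX, -, hXG⟩ := mem_quadratic.1 hx
  obtain ⟨hSS, -, -⟩ := mem_quadratic.1 hσ.1
  set u := x * σ * x⁻¹ * σ⁻¹
  have hnu : nil u = nil x * nil σ - nil σ * nil x := by
    have h1 : nil σ * nil x * nil σ = 0 := hX σ hσ
    rw [nil_mul, nil_inv hSS, (hW hx hX hσ).1]
    generalize nil x = X at *
    generalize nil σ = S at *
    simp only [add_mul, sub_mul, mul_neg, mul_assoc X S S, hSS, h1, mul_zero, sub_zero, add_zero, neg_zero, zero_add]
    abel
  have hu2 : nil u * nil u = 0 := by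
    have h1 : nil σ * nil x * nil σ = 0 := hX σ hσ
    have h2 := red_xsx hk2 hk3 hno hx hX hσ
    rw [hnu]
    generalize nil x = X at *
    generalize nil σ = S at *
    rw [sub_mul, mul_sub, mul_sub, ← mul_assoc, h2, zero_mul, mul_assoc X S (S * X), ← mul_assoc S S,
      hSS, zero_mul, mul_zero, ← mul_assoc (S * X), mul_assoc S X X, hXX, mul_zero, zero_mul,
      ← mul_assoc, h1, zero_mul]
    simp
  have hu : u ∈ U := by
    refine ⟨mem_quadratic.2 ⟨hu2, fun h => hne ?_, fun c => ?_⟩, x, hx, hX, σ, hσ, hnu⟩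
    · exact mul_inv_eq_iff_eq_mul.1 (mul_inv_eq_one.1 (nil_eq_zero.1 h))
    · have hxc : unit (c • nil x) (smul_sq hXX c) ∈ G := hXG c
      have e : unit (c • nil u) (smul_sq hu2 c) =
          unit (c • nil x) (smul_sq hXX c) * σ * (unit (c • nil x) (smul_sq hXX c))⁻¹ * σ⁻¹ := by
        refine nil_inj ?_
        rw [nil_unit, hnu, nil_mul, nil_inv hSS, nil_conj_quadratic (by rw [nil_unit]; exact smul_sq hXX c),
          nil_unit]
        have h1 : nil σ * nil x * nil σ = 0 := hX σ hσ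
        have h2 := red_xsx hk2 hk3 hno hx hX hσ
        generalize nil x = X at *
        generalize nil σ = S at *
        have z4 : S * (X * S) = 0 := by rw [← mul_assoc, h1]
        have z5 : X * (S * X) = 0 := by rw [← mul_assoc, h2]
        simp only [mul_add, add_mul, mul_sub, sub_mul, mul_neg, neg_mul, mul_one, one_mul, smul_mul_assoc,
          mul_smul_comm, mul_assoc, hSS, hXX, z4, z5, mul_zero, zero_mul, smul_zero, neg_zero,
          smul_add, smul_sub, add_zero, zero_add, sub_zero]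
        abel
      rw [e]
      exact mul_mem (mul_mem (mul_mem hxc hσ.1.1) (inv_mem hxc)) (inv_mem hσ.1.1)
  exact (mem_quadratic.1 hu.1).2.1 (nil_eq_zero.2 (htriv u hu))

end Cfsg.Agent.RootSubgroups.Cls
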