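import Cfsg.Agent.Lib.RootSubgroups.Basic

/-!
Elementary theory of sets of abstract root subgroups: the trichotomy, trivial intersections,
the lines `A⁅A, B⁆`, and the configuration attached to a rank one pair and a line through it.
-/

set_option autoImplicit false
set_option linter.unusedSectionVars false
set_option linter.unusedVariables false
open Cfsg

namespace Cfsg.Agent.RootSubgroups

variable {G : Type*} [Group G] {A A' B C D E : Subgroup G} {S : Set (Subgroup G)}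

/-- If a conjugate of `A` by `b ∈ B` centralizes `A`, then `b = 1`. -/
theorem eq_one_of_conj_commute (h : IsRankOnePair A B) (hA : IsMulCommutative A) {b : G}
    (hb : b ∈ B) (hc : ∀ a ∈ A, ∀ a' ∈ A, (b * a * b⁻¹) * a' = a' * (b * a * b⁻¹)) : b = 1 := by
  obtain ⟨a', ha', ha'1⟩ := exists_ne_one h
  have hfix : conjBy (conjBy A b) a' = conjBy A b := by
    apply conjBy_of_commute
    rintro _ ⟨a, ha, rfl⟩
    exact (hc a ha a' ha').symm
  have := eq_of_fixed h (conjBy_mem_unipotent (left_mem A B) (Subgroup.mem_sup_right hb))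
    ha' ha'1 hfix hA
  exact eq_one_of_normalizes (pair_symm h) hb this

theorem comm_of_pair_bot (h : ⁅A, B⁆ = ⊥) : ¬ IsRankOnePair A B := by
  intro hp
  obtain ⟨a, ha, ha1⟩ := exists_ne_one hp
  exact ha1 (eq_one_of_centralizes hp ha fun b hb => commute_of_commutator_eq_bot h ha hb)

theorem bot_symm (h : ⁅A, B⁆ = ⊥) : ⁅B, A⁆ = ⊥ := by rwa [Subgroup.commutator_comm]

theorem le_normalizer_sup (A B : Subgroup G) :
    A ⊔ B ≤ Subgroup.normalizer ((⁅A, B⁆ : Subgroup G) : Set G) := by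
  refine sup_le (Subgroup.normalizer_commutator_ge_left _ _) (Subgroup.normalizer_commutator_ge_right _ _)

theorem commutator_le_sup (A B : Subgroup G) : ⁅A, B⁆ ≤ A ⊔ B := by
  rw [Subgroup.commutator_le]
  intro a ha b hb
  have ha := Subgroup.mem_sup_left (T := B) ha
  have hb := Subgroup.mem_sup_right (S := A) hb
  exact mul_mem (mul_mem (mul_mem ha hb) (inv_mem ha)) (inv_mem hb)

theorem commutator_mem {a b : G} (ha : a ∈ A) (hb : b ∈ B) : a * b * a⁻¹ * b⁻¹ ∈ ⁅A, B⁆ :=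
  Subgroup.commutator_mem_commutator ha hb

theorem closure_image_inv {X : Set G} {f g : G → G} (hfg : ∀ x ∈ X, g x = (f x)⁻¹) :
    Subgroup.closure (g '' X) = Subgroup.closure (f '' X) := by
  apply le_antisymm <;> rw [Subgroup.closure_le] <;> rintro _ ⟨x, hx, rfl⟩
  · rw [hfg x hx]
    exact inv_mem (Subgroup.subset_closure (Set.mem_image_of_mem f hx))
  · rw [← inv_inv (f x), ← hfg x hx]
    exact inv_mem (Subgroup.subset_closure (Set.mem_image_of_mem g hx))

theorem cc_symm (h : RootCommutatorCase S A B) : RootCommutatorCase S B A := by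
  obtain ⟨h1, h2, h3, h4⟩ := h
  rw [RootCommutatorCase, Subgroup.commutator_comm B A, sup_comm B A]
  refine ⟨h1, h2, fun b hb hb1 => ?_, fun a ha ha1 => ?_⟩
  · rw [← h4 b hb hb1]; exact closure_image_inv fun y _ => by group
  · rw [← h3 a ha ha1]; exact closure_image_inv fun y _ => by group

theorem cc_central (h : RootCommutatorCase S A B) {c x : G} (hc : c ∈ ⁅A, B⁆)
    (hx : x ∈ A ⊔ B) : c * x = x * c := h.2.1 c hc x hx

theorem cc_commutes_left (h : RootCommutatorCase S A B) : ⁅⁅A, B⁆, A⁆ = ⊥ :=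
  commutator_eq_bot_of_commute fun _ hc _ ha => cc_central h hc (Subgroup.mem_sup_left ha)

theorem cc_commutes_right (h : RootCommutatorCase S A B) : ⁅⁅A, B⁆, B⁆ = ⊥ :=
  commutator_eq_bot_of_commute fun _ hc _ hb => cc_central h hc (Subgroup.mem_sup_right hb)

/-- Every element of `⁅A, B⁆` is a commutator with a given non-identity element of `A`. -/
theorem cc_exists_comm (h : RootCommutatorCase S A B) {a c : G} (ha : a ∈ A) (ha1 : a ≠ 1)
    (hc : c ∈ ⁅A, B⁆) : ∃ b ∈ B, a * b * a⁻¹ * b⁻¹ = c := by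
  rw [← h.2.2.1 a ha ha1] at hc
  induction hc using Subgroup.closure_induction with
  | mem x hx => obtain ⟨b, hb, rfl⟩ := hx; exact ⟨b, hb, rfl⟩
  | one => exact ⟨1, one_mem _, by group⟩
  | mul x y _ _ ihx ihy =>
    obtain ⟨b, hb, rfl⟩ := ihx
    obtain ⟨b', hb', rfl⟩ := ihy
    refine ⟨b * b', mul_mem hb hb', ?_⟩
    have hc := cc_central h (commutator_mem ha hb') (Subgroup.mem_sup_right hb)
    calc a * (b * b') * a⁻¹ * (b * b')⁻¹
        = (a * b * a⁻¹) * ((a * b' * a⁻¹ * b'⁻¹) * b⁻¹) := by group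
      _ = (a * b * a⁻¹) * (b⁻¹ * (a * b' * a⁻¹ * b'⁻¹)) := by
          rw [cc_central h (commutator_mem ha hb') (Subgroup.mem_sup_right (inv_mem hb))]
      _ = (a * b * a⁻¹ * b⁻¹) * (a * b' * a⁻¹ * b'⁻¹) := by group
  | inv x _ ih =>
    obtain ⟨b, hb, rfl⟩ := ih
    refine ⟨b⁻¹, inv_mem hb, ?_⟩
    have hc := cc_central h (inv_mem (commutator_mem ha hb)) (Subgroup.mem_sup_right (inv_mem hb))
    calc a * b⁻¹ * a⁻¹ * b⁻¹⁻¹ = b⁻¹ * (a * b * a⁻¹ * b⁻¹)⁻¹ * b := by group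
      _ = (a * b * a⁻¹ * b⁻¹)⁻¹ := by rw [← hc]; group

theorem cc_exists_comm' (h : RootCommutatorCase S A B) {b c : G} (hb : b ∈ B) (hb1 : b ≠ 1)
    (hc : c ∈ ⁅A, B⁆) : ∃ a ∈ A, a * b * a⁻¹ * b⁻¹ = c := by
  obtain ⟨a, ha, he⟩ := cc_exists_comm (cc_symm h) hb hb1
    (c := c⁻¹) (by rw [Subgroup.commutator_comm]; exact inv_mem hc)
  exact ⟨a, ha, by rw [← inv_inj, ← he]; group⟩

section
variable (hS : IsRootSubgroupSet S)
include hS

theorem cc_not_commute (h : RootCommutatorCase S A B) {a : G} (ha : a ∈ A) (ha1 : a ≠ 1) :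
    ∃ b ∈ B, a * b * a⁻¹ * b⁻¹ ≠ 1 := by
  obtain ⟨c, hc, hc1⟩ := (⁅A, B⁆ : Subgroup G).bot_or_exists_ne_one.resolve_left
    (hS.ne_bot _ h.1)
  obtain ⟨b, hb, rfl⟩ := cc_exists_comm h ha ha1 hc
  exact ⟨b, hb, hc1⟩

theorem cc_not_bot (h : RootCommutatorCase S A B) : ⁅A, B⁆ ≠ ⊥ := hS.ne_bot _ h.1

theorem exists_mem_ne_one (hA : A ∈ S) : ∃ a ∈ A, a ≠ 1 :=
  A.bot_or_exists_ne_one.resolve_left (hS.ne_bot _ hA)

theorem comm (hA : A ∈ S) {a a' : G} (ha : a ∈ A) (ha' : a' ∈ A) : a * a' = a' * a :=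
  comm_of_comm (hS.commutative _ hA) ha ha'

/-- One non-identity element centralizing a member forces elementwise commutation. -/
theorem commute_of_elem (hA : A ∈ S) (hB : B ∈ S) {a : G} (ha : a ∈ A) (ha1 : a ≠ 1)
    (hc : ∀ b ∈ B, a * b = b * a) : ⁅A, B⁆ = ⊥ := by
  rcases hS.pair A hA B hB with h | h | h
  · exact h
  · exact absurd (eq_one_of_centralizes h ha hc) ha1
  · obtain ⟨b, hb, hne⟩ := cc_not_commute hS h ha ha1
    exact absurd (by rw [hc b hb]; group) hne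

theorem commute_of_elem_right (hA : A ∈ S) (hB : B ∈ S) {b : G} (hb : b ∈ B) (hb1 : b ≠ 1)
    (hc : ∀ a ∈ A, b * a = a * b) : ⁅A, B⁆ = ⊥ :=
  bot_symm (commute_of_elem hS hB hA hb hb1 hc)

theorem not_pair_of_cc (hA : A ∈ S) (h : ⁅A, B⁆ ∈ S) : ¬ IsRankOnePair A B := by
  intro hp
  have hAc := hS.commutative _ hA
  obtain ⟨b, hb, hb1⟩ := exists_ne_one (pair_symm hp)
  apply hb1
  apply eq_one_of_conj_commute hp hAc hb
  suffices hsuf : ∀ c ∈ ⁅A, B⁆, ∀ a ∈ A, c * a = a * c by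
    intro a ha a' ha'
    have h1 : b * a * b⁻¹ * a⁻¹ ∈ ⁅A, B⁆ := Subgroup.commutator_comm A B ▸ commutator_mem hb ha
    calc b * a * b⁻¹ * a' = (b * a * b⁻¹ * a⁻¹) * (a * a') := by group
      _ = a * a' * (b * a * b⁻¹ * a⁻¹) := hsuf _ h1 _ (mul_mem ha ha')
      _ = a' * a * (b * a * b⁻¹ * a⁻¹) := by rw [comm hS hA ha ha']
      _ = a' * ((b * a * b⁻¹ * a⁻¹) * a) := by rw [mul_assoc, hsuf _ h1 _ ha]
      _ = a' * (b * a * b⁻¹) := by group
  rcases normal_dichotomy hp (commutator_le_sup A B) (le_normalizer_sup A B) with hN | hN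
  · rcases hS.pair _ h A hA with h1 | h1 | h1
    · exact fun c hc a ha => commute_of_commutator_eq_bot h1 hc ha
    · obtain ⟨a, ha, ha1⟩ := exists_ne_one (pair_symm h1)
      exact absurd (eq_one_of_normalizes (pair_symm h1) ha
        (conjBy_of_mem_normalizer ((Subgroup.normalizer_commutator_ge_left _ _) ha))) ha1
    · intro c hc a ha
      exfalso
      apply hb1
      refine eq_one_of_conj_commute hp hAc hb ?_
      intro a₁ ha₁ a₂ ha₂
      have hM : ∀ m ∈ ⁅⁅A, B⁆, A⁆, ∀ x ∈ A ⊔ B, m * x = x * m := fun m hm x hx =>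
        cc_central h1 hm (by rw [hN]; exact hx)
      have hm : b * a₁ * b⁻¹ * a₁⁻¹ ∈ ⁅⁅A, B⁆, A⁆ := by
        have hK : A ⊔ B ≤ Subgroup.centralizer ((⁅⁅A, B⁆, A⁆ : Subgroup G) : Set G) :=
          fun x hx => Subgroup.mem_centralizer_iff.2 fun m hm => hM m hm x hx
        -- the elements whose commutators with `A` lie in the central subgroup
        let T : Subgroup G :=
          { carrier := {x | x ∈ A ⊔ B ∧ ∀ u ∈ A, x * u * x⁻¹ * u⁻¹ ∈ ⁅⁅A, B⁆, A⁆}
            one_mem' := ⟨one_mem _, fun u _ => by simp⟩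
            mul_mem' := by
              rintro x y ⟨hx, hx'⟩ ⟨hy, hy'⟩
              refine ⟨mul_mem hx hy, fun u hu => ?_⟩
              have e : x * y * u * (x * y)⁻¹ * u⁻¹ =
                  x * (y * u * y⁻¹ * u⁻¹) * x⁻¹ * (x * u * x⁻¹ * u⁻¹) := by group
              rw [e, ← hM _ (hy' u hu) x hx, mul_inv_cancel_right]
              exact mul_mem (hy' u hu) (hx' u hu)
            inv_mem' := by
              rintro x ⟨hx, hx'⟩
              refine ⟨inv_mem hx, fun u hu => ?_⟩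
              have e : x⁻¹ * u * x⁻¹⁻¹ * u⁻¹ = x⁻¹ * (x * u * x⁻¹ * u⁻¹)⁻¹ * x := by group
              rw [e, ← hM _ (inv_mem (hx' u hu)) x⁻¹ (inv_mem hx), inv_mul_cancel_right]
              exact inv_mem (hx' u hu) }
        have hT : ⁅A, B⁆ ⊔ A ≤ T := by
          refine sup_le (fun l hl => ⟨commutator_le_sup A B hl, fun u hu => commutator_mem hl hu⟩)
            (fun x hx => ⟨Subgroup.mem_sup_left hx, fun u hu => ?_⟩)
          rw [comm hS hA hx hu]
          simp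
        exact ((hT (by rw [hN]; exact Subgroup.mem_sup_right hb)).2 a₁ ha₁)
      calc b * a₁ * b⁻¹ * a₂ = (b * a₁ * b⁻¹ * a₁⁻¹) * (a₁ * a₂) := by group
        _ = a₁ * a₂ * (b * a₁ * b⁻¹ * a₁⁻¹) :=
            hM _ hm _ (Subgroup.mem_sup_left (mul_mem ha₁ ha₂))
        _ = a₂ * a₁ * (b * a₁ * b⁻¹ * a₁⁻¹) := by rw [comm hS hA ha₁ ha₂]
        _ = a₂ * ((b * a₁ * b⁻¹ * a₁⁻¹) * a₁) := by
            rw [mul_assoc, hM _ hm _ (Subgroup.mem_sup_left ha₁)]
        _ = a₂ * (b * a₁ * b⁻¹) := by group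
  · exact fun c hc a ha => hN c hc a (Subgroup.mem_sup_left ha)

theorem cc_of_mem (hA : A ∈ S) (hB : B ∈ S) (h : ⁅A, B⁆ ∈ S) : RootCommutatorCase S A B := by
  rcases hS.pair A hA B hB with h1 | h1 | h1
  · exact absurd h1 (hS.ne_bot _ h)
  · exact absurd h1 (not_pair_of_cc hS hA h)
  · exact h1

theorem not_pair_of_cc' (hA : A ∈ S) (h : RootCommutatorCase S A B) : ¬ IsRankOnePair A B :=
  not_pair_of_cc hS hA h.1

/-- If `z ≠ 1` centralizes a rank one pair `A, B` then `z A#` contains no root element. -/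
theorem za_not_root (hA : A ∈ S) (hB : B ∈ S) (hp : IsRankOnePair A B) {z : G}
    (hzA : ∀ a ∈ A, z * a = a * z) (hzB : ∀ b ∈ B, z * b = b * z) (hz1 : z ≠ 1)
    {a : G} (ha : a ∈ A) (ha1 : a ≠ 1) : z * a ∉ rootElements S := by
  rintro ⟨he1, E, hE, he⟩
  have heA : ∀ x ∈ A, z * a * x = x * (z * a) := by
    intro x hx
    rw [mul_assoc, comm hS hA ha hx, ← mul_assoc, hzA x hx, mul_assoc]
  have hEA := commute_of_elem hS hE hA he he1 heA
  have hconj : ∀ b ∈ B, z * a * b * (z * a)⁻¹ = a * b * a⁻¹ := by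
    intro b hb
    have hcomm : z * (a * b * a⁻¹) = (a * b * a⁻¹) * z := by
      rw [← mul_assoc, ← mul_assoc, hzA a ha, mul_assoc a z b, hzB b hb, ← mul_assoc,
        mul_assoc (a * b) z, hzA _ (inv_mem ha), ← mul_assoc]
    calc z * a * b * (z * a)⁻¹ = z * (a * b * a⁻¹) * z⁻¹ := by group
      _ = _ := by rw [hcomm, mul_inv_cancel_right]
  rcases hS.pair E hE B hB with h | h | h
  · refine ha1 (eq_one_of_normalizes hp ha (conjBy_of_commute fun b hb => ?_))
    have h1 := hconj b hb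
    rw [commute_of_commutator_eq_bot h he hb, mul_inv_cancel_right] at h1
    exact (eq_mul_inv_iff_mul_eq.1 h1).symm
  · obtain ⟨b', hb', -, hb'eq⟩ := h.cond_left _ he he1
    obtain ⟨b, hb, -, hbeq⟩ := hp.cond_left a ha ha1
    have hBe : conjBy B (z * a)⁻¹ = conjBy B a⁻¹ := by
      rw [mul_inv_rev, ← conjBy_conjBy, (conjBy_eq_iff.1 (conjBy_of_commute hzB)).symm]
    rw [hBe, ← hbeq, conjBy_eq_iff, inv_inv, conjBy_conjBy] at hb'eq
    have hEmem : E ∈ unipotentSubgroups A B :=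
      ⟨b' * b⁻¹, Subgroup.mem_sup_right (mul_mem hb' (inv_mem hb)), hb'eq⟩
    have hEA' := eq_of_fixed hp hEmem ha ha1
      (conjBy_of_commute fun x hx => (commute_of_commutator_eq_bot hEA hx ha).symm)
      (hS.commutative _ hA)
    subst hEA'
    have hzE : z ∈ E := by simpa using mul_mem he (inv_mem ha)
    exact hz1 (eq_one_of_centralizes hp hzE hzB)
  · apply ha1
    refine eq_one_of_conj_commute (pair_symm hp) (hS.commutative _ hB) ha ?_
    intro b hb b' hb'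
    have h1 : a * b * a⁻¹ * b⁻¹ ∈ ⁅E, B⁆ := by
      rw [← hconj b hb]; exact commutator_mem he hb
    calc a * b * a⁻¹ * b' = (a * b * a⁻¹ * b⁻¹) * (b * b') := by group
      _ = b * b' * (a * b * a⁻¹ * b⁻¹) :=
          cc_central h h1 (Subgroup.mem_sup_right (mul_mem hb hb'))
      _ = b' * b * (a * b * a⁻¹ * b⁻¹) := by rw [comm hS hB hb hb']
      _ = b' * ((a * b * a⁻¹ * b⁻¹) * b) := by
          rw [mul_assoc, cc_central h h1 (Subgroup.mem_sup_right hb)]
      _ = b' * (a * b * a⁻¹) := by group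

/-- A member with a partner meets every other member trivially. -/
theorem eq_of_inter (hA : A ∈ S) (hA' : A' ∈ S) (hp : IsRankOnePair A A') (hB : B ∈ S)
    {c : G} (hcA : c ∈ A) (hcB : c ∈ B) (hc1 : c ≠ 1) : A = B := by
  have hAB : ⁅A, B⁆ = ⊥ := commute_of_elem hS hA hB hcA hc1 fun b hb => comm hS hB hcB hb
  rcases hS.pair B hB A' hA' with h | h | h
  · exact absurd (eq_one_of_centralizes hp hcA
      fun x hx => commute_of_commutator_eq_bot h hcB hx) hc1
  · obtain ⟨b, hb, -, hbeq⟩ := hp.cond_left c hcA hc1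
    obtain ⟨b', hb', -, hb'eq⟩ := h.cond_left c hcB hc1
    rw [← hbeq, conjBy_eq_iff, inv_inv, conjBy_conjBy] at hb'eq
    have hBmem : B ∈ unipotentSubgroups A A' :=
      ⟨b' * b⁻¹, Subgroup.mem_sup_right (mul_mem hb' (inv_mem hb)), hb'eq⟩
    exact (eq_of_fixed hp hBmem hcA hc1
      (conjBy_of_commute fun x hx => comm hS hB hcB hx) (hS.commutative _ hA)).symm
  · exfalso; apply hc1
    refine eq_one_of_conj_commute (pair_symm hp) (hS.commutative _ hA') hcA ?_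
    intro x hx x' hx'
    have h1 := commutator_mem hcB hx
    calc c * x * c⁻¹ * x' = (c * x * c⁻¹ * x⁻¹) * (x * x') := by group
      _ = x * x' * (c * x * c⁻¹ * x⁻¹) :=
          cc_central h h1 (Subgroup.mem_sup_right (mul_mem hx hx'))
      _ = x' * x * (c * x * c⁻¹ * x⁻¹) := by rw [comm hS hA' hx hx']
      _ = x' * ((c * x * c⁻¹ * x⁻¹) * x) := by
          rw [mul_assoc, cc_central h h1 (Subgroup.mem_sup_right hx)]
      _ = x' * (c * x * c⁻¹) := by group

/-- A member inside a rank one subgroup, with a non-commuting member there, is a unipotent subgroup. -/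
theorem mem_unipotent_of_le (hA : A ∈ S) (hC : C ∈ S) (hD : D ∈ S) (hp : IsRankOnePair C D)
    (hle : A ≤ C ⊔ D) (hnc : ∃ b ∈ C ⊔ D, ∃ a ∈ A, a * b ≠ b * a) :
    A ∈ unipotentSubgroups C D := by
  by_contra hnot
  apply absurd hnc
  push Not
  intro b hb a ha
  by_cases ha1 : a = 1
  · simp [ha1]
  have key : ∀ P ∈ unipotentSubgroups C D, ⁅A, P⁆ = ⊥ := by
    intro P hP
    obtain ⟨y, hy, rfl⟩ := hP
    have hPS : conjBy C y ∈ S := hS.conj_mem C hC y
    rcases hS.pair A hA _ hPS with h | h | h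
    · exact h
    · obtain ⟨x, hx, hxe⟩ := exists_conj_right (pair_symm h)
      refine absurd ⟨x * y, ?_, ?_⟩ hnot
      · exact mul_mem ((sup_le (conjBy_le le_sup_left hy) hle) hx) hy
      · rw [← conjBy_conjBy, hxe]
    · exfalso
      let P := conjBy C y
      have hPmem : P ∈ unipotentSubgroups C D := ⟨y, hy, rfl⟩
      obtain ⟨Q, hQ, hQne⟩ : ∃ Q ∈ unipotentSubgroups C D, P ≠ Q := by
        obtain ⟨C₁, h1, C₂, h2, -, -, h12, -, -⟩ := exists_three hp
        by_cases hP1 : P = C₁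
        · exact ⟨C₂, h2, hP1 ▸ h12⟩
        · exact ⟨C₁, h1, hP1⟩
      obtain ⟨hPQ, hPQsup⟩ := pair_of_mem hp hPmem hQ hQne
      have hQS : Q ∈ S := by obtain ⟨z, -, rfl⟩ := hQ; exact hS.conj_mem C hC z
      have hnorm : ∀ x ∈ A, conjBy P x = P := by
        intro x hx
        obtain ⟨p, hp', hp1⟩ := exists_ne_one hPQ
        have hmem : conjBy P x ∈ unipotentSubgroups P Q :=
          conjBy_mem_unipotent (left_mem P Q) (by rw [hPQsup]; exact hle hx)
        refine eq_of_fixed hPQ hmem hp' hp1 ?_ (hS.commutative _ hPS)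
        apply conjBy_of_commute
        rintro _ ⟨e, he, rfl⟩
        have h1 := commutator_mem hx he
        change p * (x * e * x⁻¹) = x * e * x⁻¹ * p
        calc p * (x * e * x⁻¹) = p * ((x * e * x⁻¹ * e⁻¹) * e) := by group
          _ = (x * e * x⁻¹ * e⁻¹) * (p * e) := by
              rw [← mul_assoc, ← cc_central h h1 (Subgroup.mem_sup_right hp'), mul_assoc]
          _ = (x * e * x⁻¹ * e⁻¹) * (e * p) := by rw [comm hS hPS hp' he]
          _ = x * e * x⁻¹ * p := by group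
      have hle' : ⁅A, P⁆ ≤ P := by
        rw [Subgroup.commutator_le]
        intro x hx e he
        exact mul_mem (hnorm x hx ▸ conj_mem_conjBy he) (inv_mem he)
      obtain ⟨l, hl, hl1⟩ := exists_mem_ne_one hS h.1
      have heq := eq_of_inter hS hPS hQS hPQ h.1 (hle' hl) hl hl1
      apply cc_not_bot hS h
      refine commutator_eq_bot_of_commute fun x hx e he => ?_
      exact (cc_central h (show e ∈ ⁅A, P⁆ from heq ▸ he) (Subgroup.mem_sup_left hx)).symm
  refine Subgroup.mem_centralizer_iff.1 ((sup_le ?_ ?_ : C ⊔ D ≤ Subgroup.centralizer {a}) hb) a rfl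
  · intro c hc
    refine Subgroup.mem_centralizer_iff.2 fun g hg => ?_
    rw [Set.mem_singleton_iff.1 hg]
    exact commute_of_commutator_eq_bot (key C (left_mem C D)) ha hc
  · intro c hc
    refine Subgroup.mem_centralizer_iff.2 fun g hg => ?_
    rw [Set.mem_singleton_iff.1 hg]
    exact commute_of_commutator_eq_bot (key D (right_mem hp)) ha hc

/-! ### Lines `A⁅A, B⁆` -/

variable (hA : A ∈ S) (hA' : A' ∈ S) (hp : IsRankOnePair A A')
include hA hA' hp

theorem line_inj (hB : B ∈ S) (hC : ⁅A, B⁆ ∈ S) {a b : G} (ha : a ∈ A) (ha1 : a ≠ 1)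
    (hb : b ∈ B) (hab : a * b = b * a) : b = 1 := by
  by_contra hb1
  have hcc := cc_of_mem hS hA hB hC
  have hfix : conjBy A b = A := by
    have h1 : a ∈ conjBy A b := by
      rw [mem_conjBy, mul_assoc, hab, inv_mul_cancel_left]; exact ha
    exact (eq_of_inter hS hA hA' hp (hS.conj_mem A hA b) ha h1 ha1).symm
  obtain ⟨c, hc, hc1⟩ := exists_mem_ne_one hS hC
  obtain ⟨x, hx, rfl⟩ := cc_exists_comm' hcc hb hb1 hc
  have h2 : x * b * x⁻¹ * b⁻¹ ∈ A := by
    rw [show x * b * x⁻¹ * b⁻¹ = x * (b * x⁻¹ * b⁻¹) by group]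
    exact mul_mem hx (hfix ▸ conj_mem_conjBy (inv_mem hx))
  have heq := eq_of_inter hS hA hA' hp hC h2 (commutator_mem hx hb) hc1
  apply cc_not_bot hS hcc
  exact commutator_eq_bot_of_commute fun u hu v hv =>
    cc_central hcc (show u ∈ ⁅A, B⁆ from heq ▸ hu) (Subgroup.mem_sup_right hv)

theorem line_le (hB : B ∈ S) (hC : ⁅A, B⁆ ∈ S) {b : G} (hb : b ∈ B) :
    conjBy A b ≤ A ⊔ ⁅A, B⁆ := by
  rintro _ ⟨a, ha, rfl⟩
  change b * a * b⁻¹ ∈ _
  rw [show b * a * b⁻¹ = (b * a * b⁻¹ * a⁻¹) * a by group]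
  exact mul_mem (Subgroup.mem_sup_right (Subgroup.commutator_comm A B ▸ commutator_mem hb ha))
    (Subgroup.mem_sup_left ha)

theorem line_ne (hB : B ∈ S) (hC : ⁅A, B⁆ ∈ S) {b : G} (hb : b ∈ B) :
    conjBy A b ≠ ⁅A, B⁆ := by
  intro e
  have hcc := cc_of_mem hS hA hB hC
  have h1 : A = ⁅A, B⁆ := by
    rw [conjBy_eq_iff] at e
    exact e.trans (conjBy_of_commute fun c hc =>
      (cc_central hcc hc (Subgroup.mem_sup_right (inv_mem hb))).symm)
  apply cc_not_bot hS hcc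
  exact commutator_eq_bot_of_commute fun u hu v hv =>
    cc_central hcc (show u ∈ ⁅A, B⁆ from h1 ▸ hu) (Subgroup.mem_sup_right hv)

theorem line_cover (hB : B ∈ S) (hC : ⁅A, B⁆ ∈ S) {x : G} (hx : x ∈ A ⊔ ⁅A, B⁆) :
    x ∈ ⁅A, B⁆ ∨ ∃ b ∈ B, x ∈ conjBy A b := by
  have hcc := cc_of_mem hS hA hB hC
  have hn : A ≤ Subgroup.normalizer ((⁅A, B⁆ : Subgroup G) : Set G) :=
    Subgroup.normalizer_commutator_ge_left _ _
  rw [← SetLike.mem_coe, Subgroup.coe_mul_of_left_le_normalizer_right _ _ hn, Set.mem_mul] at hx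
  obtain ⟨a, ha, c, hc, rfl⟩ := hx
  by_cases ha1 : a = 1
  · exact Or.inl (by simpa [ha1] using hc)
  obtain ⟨b, hb, he⟩ := cc_exists_comm hcc ha ha1 (inv_mem hc)
  refine Or.inr ⟨b, hb, ?_⟩
  have : c = b * a * b⁻¹ * a⁻¹ := by rw [← inv_inj, ← he]; group
  have h2 : a * c = b * a * b⁻¹ := by
    rw [← cc_central hcc hc (Subgroup.mem_sup_left ha), this]; group
  exact h2 ▸ conj_mem_conjBy ha

theorem line_le_member (hB : B ∈ S) (hC : ⁅A, B⁆ ∈ S) (hE : E ∈ S) (hEC : E ≤ ⁅A, B⁆) :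
    E = ⁅A, B⁆ := by
  have hcc := cc_of_mem hS hA hB hC
  obtain ⟨e, he, he1⟩ := exists_mem_ne_one hS hE
  have hAC : ∀ c ∈ ⁅A, B⁆, ∀ x ∈ A, c * x = x * c :=
    fun c hc x hx => cc_central hcc hc (Subgroup.mem_sup_left hx)
  have hnot : ∀ c ∈ ⁅A, B⁆, c ≠ 1 → ¬ ∀ x ∈ A', c * x = x * c := by
    intro c hc hc1 hcom
    obtain ⟨a, ha, ha1⟩ := exists_ne_one hp
    refine za_not_root hS hA hA' hp (hAC c hc) hcom hc1 ha ha1 ?_
    obtain ⟨b, hb, heq⟩ := cc_exists_comm hcc ha ha1 (inv_mem hc)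
    have hca : c * a = b * a * b⁻¹ := by rw [← inv_inv c, ← heq]; group
    rw [hca]
    exact ⟨fun h1 => ha1 (by simpa using h1), conjBy A b, hS.conj_mem A hA b, conj_mem_conjBy ha⟩
  rcases hS.pair _ hC A' hA' with h | h | h
  · exact absurd (fun x hx => commute_of_commutator_eq_bot h (hEC he) hx) (hnot e (hEC he) he1)
  · exact (eq_of_inter hS hC hA' h hE (hEC he) he he1).symm
  · have hEcc : RootCommutatorCase S E A' := by
      rcases hS.pair E hE A' hA' with h1 | h1 | h1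
      · exact absurd (fun x hx => commute_of_commutator_eq_bot h1 he hx) (hnot e (hEC he) he1)
      · exfalso; apply he1
        refine eq_one_of_conj_commute (pair_symm h1) (hS.commutative _ hA') he ?_
        intro x hx x' hx'
        have h2 := commutator_mem (hEC he) hx
        calc e * x * e⁻¹ * x' = (e * x * e⁻¹ * x⁻¹) * (x * x') := by group
          _ = x * x' * (e * x * e⁻¹ * x⁻¹) :=
              cc_central h h2 (Subgroup.mem_sup_right (mul_mem hx hx'))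
          _ = x' * x * (e * x * e⁻¹ * x⁻¹) := by rw [comm hS hA' hx hx']
          _ = x' * ((e * x * e⁻¹ * x⁻¹) * x) := by
              rw [mul_assoc, cc_central h h2 (Subgroup.mem_sup_right hx)]
          _ = x' * (e * x * e⁻¹) := by group
      · exact h1
    have hF : ⁅⁅A, B⁆, A'⁆ ≤ ⁅E, A'⁆ := by
      conv_lhs => rw [← h.2.2.1 e (hEC he) he1]
      rw [Subgroup.closure_le]
      rintro _ ⟨x, hx, rfl⟩
      exact commutator_mem he hx
    refine le_antisymm hEC fun c hc => ?_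
    obtain ⟨x, hx, hx1⟩ := exists_ne_one (pair_symm hp)
    obtain ⟨e', he', heq⟩ := cc_exists_comm' hEcc hx hx1 (hF (commutator_mem hc hx))
    have hcomm : x * (e'⁻¹ * c) = (e'⁻¹ * c) * x := by
      have h3 : e' * x * e'⁻¹ = c * x * c⁻¹ := mul_right_cancel heq
      calc x * (e'⁻¹ * c) = e'⁻¹ * (e' * x * e'⁻¹) * c := by group
        _ = _ := by rw [h3]; group
    have hC' : ⁅A', ⁅A, B⁆⁆ ∈ S := by rw [Subgroup.commutator_comm]; exact h.1
    have h4 := line_inj hS hA' hA (pair_symm hp) hC hC' hx hx1 (mul_mem (inv_mem (hEC he')) hc) hcomm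
    rwa [inv_mul_eq_one.1 h4] at he'

theorem line_members (hB : B ∈ S) (hC : ⁅A, B⁆ ∈ S) (hE : E ∈ S) (hle : E ≤ A ⊔ ⁅A, B⁆) :
    E = ⁅A, B⁆ ∨ ∃ b ∈ B, E = conjBy A b := by
  by_cases hEC : E ≤ ⁅A, B⁆
  · exact Or.inl (line_le_member hS hA hA' hp hB hC hE hEC)
  · obtain ⟨x, hx, hxC⟩ := SetLike.not_le_iff_exists.1 hEC
    rcases line_cover hS hA hA' hp hB hC (hle hx) with h | ⟨b, hb, h⟩
    · exact absurd h hxC
    · refine Or.inr ⟨b, hb, ?_⟩
      exact (eq_of_inter hS (hS.conj_mem A hA b) (hS.conj_mem A' hA' b) (pair_conj hp b) hE h hx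
        (fun h1 => hxC (h1 ▸ one_mem _))).symm

/-- The configuration of a rank one pair `A, A'` with a member `B` on a line through `A`. -/
theorem line_back (hB : B ∈ S) (hAB : ⁅A, B⁆ = ⊥)
    (hroot : ∀ a ∈ A, ∀ b ∈ B, a * b ≠ 1 → a * b ∈ rootElements S) (hC : ⁅B, A'⁆ ∈ S) :
    ⁅A, ⁅B, A'⁆⁆ = B := by
  have hcc := cc_of_mem hS hB hA' hC
  have hcAB : ∀ a ∈ A, ∀ b ∈ B, a * b = b * a := fun a ha b hb =>
    commute_of_commutator_eq_bot hAB ha hb
  have hcB : ∀ c ∈ ⁅B, A'⁆, ∀ b ∈ B, c * b = b * c :=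
    fun c hc b hb => cc_central hcc hc (Subgroup.mem_sup_left hb)
  have hcA' : ∀ c ∈ ⁅B, A'⁆, ∀ x ∈ A', c * x = x * c :=
    fun c hc x hx => cc_central hcc hc (Subgroup.mem_sup_right hx)
  have hcc2 : RootCommutatorCase S A ⁅B, A'⁆ := by
    rcases hS.pair A hA _ hC with h | h | h
    · exfalso
      obtain ⟨g, hg, hge⟩ := exists_conj_right hp
      have hnorm : conjBy (B ⊔ ⁅B, A'⁆) g⁻¹ = B ⊔ ⁅B, A'⁆ := by
        have hle : A ⊔ A' ≤ Subgroup.normalizer ((B ⊔ ⁅B, A'⁆ : Subgroup G) : Set G) := by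
          refine sup_le ?_ ?_
          · intro a ha
            apply Subgroup.centralizer_le_normalizer
            have hsup : B ⊔ ⁅B, A'⁆ ≤ Subgroup.centralizer {a} := sup_le
              (fun b hb => Subgroup.mem_centralizer_iff.2 fun u hu => by
                rw [Set.mem_singleton_iff.1 hu]; exact hcAB a ha b hb)
              (fun c hc => Subgroup.mem_centralizer_iff.2 fun u hu => by
                rw [Set.mem_singleton_iff.1 hu]; exact commute_of_commutator_eq_bot h ha hc)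
            exact Subgroup.mem_centralizer_iff.2 fun u hu =>
              (Subgroup.mem_centralizer_iff.1 (hsup hu) a rfl).symm
          · rw [Subgroup.le_normalizer_iff_commutator_le_left]
            rw [Subgroup.commutator_le]
            intro n hn x hx
            have hn' := hn
            rw [← SetLike.mem_coe, Subgroup.coe_mul_of_left_le_normalizer_right _ _
              (Subgroup.normalizer_commutator_ge_left _ _), Set.mem_mul] at hn'
            obtain ⟨b, hb, c, hc, rfl⟩ := hn'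
            have e : b * c * x * (b * c)⁻¹ * x⁻¹ = b * (c * x * c⁻¹) * b⁻¹ * x⁻¹ := by group
            change b * c * x * (b * c)⁻¹ * x⁻¹ ∈ _
            rw [e, hcA' c hc x hx, mul_inv_cancel_right]
            exact Subgroup.mem_sup_right (commutator_mem hb hx)
        exact conjBy_of_mem_normalizer (hle (inv_mem hg))
      obtain ⟨b, hb, hb1⟩ := exists_mem_ne_one hS hB
      obtain ⟨x, hx, hx1⟩ := cc_not_commute hS hcc hb hb1
      apply hx1
      have hsup : B ⊔ ⁅B, A'⁆ ≤ Subgroup.centralizer {g⁻¹ * x * g} := by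
        have hxA : g⁻¹ * x * g ∈ A := mem_conjBy.1 (hge.symm ▸ hx)
        refine sup_le (fun u hu => Subgroup.mem_centralizer_iff.2 fun v hv => ?_)
          (fun u hu => Subgroup.mem_centralizer_iff.2 fun v hv => ?_)
        · rw [Set.mem_singleton_iff.1 hv]; exact hcAB _ hxA u hu
        · rw [Set.mem_singleton_iff.1 hv]; exact commute_of_commutator_eq_bot h hxA hu
      have hbm : g⁻¹ * b * g ∈ B ⊔ ⁅B, A'⁆ := by
        have h1 : g⁻¹ * b * g⁻¹⁻¹ ∈ conjBy (B ⊔ ⁅B, A'⁆) g⁻¹ :=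
          conj_mem_conjBy (Subgroup.mem_sup_left hb)
        rwa [hnorm, inv_inv] at h1
      have h2 := Subgroup.mem_centralizer_iff.1 (hsup hbm) _ rfl
      have h3 : x * b = b * x := by
        have := congrArg (fun z => g * z * g⁻¹) h2
        simpa [mul_assoc] using this
      rw [← h3]; group
    · exfalso
      obtain ⟨b, hb, hb1⟩ := exists_mem_ne_one hS hB
      obtain ⟨x, hx, hne⟩ := cc_not_commute hS hcc hb hb1
      have hc0 : x * b * x⁻¹ * b⁻¹ ∈ ⁅B, A'⁆ :=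
        Subgroup.commutator_comm A' B ▸ commutator_mem hx hb
      refine za_not_root hS hC hA (pair_symm h) (z := b) (fun c hc => (hcB c hc b hb).symm)
        (fun a ha => (hcAB a ha b hb).symm) hb1 hc0 (fun e => hne ?_) ?_
      · rw [← inv_inj, inv_one, ← e]; group
      · rw [← hcB _ hc0 b hb, inv_mul_cancel_right]
        exact ⟨fun e => hb1 (by simpa using e), conjBy B x, hS.conj_mem B hB x,
          conj_mem_conjBy hb⟩
    · exact h
  have hdA : ∀ d ∈ ⁅A, ⁅B, A'⁆⁆, ∀ a ∈ A, d * a = a * d :=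
    fun d hd a ha => cc_central hcc2 hd (Subgroup.mem_sup_left ha)
  have hdC : ∀ d ∈ ⁅A, ⁅B, A'⁆⁆, ∀ c ∈ ⁅B, A'⁆, d * c = c * d :=
    fun d hd c hc => cc_central hcc2 hd (Subgroup.mem_sup_right hc)
  have key : ∀ a ∈ A, a ≠ 1 → ∃ β ∈ A', β ≠ 1 ∧ ∀ b ∈ B,
      a * (β⁻¹ * b * β * b⁻¹) * a⁻¹ * (β⁻¹ * b * β * b⁻¹)⁻¹ = b⁻¹ := by
    intro a ha ha1
    obtain ⟨β, hβ, hβ1, hβeq⟩ := hp.cond_left a ha ha1
    refine ⟨β, hβ, hβ1, fun b hb => ?_⟩
    obtain ⟨c₀, hc₀def⟩ : ∃ c, c = β⁻¹ * b * β * b⁻¹ := ⟨_, rfl⟩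
    obtain ⟨d₀, hd₀def⟩ : ∃ d, d = a * c₀ * a⁻¹ * c₀⁻¹ := ⟨_, rfl⟩
    rw [← hc₀def, ← hd₀def]
    have hc₀ : c₀ ∈ ⁅B, A'⁆ := by
      have h1 := commutator_mem (inv_mem hβ) hb
      rw [inv_inv, Subgroup.commutator_comm] at h1
      rw [hc₀def]; exact h1
    have hd₀ : d₀ ∈ ⁅A, ⁅B, A'⁆⁆ := hd₀def ▸ commutator_mem ha hc₀
    have hd₀b : d₀ * b = b * d₀ := by
      have h1 : ⁅A, ⁅B, A'⁆⁆ ≤ Subgroup.centralizer {b} :=
        (commutator_le_sup _ _).trans (sup_le
          (fun u hu => Subgroup.mem_centralizer_iff.2 fun v hv => by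
            rw [Set.mem_singleton_iff.1 hv]; exact (hcAB u hu b hb).symm)
          (fun u hu => Subgroup.mem_centralizer_iff.2 fun v hv => by
            rw [Set.mem_singleton_iff.1 hv]; exact (hcB u hu b hb).symm))
      exact (Subgroup.mem_centralizer_iff.1 (h1 hd₀) b rfl).symm
    have hA'eq : conjBy A (a * β⁻¹) = A' := by
      rw [← conjBy_conjBy, hβeq, conjBy_cancel_inv]
    have himage : a * β⁻¹ * b * (a * β⁻¹)⁻¹ = d₀ * c₀ * b := by
      have h1 : a * b * a⁻¹ = b := by rw [hcAB a ha b hb, mul_inv_cancel_right]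
      calc a * β⁻¹ * b * (a * β⁻¹)⁻¹ = (a * c₀ * a⁻¹) * (a * b * a⁻¹) := by rw [hc₀def]; group
        _ = _ := by rw [h1, hd₀def]; group
    have hcom : ∀ x ∈ A', d₀ * b * x = x * (d₀ * b) := by
      intro x hx
      obtain ⟨u, hu, hueq⟩ : x ∈ conjBy A (a * β⁻¹) := hA'eq.symm ▸ hx
      have h1 : (d₀ * c₀ * b) * x = x * (d₀ * c₀ * b) := by
        have := congrArg (fun z => a * β⁻¹ * z * (a * β⁻¹)⁻¹) (hcAB u hu b hb)
        rw [← himage, ← hueq]
        simpa [mul_assoc, MulAut.conj_apply] using this.symm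
      rw [hdC _ hd₀ _ hc₀, mul_assoc c₀ d₀ b] at h1
      have h2 : x * c₀ = c₀ * x := (hcA' _ hc₀ x hx).symm
      rw [← mul_assoc x c₀, h2, mul_assoc c₀ (d₀ * b) x, mul_assoc c₀ x] at h1
      exact mul_left_cancel h1
    have hz : ∀ a₀ ∈ A, d₀ * b * a₀ = a₀ * (d₀ * b) := fun a₀ ha₀ => by
      rw [mul_assoc, ← hcAB a₀ ha₀ b hb, ← mul_assoc, hdA _ hd₀ a₀ ha₀, mul_assoc]
    by_contra hne
    have hz1 : d₀ * b ≠ 1 := fun e => hne (eq_inv_of_mul_eq_one_left e)
    obtain ⟨c', hc', hc'eq⟩ := cc_exists_comm hcc2 ha ha1 hd₀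
    have hz2 : ∀ u ∈ conjBy A c', d₀ * b * u = u * (d₀ * b) := by
      rintro _ ⟨u, hu, rfl⟩
      change d₀ * b * (c' * u * c'⁻¹) = c' * u * c'⁻¹ * (d₀ * b)
      have hk : ∀ c ∈ ⁅B, A'⁆, d₀ * b * c = c * (d₀ * b) := fun c hc => by
        rw [mul_assoc, ← hcB c hc b hb, ← mul_assoc, hdC _ hd₀ c hc, mul_assoc]
      calc d₀ * b * (c' * u * c'⁻¹) = (d₀ * b * c') * u * c'⁻¹ := by group
        _ = c' * ((d₀ * b * u) * c'⁻¹) := by rw [hk c' hc']; group
        _ = c' * (u * (d₀ * b * c'⁻¹)) := by rw [hz u hu, mul_assoc]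
        _ = c' * (u * (c'⁻¹ * (d₀ * b))) := by rw [hk _ (inv_mem hc')]
        _ = _ := by group
    have hA'c : conjBy A' c' = A' := conjBy_of_commute fun x hx => hcA' c' hc' x hx
    have hpair : IsRankOnePair (conjBy A c') A' := hA'c ▸ pair_conj hp c'
    refine za_not_root hS (hS.conj_mem A hA c') hA' hpair hz2 hcom hz1
      (conj_mem_conjBy (g := c') ha) (fun e => ha1 (by simpa using e)) ?_
    have he : d₀ * b * (c' * a * c'⁻¹) = a * b := by
      have h1 : c' * a * c'⁻¹ = d₀⁻¹ * a := by rw [← hc'eq]; group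
      rw [h1, hd₀b, mul_assoc, mul_inv_cancel_left, hcAB a ha b hb]
    rw [he]
    refine hroot a ha b hb fun e => ?_
    -- `a = b⁻¹` lies in both members
    have hAeq := eq_of_inter hS hA hA' hp hB ha (by
      rw [eq_inv_of_mul_eq_one_left e]; exact inv_mem hb) ha1
    subst hAeq
    exact not_pair_of_cc hS hA hC hp
  obtain ⟨a, ha, ha1⟩ := exists_ne_one hp
  obtain ⟨β, hβ, hβ1, hk⟩ := key a ha ha1
  have hc₀mem : ∀ b ∈ B, β⁻¹ * b * β * b⁻¹ ∈ ⁅B, A'⁆ := fun b hb => by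
    have h1 := commutator_mem (inv_mem hβ) hb
    rwa [inv_inv, Subgroup.commutator_comm] at h1
  refine le_antisymm (fun d hd => ?_) (fun b hb => ?_)
  · obtain ⟨c, hc, hceq⟩ := cc_exists_comm hcc2 ha ha1 hd
    obtain ⟨b, hb, hbeq⟩ := cc_exists_comm' hcc (inv_mem hβ) (inv_ne_one.2 hβ1) (inv_mem hc)
    have h1 : β⁻¹ * b * β * b⁻¹ = c := by rw [← inv_inj, ← hbeq]; group
    have h2 := hk b hb
    rw [h1, hceq] at h2
    exact h2 ▸ inv_mem hb
  · have h1 := commutator_mem ha (hc₀mem b hb)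
    rw [hk b hb] at h1
    simpa using inv_mem h1

/-- Some member of the line is in the commutator case with the partner. -/
theorem line_exception (hB : B ∈ S) (hAB : ⁅A, B⁆ = ⊥) (hne : A ≠ B)
    (hBA' : IsRankOnePair B A') :
    ∃ a ∈ A, ∃ b ∈ B, a ≠ 1 ∧ b ≠ 1 ∧
      ∀ E ∈ S, a * b⁻¹ ∈ E → ⁅A, E⁆ = ⊥ ∧ ⁅E, A'⁆ ∈ S := by
  obtain ⟨a, ha, ha1⟩ := exists_ne_one hp
  obtain ⟨β, hβ, hβ1, hβeq⟩ := hp.cond_left a ha ha1
  obtain ⟨b, hb, hb1, hbeq⟩ := hBA'.cond_right β hβ hβ1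
  have hcAB : ∀ u ∈ A, ∀ v ∈ B, u * v = v * u := fun u hu v hv =>
    commute_of_commutator_eq_bot hAB hu hv
  have he1 : a * b⁻¹ ≠ 1 := fun e =>
    hne (eq_of_inter hS hA hA' hp hB ha (by rw [mul_inv_eq_one.1 e]; exact hb) ha1)
  have heA : ∀ x ∈ A, a * b⁻¹ * x = x * (a * b⁻¹) := fun x hx => by
    rw [mul_assoc, ← hcAB x hx _ (inv_mem hb), ← mul_assoc, comm hS hA ha hx, mul_assoc]
  refine ⟨a, ha, b, hb, ha1, hb1, fun E hE heE => ?_⟩
  refine ⟨bot_symm (commute_of_elem hS hE hA heE he1 heA), ?_⟩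
  have hcom : ∀ x ∈ conjBy A' a⁻¹, ∀ y ∈ conjBy A' b⁻¹, x * y = y * x := by
    rw [← hβeq, hbeq]
    exact fun x hx y hy => commute_of_commutator_eq_bot
      (by rw [← conjBy_commutator, hAB, conjBy_bot]) hx hy
  rcases hS.pair E hE A' hA' with h | h | h
  · exfalso
    refine za_not_root hS hA hA' hp (z := a * b⁻¹) heA
      (fun x hx => commute_of_commutator_eq_bot h heE hx) he1 (inv_mem ha) (inv_ne_one.2 ha1) ?_
    have : a * b⁻¹ * a⁻¹ = b⁻¹ := by rw [hcAB a ha _ (inv_mem hb), mul_inv_cancel_right]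
    rw [this]
    exact ⟨inv_ne_one.2 hb1, B, hB, inv_mem hb⟩
  · exfalso; apply he1
    refine eq_one_of_conj_commute (pair_symm h) (hS.commutative _ hA') heE ?_
    intro x hx x' hx'
    have h1 : a⁻¹ * x' * a ∈ conjBy A' a⁻¹ := by simpa using conj_mem_conjBy (g := a⁻¹) hx'
    have h2 : b⁻¹ * x * b ∈ conjBy A' b⁻¹ := by simpa using conj_mem_conjBy (g := b⁻¹) hx
    have h3 := congrArg (fun z => a * z * a⁻¹) (hcom _ h1 _ h2)
    have e : (a * b⁻¹) * x * (a * b⁻¹)⁻¹ = a * (b⁻¹ * x * b) * a⁻¹ := by group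
    rw [e]
    simpa [mul_assoc] using h3.symm
  · exact h.1

/-- A line through `A` splits off a member `E` fixed by some member `F` which moves `A` transitively. -/
theorem line_struct (hB : B ∈ linePartners S A) :
    ∃ E ∈ S, ∃ F ∈ S, ⁅E, A'⁆ = F ∧ ⁅A, F⁆ = E ∧ A ⊔ E = A ⊔ B ∧ ⁅A, E⁆ = ⊥ := by
  obtain ⟨⟨hBS, hBne, hAB⟩, hle, hcov, -⟩ := hB
  have hroot : ∀ x ∈ A ⊔ B, x ≠ 1 → x ∈ rootElements S := fun x hx hx1 => by
    obtain ⟨M, hM, hxM⟩ := hcov x hx hx1
    exact ⟨hx1, M, hM.1, hxM⟩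
  have hroot' : ∀ P : Subgroup G, P ≤ A ⊔ B → ∀ a ∈ A, ∀ b ∈ P, a * b ≠ 1 →
      a * b ∈ rootElements S := fun P hP a ha b hb h1 =>
    hroot _ (mul_mem (Subgroup.mem_sup_left ha) (hP hb)) h1
  rcases hS.pair B hBS A' hA' with h | h | h
  · exfalso
    obtain ⟨a, ha, ha1⟩ := exists_ne_one hp
    obtain ⟨b, hb, hb1⟩ := exists_mem_ne_one hS hBS
    refine za_not_root hS hA hA' hp (z := b)
      (fun x hx => (commute_of_commutator_eq_bot hAB hx hb).symm)
      (fun x hx => commute_of_commutator_eq_bot h hb hx) hb1 ha ha1 ?_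
    refine hroot _ (mul_mem (Subgroup.mem_sup_right hb) (Subgroup.mem_sup_left ha)) fun e => ?_
    exact hBne (eq_of_inter hS hA hA' hp hBS ha
      (by rw [eq_inv_of_mul_eq_one_right e]; exact inv_mem hb) ha1).symm
  · obtain ⟨a, ha, b, hb, ha1, hb1, hE⟩ := line_exception hS hA hA' hp hBS hAB (Ne.symm hBne) h
    have he : a * b⁻¹ ∈ A ⊔ B := mul_mem (Subgroup.mem_sup_left ha) (Subgroup.mem_sup_right (inv_mem hb))
    have he1 : a * b⁻¹ ≠ 1 := fun e => hBne
      (eq_of_inter hS hA hA' hp hBS ha (by rw [mul_inv_eq_one.1 e]; exact hb) ha1).symm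
    obtain ⟨E, ⟨hES, hEle⟩, heE⟩ := hcov _ he he1
    obtain ⟨hAE, hF⟩ := hE E hES heE
    have hAF := line_back hS hA hA' hp hES hAE (hroot' E hEle) hF
    refine ⟨E, hES, _, hF, rfl, hAF, ?_, hAE⟩
    refine le_antisymm (sup_le le_sup_left hEle) (sup_le le_sup_left ?_)
    have hbm : b ∈ A ⊔ E := by
      have h1 := mul_mem (Subgroup.mem_sup_right (S := A) (inv_mem heE)) (Subgroup.mem_sup_left (T := E) ha)
      simpa using h1
    have hC : ⁅A, ⁅E, A'⁆⁆ ∈ S := hAF.symm ▸ hES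
    rcases line_cover hS hA hA' hp hF hC (hAF.symm ▸ hbm) with h1 | ⟨f, hf, h1⟩
    · exfalso
      rw [hAF] at h1
      have haE : a ∈ E := by simpa using mul_mem heE h1
      have hAEeq := eq_of_inter hS hA hA' hp hES ha haE ha1
      exact not_pair_of_cc hS hA (hAEeq.symm ▸ hF) hp
    · have := eq_of_inter hS (hS.conj_mem A hA f) (hS.conj_mem A' hA' f) (pair_conj hp f) hBS h1 hb hb1
      rw [← this]
      have h2 := line_le hS hA hA' hp hF hC hf
      rwa [hAF] at h2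
  · exact ⟨B, hBS, _, h.1, rfl, line_back hS hA hA' hp hBS hAB (hroot' B le_sup_right) h.1,
      rfl, hAB⟩

end

end Cfsg.Agent.RootSubgroups
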