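import Mathlib
import Cfsg.Agent.Lib.RootSubgroups.QuadLink
import Cfsg.Agent.Lib.RootSubgroups.SL2
import Cfsg.Agent.Lib.RootSubgroups.RootSet

/-!
Inverting classes contain unitriangular subgroups of an image of `SL₂(k)`; root subgroup axioms for the classes.
-/

set_option autoImplicit false
open Cfsg

namespace Cfsg.Agent.RootSubgroups.Cls

open Quad

variable {k : Type*} [Field k] {M : Type*} [AddCommGroup M] [Module k M] [FiniteDimensional k M]

local notation "GLM" => LinearMap.GeneralLinearGroup k M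
local notation "EndM" => Module.End k M

variable {G : Subgroup (LinearMap.GeneralLinearGroup k M)} {σ τ : LinearMap.GeneralLinearGroup k M}

/-- The action of `SL₂` through a pair of matrix units. -/
def sl2Fun (S T : Module.End k M) (g : Matrix.SpecialLinearGroup (Fin 2) k) : Module.End k M :=
  1 + ((g.1 0 0 - 1) • (S * T) + g.1 0 1 • S + g.1 1 0 • T + (g.1 1 1 - 1) • (T * S))

omit [FiniteDimensional k M] in
theorem sl2Fun_mul {S T : EndM} (hS : S * S = 0) (hT : T * T = 0) (h1 : S * T * S = S) (h2 : T * S * T = T)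
    (g h : Matrix.SpecialLinearGroup (Fin 2) k) : sl2Fun S T (g * h) = sl2Fun S T g * sl2Fun S T h := by
  have z1 : ∀ z : EndM, S * (S * z) = 0 := fun z => by rw [← mul_assoc, hS, zero_mul]
  have z2 : ∀ z : EndM, T * (T * z) = 0 := fun z => by rw [← mul_assoc, hT, zero_mul]
  have z3 : ∀ z : EndM, S * (T * (S * z)) = S * z := fun z => by rw [← mul_assoc, ← mul_assoc, h1]
  have z4 : ∀ z : EndM, T * (S * (T * z)) = T * z := fun z => by rw [← mul_assoc, ← mul_assoc, h2]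
  have z5 : S * (T * S) = S := by rw [← mul_assoc, h1]
  have z6 : T * (S * T) = T := by rw [← mul_assoc, h2]
  simp only [sl2Fun, Matrix.SpecialLinearGroup.coe_mul, Matrix.mul_apply, Fin.sum_univ_two, mul_add,
    add_mul, one_mul, mul_one, smul_mul_assoc, mul_smul_comm, mul_assoc, hS, hT, z1, z2, z3, z4, z5, z6,
    smul_zero, mul_zero, zero_mul, add_zero, zero_add, smul_smul]
  module

/-- The homomorphism from `SL₂(k)`. -/
def sl2Hom (S T : Module.End k M) (hS : S * S = 0) (hT : T * T = 0) (h1 : S * T * S = S)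
    (h2 : T * S * T = T) : Matrix.SpecialLinearGroup (Fin 2) k →* LinearMap.GeneralLinearGroup k M :=
  MonoidHom.toHomUnits
    { toFun := sl2Fun S T
      map_one' := by simp [sl2Fun]
      map_mul' := sl2Fun_mul hS hT h1 h2 }

theorem nil_sl2Hom (S T : EndM) (hS : S * S = 0) (hT : T * T = 0) (h1 : S * T * S = S)
    (h2 : T * S * T = T) (g : Matrix.SpecialLinearGroup (Fin 2) k) :
    nil (sl2Hom S T hS hT h1 h2 g) =
      (g.1 0 0 - 1) • (S * T) + g.1 0 1 • S + g.1 1 0 • T + (g.1 1 1 - 1) • (T * S) :=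
  add_sub_cancel_left _ _

/-- Inverting classes contain the unitriangular subgroups of an image of `SL₂(k)`. -/
theorem exists_psl2 (hσ : σ ∈ minimalQuadraticElements G) (hinv : Inv G σ τ) :
    ∃ A₀ B₀ : Subgroup GLM, A₀ ≤ sameActionSubgroup G σ ∧ B₀ ≤ sameActionSubgroup G τ ∧
      IsPSL2PairOver k A₀ B₀ := by
  obtain ⟨y, hy, -, h1, h2⟩ := hinv σ (mem_self hσ) (ne_one_of_quadratic hσ.1)
  have hS := sameActionSubgroup_annihilate (mem_self hσ) (mem_self hσ)
  have hT := sameActionSubgroup_annihilate hy hy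
  have hS0 := (mem_quadratic.1 hσ.1).2.1
  obtain ⟨φ, hφ⟩ : ∃ φ, φ = sl2Hom (nil σ) (nil y) hS hT h1 h2 := ⟨_, rfl⟩
  have hval : ∀ g, nil (φ g) = (g.1 0 0 - 1) • (nil σ * nil y) + g.1 0 1 • nil σ + g.1 1 0 • nil y +
      (g.1 1 1 - 1) • (nil y * nil σ) := fun g => hφ ▸ nil_sl2Hom _ _ hS hT h1 h2 g
  refine ⟨(upperUnipotentSL2 k).map φ, (lowerUnipotentSL2 k).map φ, ?_, ?_, φ, ?_, ?_, rfl, rfl⟩
  · rintro _ ⟨g, hg, rfl⟩
    obtain ⟨x, rfl⟩ := SL2.mem_upper.1 hg
    obtain ⟨z, hz, e⟩ := exists_smul (mem_self hσ) x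
    rwa [show φ (SL2.u x) = z from nil_inj (by rw [hval, e]; simp)]
  · rintro _ ⟨g, hg, rfl⟩
    obtain ⟨x, rfl⟩ := SL2.mem_lower.1 hg
    obtain ⟨z, hz, e⟩ := exists_smul hy x
    rwa [show φ (SL2.v x) = z from nil_inj (by rw [hval, e]; simp)]
  · rw [← Subgroup.map_sup, sup_comm, SL2.top_eq_sup, MonoidHom.range_eq_map]
  · intro g hg
    have e := hval g
    rw [MonoidHom.mem_ker.1 hg, nil_eq_zero.2 rfl] at e
    obtain ⟨S, hSd⟩ : ∃ S, S = nil σ := ⟨_, rfl⟩
    obtain ⟨T, hTd⟩ : ∃ T, T = nil y := ⟨_, rfl⟩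
    rw [← hSd, ← hTd] at e h1 h2
    rw [← hSd] at hS hS0
    rw [← hTd] at hT
    have hT0 : T ≠ 0 := fun h => hS0 (by rw [← h1, h, mul_zero, zero_mul])
    have q1 := congrArg (fun Z => S * (T * (Z * S))) e
    have q2 := congrArg (fun Z => S * (T * (Z * (T * S)))) e
    have q3 := congrArg (fun Z => T * (S * (Z * (S * T)))) e
    have q4 := congrArg (fun Z => T * (S * (Z * T))) e
    simp only [zero_mul, mul_zero, mul_add, add_mul, smul_mul_assoc, mul_smul_comm, mul_assoc] at q1 q2 q3 q4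
    have z1 : ∀ z : EndM, S * (S * z) = 0 := fun z => by rw [← mul_assoc, hS, zero_mul]
    have z2 : ∀ z : EndM, T * (T * z) = 0 := fun z => by rw [← mul_assoc, hT, zero_mul]
    have z3 : ∀ z : EndM, S * (T * (S * z)) = S * z := fun z => by rw [← mul_assoc, ← mul_assoc, h1]
    have z4 : ∀ z : EndM, T * (S * (T * z)) = T * z := fun z => by rw [← mul_assoc, ← mul_assoc, h2]
    have z5 : S * (T * S) = S := by rw [← mul_assoc, h1]
    have z6 : T * (S * T) = T := by rw [← mul_assoc, h2]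
    simp only [hS, hT, z1, z2, z3, z4, z5, z6, mul_zero, smul_zero, add_zero, zero_add] at q1 q2 q3 q4
    have c1 := (smul_eq_zero.1 q1.symm).resolve_right hS0
    have c2 := (smul_eq_zero.1 q2.symm).resolve_right hS0
    have c3 := (smul_eq_zero.1 q3.symm).resolve_right hT0
    have c4 := (smul_eq_zero.1 q4.symm).resolve_right hT0
    have hg1 : g = 1 := by
      refine SL2.ext2 ?_ ?_ ?_ ?_ <;> simp [c2, c3, sub_eq_zero.1 c1, sub_eq_zero.1 c4]
    rw [hg1]; exact one_mem _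

theorem three_lt_card (hk2 : ringChar k ≠ 2) (hk3 : Nat.card k ≠ 3) : 3 < ENat.card k := by
  rcases finite_or_infinite k with h | h
  · rw [ENat.card_eq_coe_natCard]
    exact_mod_cast lt_of_lt_of_le (by norm_num : 3 < 5) (Dk.five_le_card hk2 hk3)
  · rw [ENat.card_eq_top_of_infinite]; exact ENat.natCast_lt_top 3

/-- Two members commute, form a rank one pair, or are in the commutator case. -/
theorem trichotomy (hk2 : ringChar k ≠ 2) (hk3 : Nat.card k ≠ 3) (hirr : NoUni G)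
    {A B : Subgroup GLM} (hA : A ∈ quadraticRootSubgroups G) (hB : B ∈ quadraticRootSubgroups G) :
    ⁅A, B⁆ = ⊥ ∨ IsRankOnePair A B ∨ RootCommutatorCase (quadraticRootSubgroups G) A B := by
  obtain ⟨σ, hσ, rfl⟩ := hA
  obtain ⟨τ, hτ, rfl⟩ := hB
  rcases uni_or_inv hk2 hk3 hσ hτ with hu | ⟨h1, h2⟩
  · by_cases h : ⁅sameActionSubgroup G σ, sameActionSubgroup G τ⁆ = ⊥
    · exact Or.inl h
    · exact Or.inr (Or.inr (uni_case hk2 hk3 hirr hu hσ hτ h).1)
  · exact Or.inr (Or.inl (pair hσ h1 h2))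

theorem inv_of_pair (hk2 : ringChar k ≠ 2) (hk3 : Nat.card k ≠ 3) (hirr : NoUni G)
    (hσ : σ ∈ minimalQuadraticElements G) (hτ : τ ∈ minimalQuadraticElements G)
    (hp : IsRankOnePair (sameActionSubgroup G σ) (sameActionSubgroup G τ)) :
    Inv G σ τ ∧ Inv G τ σ := by
  refine (uni_or_inv hk2 hk3 hσ hτ).resolve_left fun hu => ?_
  by_cases h : ⁅sameActionSubgroup G σ, sameActionSubgroup G τ⁆ = ⊥
  · exact comm_of_pair_bot h hp
  · obtain ⟨-, -, h3, -⟩ := uni_case hk2 hk3 hirr hu hσ hτ h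
    exact not_nilpotent hp ((Subgroup.isNilpotent_iff_lowerCentralSeries _).2 ⟨2, h3⟩)

theorem exists_psl2_of_pair (hk2 : ringChar k ≠ 2) (hk3 : Nat.card k ≠ 3) (hirr : NoUni G)
    {A B : Subgroup GLM} (hA : A ∈ quadraticRootSubgroups G) (hB : B ∈ quadraticRootSubgroups G)
    (hp : IsRankOnePair A B) : ∃ A₀ B₀ : Subgroup GLM, A₀ ≤ A ∧ B₀ ≤ B ∧ IsPSL2PairOver k A₀ B₀ := by
  obtain ⟨σ, hσ, rfl⟩ := hA
  obtain ⟨τ, hτ, rfl⟩ := hB
  exact exists_psl2 hσ (inv_of_pair hk2 hk3 hirr hσ hτ hp).1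

theorem special_of_pair (hk2 : ringChar k ≠ 2) (hk3 : Nat.card k ≠ 3) (hirr : NoUni G)
    {A B : Subgroup GLM} (hA : A ∈ quadraticRootSubgroups G) (hB : B ∈ quadraticRootSubgroups G)
    (hp : IsRankOnePair A B) : IsSpecialRankOnePair A B := by
  obtain ⟨σ, hσ, rfl⟩ := hA
  obtain ⟨τ, hτ, rfl⟩ := hB
  obtain ⟨h1, h2⟩ := inv_of_pair hk2 hk3 hirr hσ hτ hp
  exact special hσ h1 h2

theorem exists_pair_member (hk2 : ringChar k ≠ 2) (hk3 : Nat.card k ≠ 3) (hirr : NoUni G)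
    {A : Subgroup GLM} (hA : A ∈ quadraticRootSubgroups G) :
    ∃ B ∈ quadraticRootSubgroups G, IsRankOnePair A B := by
  obtain ⟨σ, hσ, rfl⟩ := hA
  obtain ⟨ρ, hρ, h1, h2⟩ := exists_partner hk2 hk3 hirr hσ
  exact ⟨_, ⟨ρ, hρ, rfl⟩, pair hσ h1 h2⟩

end Cfsg.Agent.RootSubgroups.Cls
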