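import Cfsg.Agent.Lib.RootSubgroups.QuadReduce

/-!
A quadratic element with `SXS ≠ 0` splits off a minimal quadratic element.
-/

set_option autoImplicit false
open Cfsg

namespace Cfsg.Agent.RootSubgroups.Cls

open Quad

variable {k : Type*} [Field k] {M : Type*} [AddCommGroup M] [Module k M] [FiniteDimensional k M]

local notation "GLM" => LinearMap.GeneralLinearGroup k M
local notation "EndM" => Module.End k M

variable {G : Subgroup (LinearMap.GeneralLinearGroup k M)} {σ τ x : LinearMap.GeneralLinearGroup k M}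

theorem sl2Hom_mem {S T : EndM} (hS : S * S = 0) (hT : T * T = 0) (h1 : S * T * S = S) (h2 : T * S * T = T)
    (hSG : ∀ c : k, unit (c • S) (smul_sq hS c) ∈ G) (hTG : ∀ c : k, unit (c • T) (smul_sq hT c) ∈ G)
    (g : Matrix.SpecialLinearGroup (Fin 2) k) : sl2Hom S T hS hT h1 h2 g ∈ G := by
  have hg : g ∈ (⊤ : Subgroup (Matrix.SpecialLinearGroup (Fin 2) k)) := Subgroup.mem_top g
  rw [← SL2.top_eq_sup] at hg
  refine (sup_le ?_ ?_ : lowerUnipotentSL2 k ⊔ upperUnipotentSL2 k ≤ G.comap (sl2Hom S T hS hT h1 h2)) hg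
  · intro g hg
    obtain ⟨a, rfl⟩ := SL2.mem_lower.1 hg
    rw [Subgroup.mem_comap, show sl2Hom S T hS hT h1 h2 (SL2.v a) = unit (a • T) (smul_sq hT a) from
      nil_inj (by rw [nil_sl2Hom, nil_unit]; simp)]
    exact hTG a
  · intro g hg
    obtain ⟨a, rfl⟩ := SL2.mem_upper.1 hg
    rw [Subgroup.mem_comap, show sl2Hom S T hS hT h1 h2 (SL2.u a) = unit (a • S) (smul_sq hS a) from
      nil_inj (by rw [nil_sl2Hom, nil_unit]; simp)]
    exact hSG a

omit [FiniteDimensional k M] in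
/-- The unipotent element obtained from the tori of two partners. -/
theorem torus_mem {S X R : EndM} (hS : S * S = 0) (hX : X * X = 0) (hR : R * R = 0) (hSR : S * R = 0)
    (hRS : R * S = 0) (h1 : S * X * R * X * S = -S) (h2 : R * X * S * X * R = -R)
    (hi : S * X * R * X * R = -R) (hj : R * X * R * X * S = -R) (a b : k) (hab : a * b + a + b = 0) :
    (a • (S * ((1 + X) * R * (1 - X))) + b • ((1 + X) * R * (1 - X) * S)) *
        (b • (S * ((1 - X) * R * (1 + X))) + a • ((1 - X) * R * (1 + X) * S)) +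
      ((a • (S * ((1 + X) * R * (1 - X))) + b • ((1 + X) * R * (1 - X) * S)) +
        (b • (S * ((1 - X) * R * (1 + X))) + a • ((1 - X) * R * (1 + X) * S))) =
      ((a - b) * (1 + a)) • (S * X * R + R * X * S) := by
  obtain ⟨P1, hP1⟩ : ∃ P1, P1 = -(S * (X * (R * X))) := ⟨_, rfl⟩
  obtain ⟨P2, hP2⟩ : ∃ P2, P2 = -(X * (R * (X * S))) := ⟨_, rfl⟩
  obtain ⟨D, hD⟩ : ∃ D, D = S * (X * R) := ⟨_, rfl⟩
  obtain ⟨D', hD'⟩ : ∃ D', D' = R * (X * S) := ⟨_, rfl⟩
  have e1 : S * ((1 + X) * R * (1 - X)) = P1 + D := by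
    simp only [hP1, hD, mul_add, add_mul, mul_sub, mul_one, one_mul, mul_assoc, hSR]
    simp only [← mul_assoc S R, hSR, zero_mul]
    abel
  have e2 : S * ((1 - X) * R * (1 + X)) = P1 - D := by
    simp only [hP1, hD, mul_add, sub_mul, mul_sub, mul_one, one_mul, mul_assoc, hSR]
    simp only [← mul_assoc S R, hSR, zero_mul]
    abel
  have e3 : (1 + X) * R * (1 - X) * S = P2 - D' := by
    simp only [hP2, hD', add_mul, mul_sub, sub_mul, mul_one, one_mul, mul_assoc, hRS, mul_zero]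
    abel
  have e4 : (1 - X) * R * (1 + X) * S = P2 + D' := by
    simp only [hP2, hD', add_mul, mul_add, sub_mul, mul_one, one_mul, mul_assoc, hRS, mul_zero]
    abel
  have zX : ∀ W : EndM, X * (X * W) = 0 := fun W => by rw [← mul_assoc, hX, zero_mul]
  have zS : ∀ W : EndM, S * (S * W) = 0 := fun W => by rw [← mul_assoc, hS, zero_mul]
  have zRS : ∀ W : EndM, R * (S * W) = 0 := fun W => by rw [← mul_assoc, hRS, zero_mul]
  have zSR : ∀ W : EndM, S * (R * W) = 0 := fun W => by rw [← mul_assoc, hSR, zero_mul]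
  have zR : ∀ W : EndM, R * (R * W) = 0 := fun W => by rw [← mul_assoc, hR, zero_mul]
  have k1 : ∀ W : EndM, S * (X * (R * (X * (S * W)))) = -(S * W) := fun W => by
    simp only [← mul_assoc]; rw [h1, neg_mul]
  have k1' : S * (X * (R * (X * S))) = -S := by simp only [← mul_assoc]; rw [h1]
  have k2 : ∀ W : EndM, R * (X * (S * (X * (R * W)))) = -(R * W) := fun W => by
    simp only [← mul_assoc]; rw [h2, neg_mul]
  have k3 : ∀ W : EndM, S * (X * (R * (X * (R * W)))) = -(R * W) := fun W => by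
    simp only [← mul_assoc]; rw [hi, neg_mul]
  have k4 : R * (X * (R * (X * S))) = -R := by simp only [← mul_assoc]; rw [hj]
  have m11 : P1 * P2 = 0 := by simp [hP1, hP2, mul_assoc, zX]
  have m12 : P1 * D' = D' := by simp [hP1, hD', mul_assoc, k3]
  have m21 : D * P2 = D := by simp [hP2, hD, mul_assoc, k4]
  have m22 : D * D' = 0 := by simp [hD, hD', mul_assoc, zR]
  have m31 : P2 * P1 = 0 := by simp [hP1, hP2, mul_assoc, zS]
  have m32 : P2 * D = 0 := by simp [hP2, hD, mul_assoc, zS]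
  have m41 : D' * P1 = 0 := by simp [hP1, hD', mul_assoc, zS]
  have m42 : D' * D = 0 := by simp [hD, hD', mul_assoc, zS]
  have m13 : P1 * P1 = P1 := by simp [hP1, mul_assoc, k1]
  have m14 : P1 * D = D := by simp [hP1, hD, mul_assoc, k1]
  have m23 : D * P1 = 0 := by simp [hP1, hD, mul_assoc, zRS]
  have m24 : D * D = 0 := by simp [hD, mul_assoc, zRS]
  have m33 : P2 * P2 = P2 := by simp [hP2, mul_assoc, k1']
  have m34 : P2 * D' = 0 := by simp [hP2, hD', mul_assoc, zSR]
  have m43 : D' * P2 = D' := by simp [hP2, hD', mul_assoc, k1']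
  have m44 : D' * D' = 0 := by simp [hD', mul_assoc, zSR]
  rw [e1, e2, e3, e4, show S * X * R = D by rw [hD, mul_assoc], show R * X * S = D' by rw [hD', mul_assoc]]
  simp only [mul_add, add_mul, mul_sub, sub_mul, smul_mul_assoc, mul_smul_comm, m11, m12, m13, m14, m21, m22,
    m23, m24, m31, m32, m33, m34, m41, m42, m43, m44, sub_zero, add_zero, zero_add, zero_sub, smul_add, smul_sub]
  match_scalars <;> first
    | linear_combination hab
    | linear_combination (-1 : k) * hab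
    | ring

theorem inv_sandwich (hk2 : ringChar k ≠ 2) (hk3 : Nat.card k ≠ 3) (hσ : σ ∈ minimalQuadraticElements G)
    (hτ : τ ∈ minimalQuadraticElements G) (h : Inv G σ τ) : nil σ * nil τ * nil σ ≠ 0 := by
  obtain ⟨y, hy, hy1, e, -⟩ := h σ (mem_self hσ) (ne_one_of_quadratic hσ.1)
  have hcy := mem_class hy hy1
  exact (sandwich_ne hk2 hk3 hσ hcy.1 (by rw [e]; exact (mem_quadratic.1 hσ.1).2.1)).2 τ
    (eq_of_class hcy ▸ mem_self hτ) (ne_one_of_quadratic hτ.1)

omit [FiniteDimensional k M] in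
theorem sandwich_eq {S X : EndM} (hS : S * S = 0) :
    S * ((1 + X) * S * (1 - X)) * S = -(S * X * S * X * S) := by
  have zS : ∀ W : EndM, S * (S * W) = 0 := fun W => by rw [← mul_assoc, hS, zero_mul]
  simp only [mul_add, add_mul, mul_sub, sub_mul, mul_one, one_mul, mul_assoc, hS, zS, mul_zero,
    zero_add, zero_sub, sub_zero]

omit [FiniteDimensional k M] in
theorem brk_eq {S X : EndM} (hS : S * S = 0) :
    S * ((1 + X) * S * (1 - X)) - (1 + X) * S * (1 - X) * S =
      (2 : k) • (S * X * S) + (X * S * X * S - S * X * S * X) := by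
  have zS : ∀ W : EndM, S * (S * W) = 0 := fun W => by rw [← mul_assoc, hS, zero_mul]
  simp only [mul_add, add_mul, mul_sub, sub_mul, mul_one, one_mul, mul_assoc, hS, zS, mul_zero, two_smul]
  abel

/-- The case `STS = 0` for `S' = xSx⁻¹` does not occur. -/
theorem sandwich_conj_ne (hk2 : ringChar k ≠ 2) (hk3 : Nat.card k ≠ 3) (hx : x ∈ quadraticElements G)
    (hσ : σ ∈ minimalQuadraticElements G) (hne : nil σ * nil x * nil σ ≠ 0) :
    nil σ * nil x * nil σ * nil x * nil σ ≠ 0 := by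
  intro hA
  obtain ⟨hXX, -, -⟩ := mem_quadratic.1 hx
  obtain ⟨hSS, hS0, -⟩ := mem_quadratic.1 hσ.1
  have h2 : (2 : k) ≠ 0 := Dk.two_ne_zero_of_ringChar hk2
  have hXinv : nil x⁻¹ * nil x⁻¹ = 0 := by rw [nil_inv hXX, neg_mul_neg, hXX]
  have mk : ∀ g : GLM, g ∈ G → nil g * nil g = 0 → nil σ * nil g * nil σ * nil g * nil σ = 0 →
      Uni G σ (g * σ * g⁻¹) := by
    intro g hg hgg h0
    refine (uni_or_inv hk2 hk3 hσ (minimal_conj hg hσ)).resolve_right fun hi => ?_
    refine inv_sandwich hk2 hk3 hσ (minimal_conj hg hσ) hi.1 ?_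
    rw [nil_conj_quadratic hgg, sandwich_eq hSS, h0, neg_zero]
  have hu1 := mk x hx.1 hXX hA
  have hu2 := mk x⁻¹ (inv_mem hx.1) hXinv (by
    rw [nil_inv hXX]; simp only [mul_neg, neg_mul, neg_neg]; exact hA)
  obtain ⟨S, hSd⟩ : ∃ S, S = nil σ := ⟨_, rfl⟩
  obtain ⟨X, hXd⟩ : ∃ X, X = nil x := ⟨_, rfl⟩
  rw [← hSd, ← hXd] at hne hA
  rw [← hSd] at hS0 hSS
  rw [← hXd] at hXX
  obtain ⟨W, hW⟩ : ∃ W, W = X * S * X * S - S * X * S * X := ⟨_, rfl⟩
  -- the two brackets
  have m1 : brk σ (x * σ * x⁻¹) = (2 : k) • (S * X * S) + W := by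
    rw [brk, nil_conj_quadratic (hXd ▸ hXX), ← hSd, ← hXd, hW]
    exact brk_eq hSS
  have m2 : brk σ (x⁻¹ * σ * x⁻¹⁻¹) = (-2 : k) • (S * X * S) + W := by
    rw [brk, nil_conj_quadratic hXinv, nil_inv (hXd ▸ hXX), ← hSd, ← hXd, brk_eq hSS, hW]
    simp only [mul_neg, neg_mul, neg_neg, smul_neg, neg_smul]
  -- no quadratic element has nilpotent part a multiple of `SXS`
  have contra : ∀ (u : GLM) (c : k), c ≠ 0 → u ∈ quadraticElements G → nil u = c • (S * X * S) → False := by
    intro u c hc hu e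
    have h1 : Module.finrank k (LinearMap.range S) ≤ Module.finrank k (LinearMap.range (S * X * S)) := by
      have h := hσ.2 u hu
      change Module.finrank k (LinearMap.range (nil σ)) ≤ Module.finrank k (LinearMap.range (nil u)) at h
      rwa [e, LinearMap.range_smul _ _ hc, ← hSd] at h
    have hle : LinearMap.range (S * X * S) ≤ LinearMap.range S := by
      rw [mul_assoc]; exact LinearMap.range_comp_le_range _ _
    have heq := Submodule.eq_of_le_of_finrank_le hle h1
    have h3 : LinearMap.range (S * X * S * X * S) = LinearMap.range S := by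
      calc LinearMap.range (S * X * S * X * S) = LinearMap.range ((S * X) * (S * X * S)) := by
            simp only [mul_assoc]
        _ = (LinearMap.range (S * X * S)).map (S * X) := LinearMap.range_comp _ _
        _ = (LinearMap.range S).map (S * X) := by rw [heq]
        _ = LinearMap.range ((S * X) * S) := (LinearMap.range_comp _ _).symm
        _ = _ := heq
    rw [hA, LinearMap.range_zero] at h3
    exact hS0 (LinearMap.range_eq_bot.1 h3.symm)
  have q : ∀ {y : GLM}, Uni G σ y → y ∈ minimalQuadraticElements G → brk σ y ≠ 0 →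
      σ * y * σ⁻¹ * y⁻¹ ∈ quadraticElements G ∧ nil (σ * y * σ⁻¹ * y⁻¹) = brk σ y :=
    fun hu hy h => ⟨bracket_quadratic hu (mem_self hσ) (mem_self hy) h,
      (nil_commutator hu (mem_self hσ) (mem_self hy)).1⟩
  have e4 : (4 : k) ≠ 0 := by
    rw [show (4 : k) = 2 * 2 by norm_num]; exact mul_ne_zero h2 h2
  by_cases n1 : brk σ (x * σ * x⁻¹) = 0
  · have hW' : W = (-2 : k) • (S * X * S) := by
      rw [m1] at n1; rw [neg_smul]; exact eq_neg_of_add_eq_zero_right n1
    have e : brk σ (x⁻¹ * σ * x⁻¹⁻¹) = (-4 : k) • (S * X * S) := by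
      rw [m2, hW', ← add_smul]; congr 1; ring
    obtain ⟨hq, hqe⟩ := q hu2 (minimal_conj (inv_mem hx.1) hσ)
      (by rw [e]; exact smul_ne_zero (neg_ne_zero.2 e4) hne)
    exact contra _ _ (neg_ne_zero.2 e4) hq (hqe.trans e)
  by_cases n2 : brk σ (x⁻¹ * σ * x⁻¹⁻¹) = 0
  · have hW' : W = (2 : k) • (S * X * S) := by
      rw [m2, neg_smul] at n2; rw [eq_neg_of_add_eq_zero_right n2, neg_neg]
    have e : brk σ (x * σ * x⁻¹) = (4 : k) • (S * X * S) := by
      rw [m1, hW', ← add_smul]; congr 1; ring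
    obtain ⟨hq, hqe⟩ := q hu1 (minimal_conj hx.1 hσ) n1
    exact contra _ _ e4 hq (hqe.trans e)
  obtain ⟨q1, q1e⟩ := q hu1 (minimal_conj hx.1 hσ) n1
  obtain ⟨q2, q2e⟩ := q hu2 (minimal_conj (inv_mem hx.1) hσ) n2
  have zS : ∀ U : EndM, S * (S * U) = 0 := fun U => by rw [← mul_assoc, hSS, zero_mul]
  have zX : ∀ U : EndM, X * (X * U) = 0 := fun U => by rw [← mul_assoc, hXX, zero_mul]
  have zA : ∀ U : EndM, S * (X * (S * (X * (S * U)))) = 0 := fun U => by
    simp only [← mul_assoc]; rw [hA, zero_mul]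
  have zA' : S * (X * (S * (X * S))) = 0 := by simp only [← mul_assoc]; rw [hA]
  have ann : ∀ a b : k, (a • (S * X * S) + W) * (b • (S * X * S) + W) = 0 := by
    intro a b
    simp only [hW, mul_add, add_mul, mul_sub, sub_mul, smul_mul_assoc, mul_smul_comm, mul_assoc, hSS, hXX,
      zS, zX, zA, zA', mul_zero, smul_zero, sub_zero, add_zero]
  have e2 : nil (σ * (x⁻¹ * σ * x⁻¹⁻¹) * σ⁻¹ * (x⁻¹ * σ * x⁻¹⁻¹)⁻¹)⁻¹ = -((-2 : k) • (S * X * S) + W) := by
    rw [nil_inv (mem_quadratic.1 q2).1, q2e, m2]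
  obtain ⟨hq, hqe⟩ := mul_quadratic q1 (inv_quadratic q2) (by rw [e2, q1e, m1, mul_neg, ann, neg_zero])
    (by rw [e2, q1e, m1, neg_mul, ann, neg_zero]) (by
      rw [e2, q1e, m1]
      intro h
      refine hne ((smul_eq_zero.1 (?_ : (4 : k) • (S * X * S) = 0)).resolve_left e4)
      rw [← h]; module)
  refine contra _ _ e4 hq ?_
  rw [hqe, e2, q1e, m1]; module

/-- If `SXS ≠ 0` then some member of the class satisfies `RXR = R`. -/
theorem exists_projection (hk2 : ringChar k ≠ 2) (hk3 : Nat.card k ≠ 3) (hx : x ∈ quadraticElements G)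
    (hσ : σ ∈ minimalQuadraticElements G) (hne : nil σ * nil x * nil σ ≠ 0) :
    ∃ ρ ∈ minimalQuadraticElements G, nil ρ * nil x * nil ρ = nil ρ := by
  obtain ⟨hXX, -, hXG⟩ := mem_quadratic.1 hx
  obtain ⟨hSS, hS0, hSG⟩ := mem_quadratic.1 hσ.1
  have h2 : (2 : k) ≠ 0 := Dk.two_ne_zero_of_ringChar hk2
  have hA := sandwich_conj_ne hk2 hk3 hx hσ hne
  have hσ' := minimal_conj hx.1 hσ
  have hinv : Inv G σ (x * σ * x⁻¹) := by
    refine ((uni_or_inv hk2 hk3 hσ hσ').resolve_left fun hu => hA ?_).1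
    have h := (hu σ (mem_self hσ) _ (mem_self hσ')).1
    rw [nil_conj_quadratic hXX, sandwich_eq hSS, neg_eq_zero] at h
    exact h
  obtain ⟨t, ht, -, e1, e2⟩ := hinv σ (mem_self hσ) (ne_one_of_quadratic hσ.1)
  obtain ⟨r, hr, rfl⟩ : ∃ r ∈ sameActionSubgroup G σ, t = x * r * x⁻¹ := by
    rw [← conjBy_eq hx.1] at ht
    obtain ⟨r, hr, e⟩ := ht
    exact ⟨r, hr, e.symm⟩
  rw [nil_conj_quadratic hXX] at e1 e2
  have hRR := sameActionSubgroup_annihilate hr hr
  have hSR := sameActionSubgroup_annihilate (mem_self hσ) hr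
  have hRS := sameActionSubgroup_annihilate hr (mem_self hσ)
  have hr1 : r ≠ 1 := by
    rintro rfl
    rw [nil_eq_zero.2 rfl, mul_zero, zero_mul, mul_zero, zero_mul] at e1
    exact hS0 e1.symm
  have hrc := mem_class hr hr1
  have hrG : ∀ c : k, unit (c • nil r) (smul_sq hRR c) ∈ G := (mem_quadratic.1 hrc.1.1).2.2
  obtain ⟨S, hSd⟩ : ∃ S, S = nil σ := ⟨_, rfl⟩
  obtain ⟨X, hXd⟩ : ∃ X, X = nil x := ⟨_, rfl⟩
  obtain ⟨R, hRd⟩ : ∃ R, R = nil r := ⟨_, rfl⟩
  have hrange : LinearMap.range R = LinearMap.range S := hRd ▸ hSd ▸ hrc.2.2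
  have hker : LinearMap.ker R = LinearMap.ker S := hRd ▸ hSd ▸ hrc.2.1
  simp only [← hSd, ← hXd, ← hRd] at hne e1 e2 hSS hXX hRR hSR hRS hS0 hXG hSG hrG
  have zS : ∀ U : EndM, S * (S * U) = 0 := fun U => by rw [← mul_assoc, hSS, zero_mul]
  have zSR : ∀ U : EndM, S * (R * U) = 0 := fun U => by rw [← mul_assoc, hSR, zero_mul]
  have zRS : ∀ U : EndM, R * (S * U) = 0 := fun U => by rw [← mul_assoc, hRS, zero_mul]
  have h1 : S * X * R * X * S = -S := by
    have h : S * ((1 + X) * R * (1 - X)) * S = -(S * X * R * X * S) := by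
      simp only [mul_add, add_mul, mul_sub, sub_mul, mul_one, one_mul, mul_assoc, hRS, zSR, hSR,
        mul_zero, zero_add, zero_sub, sub_zero]
    rw [h, neg_eq_iff_eq_neg] at e1
    exact e1
  have h2' : R * X * S * X * R = -R := by
    have e : (1 + X) * R * (1 - X) * S * ((1 + X) * R * (1 - X)) =
        (1 + X) * (R * ((1 - X) * S * (1 + X)) * R) * (1 - X) := by simp only [mul_assoc]
    have h : R * ((1 - X) * S * (1 + X)) * R = -(R * X * S * X * R) := by
      simp only [mul_add, add_mul, mul_sub, sub_mul, mul_one, one_mul, mul_assoc, hRS, hSR, zRS, neg_mul,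
        mul_zero, zero_add, zero_sub, sub_zero, neg_zero, add_zero]
    rw [e, h] at e2
    have i1 : (1 - X) * (1 + X) = 1 := by
      rw [sub_mul, mul_add, mul_one, one_mul, mul_add, mul_one, hXX]; abel
    have h3 := congrArg (fun U => (1 - X) * U * (1 + X)) e2
    simp only [mul_assoc, i1, mul_one] at h3
    simp only [← mul_assoc, i1, one_mul] at h3
    exact neg_eq_iff_eq_neg.1 h3
  have hi : S * X * R * X * R = -R := LinearMap.ext fun v => by
    obtain ⟨w, hw⟩ : R v ∈ LinearMap.range S := hrange ▸ LinearMap.mem_range_self R v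
    rw [Module.End.mul_apply, ← hw, ← Module.End.mul_apply, h1, LinearMap.neg_apply, LinearMap.neg_apply, hw]
  have hi' : R * X * S * X * S = -S := LinearMap.ext fun v => by
    obtain ⟨w, hw⟩ : S v ∈ LinearMap.range R := hrange.symm ▸ LinearMap.mem_range_self S v
    rw [Module.End.mul_apply, ← hw, ← Module.End.mul_apply, h2', LinearMap.neg_apply, LinearMap.neg_apply, hw]
  have hj : R * X * R * X * S = -R := LinearMap.ext fun v => by
    have h : (R * X * S) v + (S * X * R * X * S) v = (R * X * S) v - S v := by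
      rw [h1, LinearMap.neg_apply, sub_eq_add_neg]
    have h0 : (X * R * X * S) v + v ∈ LinearMap.ker S := by
      rw [LinearMap.mem_ker, map_add, ← Module.End.mul_apply]
      simp only [← mul_assoc]
      rw [h1, LinearMap.neg_apply, neg_add_cancel]
    rw [← hker, LinearMap.mem_ker, map_add, ← Module.End.mul_apply] at h0
    simp only [← mul_assoc] at h0
    rw [LinearMap.neg_apply, eq_neg_iff_add_eq_zero]
    exact h0
  obtain ⟨U, hU⟩ : ∃ U, U = S * X * R + R * X * S := ⟨_, rfl⟩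
  have hSU : ∀ v, U v ∈ LinearMap.range S := fun v => by
    rw [hU, LinearMap.add_apply]
    refine add_mem ?_ (hrange ▸ ?_)
    · rw [mul_assoc]; exact LinearMap.mem_range_self S _
    · rw [mul_assoc]; exact LinearMap.mem_range_self R _
  have hUU : U * U = 0 := by
    simp only [hU, mul_add, add_mul, mul_assoc, zRS, zSR, zS, hRR, ← mul_assoc R R, zero_mul, mul_zero, add_zero]
  obtain ⟨t₀, ht0, ht1⟩ := exists_square_ne hk2 hk3 (k := k)
  have hfam : ∀ c : k, unit (c • U) (smul_sq hUU c) ∈ G := by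
    intro c
    by_cases hc : c = 0
    · rw [show unit (c • U) (smul_sq hUU c) = 1 from nil_inj (by rw [nil_unit, hc, zero_smul, nil_eq_zero.2 rfl])]
      exact one_mem _
    -- scale `X` by `d`, `R` by `d⁻²`
    obtain ⟨d, hd⟩ : ∃ d, d = (t₀ * t₀ - 1) / c := ⟨_, rfl⟩
    have hd0 : d ≠ 0 := hd ▸ div_ne_zero (sub_ne_zero.2 ht1) hc
    obtain ⟨X', hX'⟩ : ∃ X', X' = d • X := ⟨_, rfl⟩
    obtain ⟨R', hR'⟩ : ∃ R', R' = (d * d)⁻¹ • R := ⟨_, rfl⟩
    have gX : X' * X' = 0 := hX' ▸ smul_sq hXX d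
    have gR : R' * R' = 0 := hR' ▸ smul_sq hRR _
    have gSR : S * R' = 0 := by rw [hR', mul_smul_comm, hSR, smul_zero]
    have gRS : R' * S = 0 := by rw [hR', smul_mul_assoc, hRS, smul_zero]
    have hdd : d * ((d * d)⁻¹ * d) = 1 := by field_simp
    have g1 : S * X' * R' * X' * S = -S := by
      simp only [hX', hR', smul_mul_assoc, mul_smul_comm, smul_smul, h1]
      rw [show d * ((d * d)⁻¹ * d) = 1 from hdd, one_smul]
    have g2 : R' * X' * S * X' * R' = -R' := by
      simp only [hX', hR', smul_mul_assoc, mul_smul_comm, smul_smul, h2', smul_neg]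
      congr 2; field_simp
    have gi : S * X' * R' * X' * R' = -R' := by
      simp only [hX', hR', smul_mul_assoc, mul_smul_comm, smul_smul, hi, smul_neg]
      congr 2; field_simp
    have gj : R' * X' * R' * X' * S = -R' := by
      simp only [hX', hR', smul_mul_assoc, mul_smul_comm, smul_smul, hj, smul_neg]
      congr 2; field_simp
    have i1 : ∀ Y : EndM, Y * Y = 0 → (1 - Y) * (1 + Y) = 1 := fun Y hY => by
      rw [sub_mul, mul_add, mul_one, one_mul, mul_add, mul_one, hY]; abel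
    have i2 : ∀ Y : EndM, Y * Y = 0 → (1 + Y) * (1 - Y) = 1 := fun Y hY => by
      rw [add_mul, mul_sub, mul_one, one_mul, mul_sub, mul_one, hY]; abel
    have partner : ∀ (Y : EndM) (hY : Y * Y = 0), unit Y hY ∈ G → S * Y * R' * Y * S = -S →
        R' * Y * S * Y * R' = -R' → ∃ T, T = (1 + Y) * R' * (1 - Y) ∧ ∃ hT : T * T = 0,
          S * T * S = S ∧ T * S * T = T ∧ ∀ a : k, unit (a • T) (smul_sq hT a) ∈ G := by
      intro Y hY hYG q1 q2
      obtain ⟨T, hT⟩ : ∃ T, T = (1 + Y) * R' * (1 - Y) := ⟨_, rfl⟩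
      have zi : ∀ Z : EndM, (1 - Y) * ((1 + Y) * Z) = Z := fun Z => by rw [← mul_assoc, i1 Y hY, one_mul]
      have zR : ∀ Z : EndM, R' * (R' * Z) = 0 := fun Z => by rw [← mul_assoc, gR, zero_mul]
      have hTT : T * T = 0 := by simp only [hT, mul_assoc, zi, zR, mul_zero]
      have zR1 : ∀ Z : EndM, S * (R' * Z) = 0 := fun Z => by rw [← mul_assoc, gSR, zero_mul]
      have zR2 : ∀ Z : EndM, R' * (S * Z) = 0 := fun Z => by rw [← mul_assoc, gRS, zero_mul]
      refine ⟨T, hT, hTT, ?_, ?_, fun a => ?_⟩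
      · have h : S * T * S = -(S * Y * R' * Y * S) := by
          simp only [hT, mul_add, add_mul, mul_sub, sub_mul, mul_one, one_mul, mul_assoc, gRS, gSR, zR1,
            mul_zero, zero_add, zero_sub, sub_zero]
        rw [h, q1, neg_neg]
      · have e : T * S * T = (1 + Y) * (R' * ((1 - Y) * S * (1 + Y)) * R') * (1 - Y) := by
          simp only [hT, mul_assoc]
        have h : R' * ((1 - Y) * S * (1 + Y)) * R' = -(R' * Y * S * Y * R') := by
          simp only [mul_add, add_mul, mul_sub, sub_mul, mul_one, one_mul, mul_assoc, gRS, gSR, zR2, neg_mul,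
            mul_zero, zero_add, zero_sub, sub_zero, neg_zero, add_zero]
        rw [e, h, q2, neg_neg, ← hT]
      · rw [show unit (a • T) (smul_sq hTT a) =
          unit Y hY * unit ((a * (d * d)⁻¹) • R) (smul_sq hRR _) * (unit Y hY)⁻¹ from nil_inj (by
            rw [nil_conj_quadratic (by rw [nil_unit]; exact hY), nil_unit, nil_unit, nil_unit, hT, hR']
            simp only [smul_mul_assoc, mul_smul_comm, smul_smul])]
        exact mul_mem (mul_mem hYG (hrG _)) (inv_mem hYG)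
    obtain ⟨T₁, hT₁, hT₁2, a1, a2, a3⟩ := partner X' gX (hX' ▸ hXG d) g1 g2
    have gXn : -X' * -X' = 0 := by rw [neg_mul_neg, gX]
    obtain ⟨T₂, hT₂, hT₂2, b1, b2, b3⟩ := partner (-X') gXn (by
        have := hXG (-d)
        convert this using 2
        rw [hX', neg_smul])
      (by simp only [mul_neg, neg_mul, neg_neg]; exact g1) (by simp only [mul_neg, neg_mul, neg_neg]; exact g2)
    have hg : sl2Hom S T₁ hSS hT₁2 a1 a2 (SL2.h t₀) * sl2Hom S T₂ hSS hT₂2 b1 b2 (SL2.h t₀⁻¹) ∈ G :=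
      mul_mem (sl2Hom_mem hSS hT₁2 a1 a2 hSG a3 _) (sl2Hom_mem hSS hT₂2 b1 b2 hSG b3 _)
    have hh : unit (c • U) (smul_sq hUU c) =
        sl2Hom S T₁ hSS hT₁2 a1 a2 (SL2.h t₀) * sl2Hom S T₂ hSS hT₂2 b1 b2 (SL2.h t₀⁻¹) := by
      refine nil_inj ?_
      rw [nil_unit, nil_mul, nil_sl2Hom, nil_sl2Hom, SL2.h_entries ht0, SL2.h_entries (inv_ne_zero ht0)]
      simp only [Matrix.of_apply, Matrix.cons_val', Matrix.cons_val_zero, Matrix.cons_val_one,
        Matrix.empty_val', Matrix.cons_val_fin_one, inv_inv, zero_smul, add_zero]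
      rw [hT₁, hT₂, sub_neg_eq_add, ← sub_eq_add_neg 1 X',
        torus_mem hSS gX gR gSR gRS g1 g2 gi gj (t₀ - 1) (t₀⁻¹ - 1) (by field_simp; ring), hU, hX', hR']
      simp only [smul_mul_assoc, mul_smul_comm, smul_smul, smul_add]
      have hn : (t₀ * t₀ - 1 : k) ≠ 0 := sub_ne_zero.2 ht1
      have hn' : (t₀ ^ 2 - 1 : k) ≠ 0 := by rwa [sq]
      congr 2 <;> (rw [hd]; field_simp; ring)
    exact hh ▸ hg
  have hm : (-(2 : k)⁻¹) ≠ 0 := neg_ne_zero.2 (inv_ne_zero h2)
  obtain ⟨P, hP⟩ : ∃ P, P = (-(2 : k)⁻¹) • U := ⟨_, rfl⟩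
  have hPXS : P * X * S = S := by
    rw [hP, hU, smul_mul_assoc, smul_mul_assoc, add_mul, add_mul, h1, hi']
    rw [neg_smul, ← smul_neg, neg_add, neg_neg, ← two_smul k S, smul_smul, inv_mul_cancel₀ h2, one_smul]
  have hPXP : P * X * P = P := LinearMap.ext fun v => by
    obtain ⟨w, hw⟩ : P v ∈ LinearMap.range S := by
      rw [hP, LinearMap.smul_apply]; exact Submodule.smul_mem _ _ (hSU v)
    rw [Module.End.mul_apply, ← hw, ← Module.End.mul_apply, hPXS]
  have hP2 : P * P = 0 := hP ▸ smul_sq hUU _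
  have hP0 : P ≠ 0 := fun h => hS0 (by rw [← hPXS, h, zero_mul, zero_mul])
  have hPq : unit P hP2 ∈ quadraticElements G := mem_quadratic.2
    ⟨by rw [nil_unit]; exact hP2, by rw [nil_unit]; exact hP0, fun c => by
      have := hfam (c * -(2 : k)⁻¹)
      convert this using 2
      rw [nil_unit, hP, smul_smul]⟩
  refine ⟨unit P hP2, ⟨hPq, fun z hz => ?_⟩, by rw [nil_unit, ← hXd, hPXP]⟩
  refine le_trans ?_ (hσ.2 z hz)
  show Module.finrank k (LinearMap.range (nil (unit P hP2))) ≤ Module.finrank k (LinearMap.range (nil σ))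
  rw [nil_unit, ← hSd]
  refine Submodule.finrank_mono ?_
  rintro _ ⟨v, rfl⟩
  rw [hP, LinearMap.smul_apply]; exact Submodule.smul_mem _ _ (hSU v)

/-- A quadratic element that is not reduced splits off a minimal one. -/
theorem exists_split (hk2 : ringChar k ≠ 2) (hk3 : Nat.card k ≠ 3) (hx : x ∈ quadraticElements G)
    (hX : ¬ Red G (nil x)) :
    ∃ y ∈ minimalQuadraticElements G, nil y * nil x = 0 ∧ nil x * nil y = 0 ∧
      (x * y⁻¹ = 1 ∨ x * y⁻¹ ∈ quadraticElements G ∧ commutatorRank (x * y⁻¹) < commutatorRank x ∧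
        nil (x * y⁻¹) = nil x - nil y) := by
  unfold Red at hX
  push Not at hX
  obtain ⟨σ, hσ, hne⟩ := hX
  obtain ⟨ρ, hρ, e⟩ := exists_projection hk2 hk3 hx hσ hne
  obtain ⟨hXX, -, -⟩ := mem_quadratic.1 hx
  obtain ⟨hRR, hR0, -⟩ := mem_quadratic.1 hρ.1
  have hρi := inv_mem (s := G) hρ.1.1
  have hmin : x * ρ⁻¹ * x⁻¹ ∈ minimalQuadraticElements G := minimal_conj hx.1
    (mem_class (inv_mem (mem_self hρ)) (inv_ne_one.2 (ne_one_of_quadratic hρ.1))).1
  obtain ⟨y, hy⟩ : ∃ y, y = ρ⁻¹ * (x * ρ⁻¹ * x⁻¹) * ρ⁻¹⁻¹ := ⟨_, rfl⟩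
  have hym : y ∈ minimalQuadraticElements G := hy ▸ minimal_conj hρi hmin
  have hye : nil y = nil x * nil ρ * nil x := by
    rw [hy, nil_conj_quadratic (by rw [nil_inv hRR, neg_mul_neg, hRR]), nil_conj_quadratic hXX, nil_inv hRR]
    generalize nil x = X at *
    generalize nil ρ = R at *
    have zR : ∀ Z : EndM, R * (R * Z) = 0 := fun Z => by rw [← mul_assoc, hRR, zero_mul]
    have e' : ∀ Z : EndM, R * (X * (R * Z)) = R * Z := fun Z => by rw [← mul_assoc, ← mul_assoc, e]
    have e'' : R * (X * R) = R := by rw [← mul_assoc, e]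
    simp only [mul_add, add_mul, mul_sub, sub_mul, mul_neg, neg_mul, mul_one, one_mul, mul_assoc, hRR, zR,
      e', e'', mul_zero, neg_zero, neg_neg]
    abel
  have hyX : nil y * nil x = 0 := by rw [hye, mul_assoc _ (nil x) (nil x), hXX, mul_zero]
  have hXy : nil x * nil y = 0 := by rw [hye, ← mul_assoc, ← mul_assoc, hXX, zero_mul, zero_mul]
  refine ⟨y, hym, hyX, hXy, ?_⟩
  by_cases h1 : x * y⁻¹ = 1
  · exact Or.inl h1
  have hyy := (mem_quadratic.1 hym.1).1
  have hne' : nil x + nil y⁻¹ ≠ 0 := fun h => h1 (nil_eq_zero.1 (by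
    rw [nil_mul, nil_inv hyy, mul_neg, hXy, neg_zero, zero_add, ← nil_inv hyy, h]))
  obtain ⟨hq, hqe⟩ := mul_quadratic hx (inv_quadratic hym.1)
    (by rw [nil_inv hyy, mul_neg, hXy, neg_zero]) (by rw [nil_inv hyy, neg_mul, hyX, neg_zero]) hne'
  rw [nil_inv hyy, ← sub_eq_add_neg] at hqe
  refine Or.inr ⟨hq, ?_, hqe⟩
  show Module.finrank k (LinearMap.range (nil (x * y⁻¹))) < Module.finrank k (LinearMap.range (nil x))
  rw [hqe, hye]
  generalize nil x = X at *
  generalize nil ρ = R at *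
  refine Submodule.finrank_lt_finrank_of_lt (lt_of_le_of_ne ?_ fun heq => ?_)
  · rintro _ ⟨v, rfl⟩
    rw [LinearMap.sub_apply]
    refine sub_mem (LinearMap.mem_range_self X v) ?_
    rw [mul_assoc]; exact LinearMap.mem_range_self X _
  · apply hR0
    have h : X * R * X = 0 := by
      refine LinearMap.ext fun v => ?_
      obtain ⟨w, hw⟩ : X v ∈ LinearMap.range (X - X * R * X) := heq ▸ LinearMap.mem_range_self X v
      rw [Module.End.mul_apply, ← hw, ← Module.End.mul_apply]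
      have e' : X * R * (X - X * R * X) = 0 := by
        rw [mul_sub, show X * R * (X * R * X) = X * (R * X * R) * X by simp only [mul_assoc], e, sub_self]
      rw [e']; rfl
    calc R = R * X * R * X * R := by rw [e, e]
      _ = R * (X * R * X) * R := by simp only [mul_assoc]
      _ = 0 := by rw [h, mul_zero, zero_mul]

end Cfsg.Agent.RootSubgroups.Cls
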