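import Cfsg.Agent.Lib.RootSubgroups.Basic

/-!
A rank one group with a quadratic module is special.
-/

set_option autoImplicit false
open Cfsg

namespace Cfsg.Agent.RootSubgroups

variable {X : Type*} [Group X] {A B : Subgroup X} {N : Type*} [AddCommGroup N] [DistribMulAction X N]

theorem special_of_quadratic (hgen : A ⊔ B = ⊤) (hp : IsRankOnePair A B)
    (hq : ∀ a ∈ A, ∀ a' ∈ A, ∀ n : N, a' • (a • n - n) = a • n - n)
    (hX : ∃ x y : X, ∃ n : N, y • (x • n - n) ≠ x • n - n) : IsSpecialRankOnePair A B := by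
  refine ⟨hp, fun a ha ha1 b hb hb1 he => ?_⟩
  obtain ⟨g, -, hg⟩ := exists_conj_right hp
  have hqB : ∀ y ∈ B, ∀ y' ∈ B, ∀ n : N, y' • (y • n - n) = y • n - n := by
    rw [← hg]
    rintro _ ⟨u, hu, rfl⟩ _ ⟨u', hu', rfl⟩ n
    change (g * u' * g⁻¹) • ((g * u * g⁻¹) • n - n) = (g * u * g⁻¹) • n - n
    have h1 : (g * u * g⁻¹) • n - n = g • (u • (g⁻¹ • n) - g⁻¹ • n) := by
      rw [smul_sub, mul_smul, mul_smul, smul_inv_smul]
    rw [h1, mul_smul, mul_smul, inv_smul_smul, hq u hu u' hu']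
  -- `P = [N, A]` and `Q = [N, B]`
  let P : AddSubgroup N := AddSubgroup.closure {m | ∃ u ∈ A, ∃ n : N, m = u • n - n}
  let Q : AddSubgroup N := AddSubgroup.closure {m | ∃ u ∈ B, ∃ n : N, m = u • n - n}
  have hPfix : ∀ u ∈ A, ∀ p ∈ P, u • p = p := by
    intro u hu p hp'
    induction hp' using AddSubgroup.closure_induction with
    | mem x hx => obtain ⟨u', hu', n, rfl⟩ := hx; exact hq u' hu' u hu n
    | zero => rw [smul_zero]
    | add x y _ _ hx hy => rw [smul_add, hx, hy]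
    | neg x _ hx => rw [smul_neg, hx]
  have hQfix : ∀ u ∈ B, ∀ q ∈ Q, u • q = q := by
    intro u hu p hp'
    induction hp' using AddSubgroup.closure_induction with
    | mem x hx => obtain ⟨u', hu', n, rfl⟩ := hx; exact hqB u' hu' u hu n
    | zero => rw [smul_zero]
    | add x y _ _ hx hy => rw [smul_add, hx, hy]
    | neg x _ hx => rw [smul_neg, hx]
  have hall : ∀ f : N, (∀ u ∈ A, u • f = f) → (∀ u ∈ B, u • f = f) → ∀ x : X, x • f = f := by
    intro f h1 h2 x
    have hle : A ⊔ B ≤ MulAction.stabilizer X f := sup_le h1 h2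
    exact hle (hgen ▸ Subgroup.mem_top x)
  have hPQ : ∀ f : N, f ∈ P → f ∈ Q → ∀ x : X, x • f = f := fun f h1 h2 =>
    hall f (fun u hu => hPfix u hu f h1) (fun u hu => hQfix u hu f h2)
  -- transport along the common conjugate
  have trans : ∀ {A' B' : Subgroup X} {s t : X}, conjBy A' s⁻¹ = conjBy B' t⁻¹ →
      ∀ p ∈ AddSubgroup.closure {m | ∃ u ∈ A', ∃ n : N, m = u • n - n},
        t • s⁻¹ • p ∈ AddSubgroup.closure {m | ∃ u ∈ B', ∃ n : N, m = u • n - n} := by
    intro A' B' s t hst p hp'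
    induction hp' using AddSubgroup.closure_induction with
    | mem x hx =>
      obtain ⟨u, hu, n, rfl⟩ := hx
      have h1 : s⁻¹ * u * s⁻¹⁻¹ ∈ conjBy B' t⁻¹ := hst ▸ conj_mem_conjBy hu
      obtain ⟨w, hw, hwe⟩ := h1
      change t⁻¹ * w * t⁻¹⁻¹ = s⁻¹ * u * s⁻¹⁻¹ at hwe
      refine AddSubgroup.subset_closure ⟨w, hw, t • s⁻¹ • n, ?_⟩
      have h2 : t * s⁻¹ * u = w * (t * s⁻¹) := by
        calc t * s⁻¹ * u = t * (s⁻¹ * u * s⁻¹⁻¹) * s⁻¹ := by group
          _ = _ := by rw [← hwe]; group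
      simp only [smul_sub, smul_smul]
      rw [← mul_assoc, h2]
    | zero => simp
    | add x y _ _ hx hy => simp only [smul_add]; exact add_mem hx hy
    | neg x _ hx => simp only [smul_neg]; exact neg_mem hx
  let α : N →+ N := DistribMulAction.toAddMonoidHom N a - AddMonoidHom.id N
  let β : N →+ N := DistribMulAction.toAddMonoidHom N b - AddMonoidHom.id N
  have hαP : ∀ n, α n ∈ P := fun n => AddSubgroup.subset_closure ⟨a, ha, n, rfl⟩
  have hβQ : ∀ n, β n ∈ Q := fun n => AddSubgroup.subset_closure ⟨b, hb, n, rfl⟩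
  have ha' : ∀ n, a • n = n + α n := fun n => by simp [α]
  have hb' : ∀ n, b • n = n + β n := fun n => by simp [β]
  have hα0 : ∀ p ∈ P, α p = 0 := fun p hp' => by simp [α, hPfix a ha p hp']
  have hβ0 : ∀ q ∈ Q, β q = 0 := fun q hq' => by simp [β, hQfix b hb q hq']
  have hai : ∀ n, a⁻¹ • n = n - α n := fun n => by
    rw [inv_smul_eq_iff, smul_sub, ha' n, ha' (α n), hα0 _ (hαP n)]; abel
  have hbi : ∀ n, b⁻¹ • n = n - β n := fun n => by
    rw [inv_smul_eq_iff, smul_sub, hb' n, hb' (β n), hβ0 _ (hβQ n)]; abel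
  have invP : ∀ p ∈ P, ∀ x : X, x • (p - α (β p)) = p - α (β p) := by
    intro p hp'
    have h1 : p - β p + α (p - β p) ∈ Q := by
      have := trans (s := b) (t := a) he p hp'
      rwa [hbi, ha'] at this
    rw [map_sub, hα0 p hp', zero_sub, ← sub_eq_add_neg] at h1
    refine hPQ _ (sub_mem hp' (hαP _)) ?_
    have h2 := add_mem h1 (hβQ p)
    rwa [show p - β p - α (β p) + β p = p - α (β p) by abel] at h2
  have invQ : ∀ q ∈ Q, ∀ x : X, x • (q - β (α q)) = q - β (α q) := by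
    intro q hq'
    have h1 : q - α q + β (q - α q) ∈ P := by
      have := trans (s := a) (t := b) he.symm q hq'
      rwa [hai, hb'] at this
    rw [map_sub, hβ0 q hq', zero_sub, ← sub_eq_add_neg] at h1
    refine hPQ _ ?_ (sub_mem hq' (hβQ _))
    have h2 := add_mem h1 (hαP q)
    rwa [show q - α q - β (α q) + α q = q - β (α q) by abel] at h2
  -- the elements acting trivially modulo the fixed points
  let Y : Subgroup X :=
    { carrier := {y | ∀ n : N, ∀ x : X, x • (y • n - n) = y • n - n}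
      one_mem' := by simp
      mul_mem' := by
        intro y z hy hz n x
        rw [mul_smul, show y • z • n - n = (y • z • n - z • n) + (z • n - n) by abel, smul_add,
          hy, hz]
      inv_mem' := by
        intro y hy n x
        have h1 := hy (y⁻¹ • n) x
        rw [smul_inv_smul] at h1
        rw [← neg_sub, smul_neg, h1] }
  obtain ⟨e, hedef⟩ : ∃ e, e = (a⁻¹ * b⁻¹ * a)⁻¹ * (b⁻¹ * a * b) := ⟨_, rfl⟩
  have heY : e ∈ Y := by
    intro n
    have hf : ∀ x : X, x • ((b⁻¹ * a * b) • n - (a⁻¹ * b⁻¹ * a) • n) =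
        (b⁻¹ * a * b) • n - (a⁻¹ * b⁻¹ * a) • n := by
      intro x
      have hd : (b⁻¹ * a * b) • n - (a⁻¹ * b⁻¹ * a) • n =
          (α n - α (β (α n))) + (β n - β (α (β n))) := by
        simp only [mul_smul, ha', hb', hai, hbi, map_add, map_sub]
        rw [hα0 _ (hαP n), hβ0 _ (hβQ n)]
        abel
      rw [hd, smul_add, invP _ (hαP n), invQ _ (hβQ n)]
    intro x
    have h1 : e • n - n = (a⁻¹ * b⁻¹ * a)⁻¹ • ((b⁻¹ * a * b) • n - (a⁻¹ * b⁻¹ * a) • n) := by
      rw [smul_sub, inv_smul_smul, hedef, mul_smul]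
    rw [h1, hf, hf]
  have hYn : A ⊔ B ≤ Subgroup.normalizer (Y : Set X) := by
    intro z _
    rw [Subgroup.mem_normalizer_iff]
    have key : ∀ z y : X, y ∈ Y → z * y * z⁻¹ ∈ Y := by
      intro z y hy n x
      have h1 : (z * y * z⁻¹) • n - n = z • (y • z⁻¹ • n - z⁻¹ • n) := by
        rw [smul_sub, mul_smul, mul_smul, smul_inv_smul]
      rw [h1, hy (z⁻¹ • n) z, hy (z⁻¹ • n) x]
    exact fun y => ⟨key z y, fun h => by simpa [mul_assoc] using key z⁻¹ _ h⟩
  rcases normal_dichotomy hp (N := Y) (by rw [hgen]; exact le_top) hYn with hY | hY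
  · exfalso
    have hBfix : ∀ u ∈ B, ∀ n : N, ∀ x : X, x • (u • n - n) = u • n - n := by
      intro u hu n
      refine hall _ ?_ (fun v hv => hqB u hu v hv n)
      intro v hv
      have hm : u ∈ A ⊔ Y := by rw [sup_comm, hY]; exact Subgroup.mem_sup_right hu
      have hYnorm : Y.Normal := ⟨fun y hy z =>
        (Subgroup.mem_normalizer_iff.1 (hYn (hgen ▸ Subgroup.mem_top z)) y).1 hy⟩
      rw [Subgroup.mem_sup_of_normal_right] at hm
      obtain ⟨a', ha'', y, hy, rfl⟩ := hm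
      rw [mul_smul, show a' • y • n - n = (a' • (y • n) - y • n) + (y • n - n) by abel, smul_add,
        hq a' ha'' v hv, hy n v]
    obtain ⟨x, y, n, hne⟩ := hX
    have hBY : B ≤ Y := fun u hu => hBfix u hu
    have hAY : A ≤ Y := by
      intro u hu
      have h1 : g * u * g⁻¹ ∈ Y := hBY (hg ▸ conj_mem_conjBy hu)
      exact (Subgroup.mem_normalizer_iff.1 (hYn (hgen ▸ Subgroup.mem_top g)) u).2 h1
    exact hne ((sup_le hAY hBY : A ⊔ B ≤ Y) (hgen ▸ Subgroup.mem_top x) n y)
  · have hD : e ∈ conjBy A b⁻¹ := by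
      rw [hedef]
      refine mul_mem (inv_mem ?_) (by simpa using conj_mem_conjBy (g := b⁻¹) ha)
      rw [he]
      simpa using conj_mem_conjBy (g := a⁻¹) (inv_mem hb)
    have hcen := hY e heY
    have hA' : e ∈ A := by
      have h1 := mem_conjBy.1 hD
      rw [inv_inv] at h1
      rwa [← hcen b (Subgroup.mem_sup_right hb), mul_inv_cancel_right] at h1
    have h1 := eq_one_of_centralizes hp hA' fun u hu => hcen u (Subgroup.mem_sup_right hu)
    rw [hedef, inv_mul_eq_one] at h1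
    exact h1.symm

theorem comm_of_quadratic {H : Subgroup X} (hf : ∀ x : X, (∀ v : N, x • v = v) → x = 1)
    (hq : ∀ a ∈ H, ∀ a' ∈ H, ∀ v : N, a' • (a • v - v) = a • v - v) :
    ∀ a ∈ H, ∀ a' ∈ H, a * a' = a' * a := by
  intro a ha a' ha'
  have h1 : ∀ v : N, (a * a') • v = (a' * a) • v := by
    intro v
    have e1 := hq a' ha' a ha v
    have e2 := hq a ha a' ha' v
    rw [smul_sub, sub_eq_iff_eq_add] at e1 e2
    rw [mul_smul, mul_smul, e1, e2]
    abel
  have h2 := hf ((a' * a)⁻¹ * (a * a')) fun v => by rw [mul_smul, h1, inv_smul_smul]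
  exact (inv_mul_eq_one.1 h2).symm

end Cfsg.Agent.RootSubgroups
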