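import Cfsg.Agent.Lib.RootSubgroups.SL2

/-!
Special rank one pairs with abelian unipotent subgroups: the partner map, its behaviour on powers,
`⁅A, H⁆ = A`, and the subgroups `(P)SL₂(p)` generated by a partner pair.
-/

set_option autoImplicit false
set_option linter.unusedSectionVars false
open Cfsg

namespace Cfsg.Agent.RootSubgroups

variable {G : Type*} [Group G] {A B : Subgroup G} {a c : G}

/-- A special rank one pair with abelian unipotent subgroups. -/
structure SAB (A B : Subgroup G) : Prop where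
  pair : IsRankOnePair A B
  special : ∀ a ∈ A, a ≠ 1 → ∀ b ∈ B, b ≠ 1 → conjBy A b⁻¹ = conjBy B a⁻¹ →
    b⁻¹ * a * b = a⁻¹ * b⁻¹ * a
  commA : ∀ x ∈ A, ∀ y ∈ A, x * y = y * x
  commB : ∀ x ∈ B, ∀ y ∈ B, x * y = y * x

theorem SAB.of (hs : IsSpecialRankOnePair A B) (hab : HasAbelianUnipotents A B) : SAB A B :=
  ⟨hs.1, hs.2, fun _ hx _ hy => comm_of_comm hab.1 hx hy, fun _ hx _ hy => comm_of_comm hab.2 hx hy⟩

theorem SAB.symm (h : SAB A B) : SAB B A := by
  refine ⟨pair_symm h.pair, fun b hb hb1 a ha ha1 he => ?_, h.commB, h.commA⟩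
  have h1 := h.special a ha ha1 b hb hb1 he.symm
  calc a⁻¹ * b * a = (a⁻¹ * b⁻¹ * a)⁻¹ := by group
    _ = (b⁻¹ * a * b)⁻¹ := by rw [h1]
    _ = _ := by group

/-- Two unipotent subgroups sharing a non-identity element are equal. -/
theorem eq_of_common (h : IsRankOnePair A B) {C D : Subgroup G} (hC : C ∈ unipotentSubgroups A B)
    (hD : D ∈ unipotentSubgroups A B) {x : G} (hxC : x ∈ C) (hxD : x ∈ D) (hx1 : x ≠ 1) : C = D := by
  by_contra hne
  have h1 := inf_eq_bot (pair_of_mem h hC hD hne).1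
  exact hx1 (Subgroup.mem_bot.1 (h1 ▸ Subgroup.mem_inf.2 ⟨hxC, hxD⟩))

/-- `a` and `c` are associated: `c = b(a)⁻¹`. -/
def Rel (A B : Subgroup G) (a c : G) : Prop :=
  a ∈ A ∧ a ≠ 1 ∧ c ∈ B ∧ c ≠ 1 ∧ conjBy A c = conjBy B a⁻¹

theorem Rel.exists_right (h : IsRankOnePair A B) (ha : a ∈ A) (ha1 : a ≠ 1) :
    ∃ c, Rel A B a c := by
  obtain ⟨b, hb, hb1, he⟩ := h.cond_left a ha ha1
  exact ⟨b⁻¹, ha, ha1, inv_mem hb, inv_ne_one.2 hb1, he⟩

theorem Rel.exists_left (h : IsRankOnePair A B) (hc : c ∈ B) (hc1 : c ≠ 1) :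
    ∃ a, Rel A B a c := by
  obtain ⟨a, ha, ha1, he⟩ := conj_left_by_right h hc hc1
  exact ⟨a⁻¹, inv_mem ha, inv_ne_one.2 ha1, hc, hc1, by rw [inv_inv]; exact he⟩

theorem Rel.right_unique (h : IsRankOnePair A B) {c' : G} (h1 : Rel A B a c) (h2 : Rel A B a c') :
    c = c' := by
  have := partner_unique h (inv_mem h1.2.2.1) (inv_mem h2.2.2.1)
    (by rw [inv_inv, inv_inv, h1.2.2.2.2, h2.2.2.2.2])
  exact inv_injective this

theorem Rel.left_unique (h : IsRankOnePair A B) {a' : G} (h1 : Rel A B a c) (h2 : Rel A B a' c) :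
    a = a' :=
  partner_unique (pair_symm h) h1.1 h2.1 (h1.2.2.2.2.symm.trans h2.2.2.2.2)

theorem Rel.braid (hs : SAB A B) (h : Rel A B a c) : a * c * a = c * a * c := by
  obtain ⟨ha, ha1, hc, hc1, he⟩ := h
  have h1 := hs.special a ha ha1 c⁻¹ (inv_mem hc) (inv_ne_one.2 hc1) (by rw [inv_inv]; exact he)
  rw [inv_inv] at h1
  calc a * c * a = a * (c * a * c⁻¹) * c := by group
    _ = a * (a⁻¹ * c * a) * c := by rw [h1]
    _ = c * a * c := by group

theorem Rel.inv (hs : SAB A B) (h : Rel A B a c) : Rel A B a⁻¹ c⁻¹ := by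
  have hbr := h.braid hs
  obtain ⟨ha, ha1, hc, hc1, he⟩ := h
  refine ⟨inv_mem ha, inv_ne_one.2 ha1, inv_mem hc, inv_ne_one.2 hc1, ?_⟩
  rw [inv_inv]
  refine eq_of_common hs.pair
    (conjBy_mem_unipotent (left_mem A B) (Subgroup.mem_sup_right (inv_mem hc)))
    (conjBy_mem_unipotent (right_mem hs.pair) (Subgroup.mem_sup_left ha))
    (x := c⁻¹ * a * c) (by simpa using conj_mem_conjBy (g := c⁻¹) ha) ?_
    (fun e => ha1 (by simpa [mul_assoc] using congrArg (fun z => c * z * c⁻¹) e))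
  have : c⁻¹ * a * c = a * c * a⁻¹ := by
    calc c⁻¹ * a * c = c⁻¹ * (a * c * a) * a⁻¹ := by group
      _ = c⁻¹ * (c * a * c) * a⁻¹ := by rw [hbr]
      _ = _ := by group
  rw [this]
  exact conj_mem_conjBy hc

theorem Rel.symm (hs : SAB A B) (h : Rel A B a c) : Rel B A c a := by
  obtain ⟨ha, ha1, hc, hc1, he⟩ := h.inv hs
  rw [inv_inv] at he
  exact ⟨by simpa using inv_mem hc, by simpa using hc1, by simpa using inv_mem ha,
    by simpa using ha1, he.symm⟩

/-- The monomial element attached to `a`. -/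
theorem Rel.swap (hs : SAB A B) (h : Rel A B a c) :
    (a * c * a) * a * (a * c * a)⁻¹ = c ∧ (a * c * a) * c * (a * c * a)⁻¹ = a ∧
      conjBy A (a * c * a) = B ∧ conjBy B (a * c * a) = A ∧ a * c * a ∈ A ⊔ B := by
  have hbr := h.braid hs
  obtain ⟨ha, ha1, hc, hc1, -⟩ := h
  have h1 : (a * c * a) * a * (a * c * a)⁻¹ = c := by
    calc (a * c * a) * a * (a * c * a)⁻¹ = (c * a * c) * a * (a * c * a)⁻¹ := by rw [← hbr]
      _ = c * (a * c * a) * (a * c * a)⁻¹ := by group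
      _ = c := by group
  have h2 : (a * c * a) * c * (a * c * a)⁻¹ = a := by
    calc (a * c * a) * c * (a * c * a)⁻¹ = a * (c * a * c) * (a * c * a)⁻¹ := by group
      _ = a := by rw [← hbr]; group
  have hw : a * c * a ∈ A ⊔ B :=
    mul_mem (mul_mem (Subgroup.mem_sup_left ha) (Subgroup.mem_sup_right hc))
      (Subgroup.mem_sup_left ha)
  refine ⟨h1, h2, ?_, ?_, hw⟩
  · exact eq_of_common hs.pair (conjBy_mem_unipotent (left_mem A B) hw) (right_mem hs.pair)
      (by have h3 := conj_mem_conjBy (g := a * c * a) ha; rwa [h1] at h3) hc hc1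
  · exact eq_of_common hs.pair (conjBy_mem_unipotent (right_mem hs.pair) hw) (left_mem A B)
      (by have h3 := conj_mem_conjBy (g := a * c * a) hc; rwa [h2] at h3) ha ha1

/-- The functional equation of the partner map. -/
theorem Rel.recursion (hs : SAB A B) (h : Rel A B a c) {u e : G} (hu : Rel A B u e) (hne : u ≠ a) :
    ∃ v, Rel A B v (e * c⁻¹) ∧
      Rel A B (a * v) ((a * c * a) * (a⁻¹ * u) * (a * c * a)⁻¹)⁻¹ := by
  obtain ⟨-, -, hwA, hwB, -⟩ := h.swap hs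
  obtain ⟨w, hw⟩ : ∃ w, w = a * c * a := ⟨_, rfl⟩
  rw [← hw] at hwA hwB ⊢
  obtain ⟨ha, ha1, hc, hc1, he⟩ := h
  have hq1 : e * c⁻¹ ≠ 1 := fun e' => hne (hu.left_unique hs.pair
    (by rw [mul_inv_eq_one.1 e']; exact ⟨ha, ha1, hc, hc1, he⟩))
  obtain ⟨v, hv⟩ := Rel.exists_left hs.pair (mul_mem hu.2.2.1 (inv_mem hc)) hq1
  refine ⟨v, hv, ?_⟩
  obtain ⟨-, -, -, -, hvi⟩ := hv.inv hs
  obtain ⟨-, -, -, -, hui⟩ := hu.inv hs
  rw [inv_inv] at hvi hui
  have hPv : conjBy B v = conjBy B (c * u) := by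
    rw [← hvi, mul_inv_rev, inv_inv, ← conjBy_conjBy, hui, conjBy_conjBy]
  obtain ⟨y, hy⟩ : ∃ y, y = w * (a⁻¹ * u) * w⁻¹ := ⟨_, rfl⟩
  rw [← hy]
  have hPav : conjBy B (a * v) = conjBy A y := by
    rw [← conjBy_conjBy, hPv, conjBy_conjBy, hy]
    have : a * (c * u) = w * (a⁻¹ * u) := by rw [hw]; group
    rw [this, show w * (a⁻¹ * u) * w⁻¹ = (w * (a⁻¹ * u)) * w⁻¹ from rfl, ← hwB,
      conjBy_conjBy, inv_mul_cancel_right]
  have hyB : y ∈ B := by rw [hy, ← hwA]; exact conj_mem_conjBy (mul_mem (inv_mem ha) hu.1)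
  have hy1 : y ≠ 1 := by
    intro h1
    rw [hy, conj_eq_one_iff, inv_mul_eq_one] at h1
    exact hne h1.symm
  obtain ⟨x, hx⟩ := Rel.exists_left hs.pair (inv_mem hyB) (inv_ne_one.2 hy1)
  obtain ⟨-, -, -, -, hxi⟩ := hx.inv hs
  rw [inv_inv, inv_inv] at hxi
  rw [hxi] at hPav
  have hfix : conjBy B (x⁻¹ * (a * v)) = B := by
    rw [← conjBy_conjBy, hPav, conjBy_inv_cancel]
  have h1 := eq_one_of_normalizes hs.pair (mul_mem (inv_mem hx.1) (mul_mem ha hv.1)) hfix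
  rw [← inv_mul_eq_one.1 h1]
  exact hx

/-- The partner map on powers. -/
theorem rel_pow (n : ℕ) (hn : n ≠ 0) : ∀ {A B : Subgroup G}, SAB A B → ∀ {a c e : G},
    Rel A B a c → a ^ n ≠ 1 → Rel A B (a ^ n) e → e ^ n = c := by
  obtain ⟨n, rfl⟩ := Nat.exists_eq_succ_of_ne_zero hn
  clear hn
  induction n with
  | zero =>
    intro A B hs a c e h _ he
    rw [pow_one] at he
    rw [pow_one]
    exact he.right_unique hs.pair h
  | succ m ih =>
    intro A B hs a c e h hne he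
    obtain ⟨hsw, -, -, -, -⟩ := h.swap hs
    have hconj : ∀ k, (a * c * a) * a ^ k * (a * c * a)⁻¹ = c ^ k := fun k => by
      rw [← conj_pow, hsw]
    by_cases hone : a ^ (m + 1) = 1
    · have hc : c ^ (m + 1) = 1 := by rw [← hconj, hone]; group
      rw [pow_succ a (m + 1), hone, one_mul] at he
      rw [he.right_unique hs.pair h, pow_succ, hc, one_mul]
    have hua : a ^ (m + 2) ≠ a := by
      intro h1
      rw [pow_succ, mul_eq_right] at h1
      exact hone h1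
    obtain ⟨v, hv, hav⟩ := h.recursion hs he hua
    rw [show a⁻¹ * a ^ (m + 2) = a ^ (m + 1) by rw [pow_succ' a (m + 1), inv_mul_cancel_left],
      hconj] at hav
    have hcn : c⁻¹ ^ (m + 1) ≠ 1 := by
      intro h1
      rw [inv_pow, inv_eq_one, ← hconj, conj_eq_one_iff] at h1
      exact hone h1
    have h1 := ih hs.symm ((h.inv hs).symm hs) hcn (by rw [inv_pow]; exact hav.symm hs)
    rw [(Commute.mul_pow (hs.commA a h.1 v hv.1))] at h1
    have hvn : v ^ (m + 1) = (a ^ (m + 2))⁻¹ := by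
      rw [← eq_inv_mul_iff_mul_eq] at h1
      rw [h1, pow_succ' a (m + 1), mul_inv_rev]
    have h2 := ih hs hv (by rw [hvn]; exact inv_ne_one.2 hne) (by rw [hvn]; exact he.inv hs)
    calc e ^ (m + 2) = (e⁻¹ ^ (m + 1))⁻¹ * e := by rw [inv_pow, inv_inv, pow_succ]
      _ = (e * c⁻¹)⁻¹ * e := by rw [h2]
      _ = c := by group

theorem orderOf_rel (hs : SAB A B) (h : Rel A B a c) : orderOf c = orderOf a := by
  obtain ⟨hsw, -, -, -, -⟩ := h.swap hs
  conv_lhs => rw [← hsw]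
  exact orderOf_injective (MulAut.conj (a * c * a)).toMonoidHom (MulAut.conj _).injective a

/-- Torsion elements of the unipotent subgroups have prime order. -/
theorem prime_orderOf (hs : SAB A B) (ha : a ∈ A) (ha1 : a ≠ 1) (hfin : IsOfFinOrder a) :
    (orderOf a).Prime := by
  have hm : orderOf a ≠ 1 := fun h => ha1 (orderOf_eq_one_iff.1 h)
  have hm0 := hfin.orderOf_pos
  rw [Nat.prime_def]
  refine ⟨by omega, fun k hk => ?_⟩
  obtain ⟨l, hl⟩ := hk
  by_contra hcon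
  push Not at hcon
  have hk0 : k ≠ 0 := by rintro rfl; rw [zero_mul] at hl; omega
  have hl0 : l ≠ 0 := by rintro rfl; rw [mul_zero] at hl; omega
  have hl1 : 1 < k := by omega
  have hak : a ^ k ≠ 1 := by
    intro h
    have := Nat.le_of_dvd (by omega) (orderOf_dvd_of_pow_eq_one h)
    have hkl : k * 1 ≤ k * l := Nat.mul_le_mul_left k (by omega)
    exact hcon.2 (by omega)
  obtain ⟨c, hc⟩ := Rel.exists_right hs.pair ha ha1
  obtain ⟨e, he⟩ := Rel.exists_right hs.pair (pow_mem ha k) hak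
  have h1 := rel_pow k hk0 hs hc hak he
  have hel : e ^ l = 1 := by
    rw [← orderOf_dvd_iff_pow_eq_one, orderOf_rel hs he, orderOf_dvd_iff_pow_eq_one, ← pow_mul,
      ← hl, pow_orderOf_eq_one]
  have hcl : c ^ l = 1 := by rw [← h1, ← pow_mul, mul_comm, pow_mul, hel, one_pow]
  rw [← orderOf_dvd_iff_pow_eq_one, orderOf_rel hs hc, hl] at hcl
  have := Nat.le_of_dvd (by omega) hcl
  have h3 : 2 * l ≤ k * l := Nat.mul_le_mul_right l hl1
  omega

theorem elementary_or_divisible (hs : SAB A B) :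
    (∃ p : ℕ, p.Prime ∧ ∀ a ∈ A, a ^ p = 1) ∨
    ((∀ a ∈ A, a ≠ 1 → ¬ IsOfFinOrder a) ∧
      ∀ a ∈ A, ∀ n : ℕ, 0 < n → ∃ c ∈ A, c ^ n = a) := by
  by_cases htor : ∃ a ∈ A, a ≠ 1 ∧ IsOfFinOrder a
  · obtain ⟨x, hx, hx1, hxfin⟩ := htor
    have hp := prime_orderOf hs hx hx1 hxfin
    refine Or.inl ⟨orderOf x, hp, fun y hy => ?_⟩
    by_cases hy1 : y = 1
    · simp [hy1]
    by_contra hne
    have hxy : Commute x y := hs.commA x hx y hy
    have hz1 : x * y ≠ 1 := by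
      intro h
      apply hne
      rw [eq_inv_of_mul_eq_one_right h, inv_pow, pow_orderOf_eq_one, inv_one]
    have hzp : (x * y) ^ orderOf x = y ^ orderOf x := by
      rw [hxy.mul_pow, pow_orderOf_eq_one, one_mul]
    obtain ⟨c, hc⟩ := Rel.exists_right hs.pair (mul_mem hx hy) hz1
    obtain ⟨c', hc'⟩ := Rel.exists_right hs.pair hy hy1
    obtain ⟨e, he⟩ := Rel.exists_right hs.pair (pow_mem hy (orderOf x)) hne
    have h1 := rel_pow _ hp.ne_zero hs hc (by rwa [hzp]) (by rw [hzp]; exact he)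
    have h2 := rel_pow _ hp.ne_zero hs hc' hne he
    rw [h1] at h2
    subst h2
    exact hx1 (mul_eq_right.1 (hc.left_unique hs.pair hc'))
  · push Not at htor
    refine Or.inr ⟨htor, fun y hy n hn => ?_⟩
    by_cases hy1 : y = 1
    · exact ⟨1, one_mem _, by simp [hy1]⟩
    obtain ⟨c, hc⟩ := Rel.exists_right hs.pair hy hy1
    have hyn : y ^ n ≠ 1 := fun h =>
      htor y hy hy1 (isOfFinOrder_iff_pow_eq_one.2 ⟨n, hn, h⟩)
    obtain ⟨e, he⟩ := Rel.exists_right hs.pair (pow_mem hy n) hyn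
    have h1 := rel_pow n hn.ne' hs hc hyn he
    obtain ⟨-, h2, -, hwB, -⟩ := hc.swap hs
    refine ⟨(y * c * y) * e * (y * c * y)⁻¹, ?_, by rw [conj_pow, h1, h2]⟩
    have h3 := conj_mem_conjBy (g := y * c * y) he.2.2.1
    rwa [hwB] at h3

/-- `⁅A, H⁆ = A` when `A` has more than three elements. -/
theorem commutator_diagonal_eq (hs : SAB A B) (hcard : 3 < ENat.card A) :
    ⁅A, rankOneDiagonal A B⁆ = A := by
  obtain ⟨A₁, hA₁def⟩ : ∃ A₁, A₁ = ⁅A, rankOneDiagonal A B⁆ := ⟨_, rfl⟩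
  rw [← hA₁def]
  have hle : A₁ ≤ A := by
    rw [hA₁def, Subgroup.commutator_le]
    intro x hx y hy
    change x * y * x⁻¹ * y⁻¹ ∈ A
    rw [show x * y * x⁻¹ * y⁻¹ = x * (y * x⁻¹ * y⁻¹) by group]
    exact mul_mem hx ((Subgroup.mem_normalizer_iff.1 hy.1.2 _).1 (inv_mem hx))
  refine le_antisymm hle fun g hg => ?_
  obtain ⟨a₀, ha₀, ha₀1⟩ := exists_ne_one hs.pair
  obtain ⟨c₀, hc₀⟩ := Rel.exists_right hs.pair ha₀ ha₀1
  obtain ⟨-, -, hw₀A, hw₀B, hw₀⟩ := hc₀.swap hs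
  obtain ⟨w₀, hw₀def⟩ : ∃ w, w = a₀ * c₀ * a₀ := ⟨_, rfl⟩
  rw [← hw₀def] at hw₀A hw₀B hw₀
  have hmod : ∀ {x d : G}, Rel A B x d → ∀ y ∈ A,
      (w₀⁻¹ * ((x * d * x) * y * (x * d * x)⁻¹) * w₀) * y⁻¹ ∈ A₁ := by
    intro x d hx y hy
    obtain ⟨-, -, hwA, hwB, hw⟩ := hx.swap hs
    have hh : w₀⁻¹ * (x * d * x) ∈ rankOneDiagonal A B := by
      refine ⟨⟨(mul_mem (inv_mem hw₀) hw : w₀⁻¹ * (x * d * x) ∈ A ⊔ B), ?_⟩, ?_⟩
      · refine mem_normalizer_iff_conjBy.2 ?_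
        rw [← conjBy_conjBy, hwA, ← hw₀A, conjBy_inv_cancel]
      · refine mem_normalizer_iff_conjBy.2 ?_
        rw [← conjBy_conjBy, hwB, ← hw₀B, conjBy_inv_cancel]
    have h1 := commutator_mem_aux hh hy
    rw [← hA₁def] at h1
    have : w₀⁻¹ * ((x * d * x) * y * (x * d * x)⁻¹) * w₀ * y⁻¹ =
        (w₀⁻¹ * (x * d * x)) * y * (w₀⁻¹ * (x * d * x))⁻¹ * y⁻¹ := by group
    rw [this]; exact h1
  letI : CommGroup ↥A :=
    { (inferInstance : Group ↥A) with mul_comm := fun x y => Subtype.ext (hs.commA _ x.2 _ y.2) }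
  let π := QuotientGroup.mk' (A₁.subgroupOf A)
  have hψ : ∀ {y : G}, y ∈ B → w₀⁻¹ * y * w₀ ∈ A := fun {y} hy => mem_conjBy.1 (hw₀A.symm ▸ hy)
  let q : ↥B → ↥A := fun y => ⟨w₀⁻¹ * (y : G) * w₀, hψ y.2⟩
  have hq : ∀ y z : ↥B, q (y * z) = q y * q z := fun y z => Subtype.ext (by
    change w₀⁻¹ * ((y : G) * z) * w₀ = w₀⁻¹ * (y : G) * w₀ * (w₀⁻¹ * (z : G) * w₀)
    group)
  have hπ : ∀ {x d : G} (hx : Rel A B x d) (y : ↥A) (z : ↥B),
      (z : G) = (x * d * x) * (y : G) * (x * d * x)⁻¹ → π (q z) = π y := by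
    intro x d hx y z hz
    rw [← mul_inv_eq_one, ← map_inv, ← map_mul]
    refine (QuotientGroup.eq_one_iff _).2 (Subgroup.mem_subgroupOf.2 ?_)
    change w₀⁻¹ * (z : G) * w₀ * (y : G)⁻¹ ∈ A₁
    rw [hz]; exact hmod hx _ y.2
  have hrel : ∀ {x d : G} (hx : Rel A B x d), π (q ⟨d, hx.2.2.1⟩) = π ⟨x, hx.1⟩ := fun hx =>
    hπ hx ⟨_, hx.1⟩ ⟨_, hx.2.2.1⟩ (hx.swap hs).1.symm
  have main : ∀ a u : ↥A, a ≠ 1 → u ≠ 1 → u ≠ a → π u * π u = π a := by
    intro a u ha hu hne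
    have ha' : (a : G) ≠ 1 := fun e => ha (Subtype.ext e)
    have hu' : (u : G) ≠ 1 := fun e => hu (Subtype.ext e)
    obtain ⟨c, hc⟩ := Rel.exists_right hs.pair a.2 ha'
    obtain ⟨e, he⟩ := Rel.exists_right hs.pair u.2 hu'
    obtain ⟨v, hv, hav⟩ := hc.recursion hs he (fun h => hne (Subtype.ext h))
    have e1 : π ⟨v, hv.1⟩ = π u * (π a)⁻¹ := by
      rw [← hrel hv, show (⟨e * c⁻¹, hv.2.2.1⟩ : ↥B) = ⟨e, he.2.2.1⟩ * ⟨c, hc.2.2.1⟩⁻¹ from rfl,
        hq, map_mul, hrel he]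
      congr 1
      rw [← hrel hc, ← map_inv]
      congr 1
      exact Subtype.ext (by
        change w₀⁻¹ * (c : G)⁻¹ * w₀ = (w₀⁻¹ * (c : G) * w₀)⁻¹
        group)
    have e2 : π a * π ⟨v, hv.1⟩ = π a * (π u)⁻¹ := by
      rw [← map_mul, ← map_inv, ← map_mul]
      have h1 := hrel hav
      have h2 := hπ hc (u⁻¹ * a) ⟨_, hav.2.2.1⟩ (by
        push_cast
        group)
      rw [show (⟨(a : G) * v, hav.1⟩ : ↥A) = a * ⟨v, hv.1⟩ from rfl] at h1
      rw [← h1, h2, mul_comm]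
    rw [e1] at e2
    have h3 := mul_left_cancel e2
    calc π u * π u = (π u * (π a)⁻¹) * π a * π u := by rw [inv_mul_cancel_right]
      _ = _ := by rw [h3]; simp [mul_comm]
  by_cases hg1 : g = 1
  · rw [hg1]; exact one_mem _
  let g' : ↥A := ⟨g, hg⟩
  have hg'1 : g' ≠ 1 := fun e => hg1 (congrArg Subtype.val e)
  have hbig : ∀ x y z : ↥A, ∃ t : ↥A, t ≠ x ∧ t ≠ y ∧ t ≠ z := by
    intro x y z
    by_contra hcon
    push Not at hcon
    have hsub : (Set.univ : Set ↥A) ⊆ {x, y, z} := by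
      intro t _
      by_cases h1 : t = x
      · exact Or.inl h1
      by_cases h2 : t = y
      · exact Or.inr (Or.inl h2)
      · exact Or.inr (Or.inr (hcon t h1 h2))
    have h1 := Set.encard_le_encard hsub
    rw [Set.encard_univ] at h1
    have h2 : Set.encard ({x, y, z} : Set ↥A) ≤ 3 := by
      refine (Set.encard_insert_le _ _).trans ?_
      refine (add_le_add ((Set.encard_insert_le _ _).trans
        (by rw [Set.encard_singleton])) le_rfl).trans ?_
      norm_num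
    exact absurd (hcard.trans_le (h1.trans h2)) (lt_irrefl _)
  obtain ⟨a, ha1, hag, -⟩ := hbig 1 g' 1
  obtain ⟨u, hu1, hua, hua'⟩ := hbig 1 a (a * g'⁻¹)
  have h1 := main a u ha1 hu1 hua
  have h2 := main (a * g'⁻¹) u (fun e => hag (mul_inv_eq_one.1 e)) hu1 hua'
  rw [h1, map_mul, left_eq_mul, map_inv, inv_eq_one] at h2
  exact (QuotientGroup.eq_one_iff g').1 h2
where
  commutator_mem_aux {H A : Subgroup G} {h y : G} (hh : h ∈ H) (hy : y ∈ A) :
      h * y * h⁻¹ * y⁻¹ ∈ ⁅A, H⁆ :=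
    Subgroup.commutator_comm H A ▸ Subgroup.commutator_mem_commutator hh hy

theorem le_commutator_of_card (hs : SAB A B) (hcard : 3 < ENat.card A) :
    A ≤ ⁅A ⊔ B, A ⊔ B⁆ := by
  conv_lhs => rw [← commutator_diagonal_eq hs hcard]
  exact Subgroup.commutator_mono le_sup_left (inf_le_left.trans inf_le_left)

/-- The subgroup generated by an associated pair is an image of `SL₂(p)` with central kernel. -/
theorem sl2_hom (hs : SAB A B) {p : ℕ} [Fact p.Prime] (hA : ∀ x ∈ A, x ^ p = 1)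
    (h : Rel A B a c) :
    ∃ φ : Matrix.SpecialLinearGroup (Fin 2) (ZMod p) →* G,
      φ.ker ≤ Subgroup.center _ ∧ φ.range = Subgroup.closure {a, c} := by
  have hp : p.Prime := Fact.out
  have hord : ∀ {x e : G}, Rel A B x e → e ^ p = 1 := fun {x e} hx => by
    rw [← orderOf_dvd_iff_pow_eq_one, orderOf_rel hs hx, orderOf_dvd_iff_pow_eq_one, hA x hx.1]
  have hpow : ∀ {x : G}, x ^ p = 1 → ∀ s t : ZMod p, x ^ (s + t).val = x ^ s.val * x ^ t.val := by
    intro x hx s t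
    rw [← pow_add, ZMod.val_add, ← pow_eq_pow_mod _ hx]
  have hval1 : (1 : ZMod p).val = 1 := ZMod.val_one p
  let U : ZMod p → G := fun x => a ^ x.val
  let V : ZMod p → G := fun x => c ^ (-x).val
  have hUe : ∀ x, U x ∈ A := fun x => pow_mem h.1 _
  have hne : ∀ t : ZMod p, t ≠ 0 → U t ≠ 1 := by
    intro t ht e
    have h1 : orderOf a = p := orderOf_eq_prime (hA a h.1) h.2.1
    have h2 := orderOf_dvd_of_pow_eq_one e
    rw [h1] at h2
    exact ht ((ZMod.val_eq_zero t).1 (Nat.eq_zero_of_dvd_of_lt h2 (ZMod.val_lt t)))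
  have hrelV : ∀ t : ZMod p, t ≠ 0 → Rel A B (U t) (V (-t⁻¹)) := by
    intro t ht
    obtain ⟨e, he⟩ := Rel.exists_right hs.pair (hUe t) (hne t ht)
    have hn : t.val ≠ 0 := fun h0 => ht ((ZMod.val_eq_zero t).1 h0)
    have h1 := rel_pow t.val hn hs h (hne t ht) he
    have h2 : V (-t⁻¹) = e := by
      change c ^ (- -t⁻¹).val = e
      rw [neg_neg, ← h1, ← pow_mul, pow_eq_pow_mod _ (hord he), ← ZMod.val_mul,
        mul_inv_cancel₀ ht, hval1, pow_one]
    rw [h2]; exact he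
  obtain ⟨φ, hφu, hφv⟩ := SL2.exists_hom U V (fun x y => hpow (hA a h.1) x y)
    (fun x y => by
      change c ^ (-(x + y)).val = c ^ (-x).val * c ^ (-y).val
      rw [neg_add, hpow (hord h)])
    (fun t ht => (hrelV t ht).braid hs)
  refine ⟨φ, ?_, ?_⟩
  · intro g hg
    rw [MonoidHom.mem_ker] at hg
    have hφw : ∀ t : ZMod p, φ (SL2.w t) = U t * V (-t⁻¹) * U t := fun t => by
      simp only [SL2.w, map_mul, hφu, hφv]
    have hwfix : ∀ t : ZMod p, t ≠ 0 →
        conjBy A (φ (SL2.w t)) = B ∧ conjBy B (φ (SL2.w t)) = A := fun t ht => by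
      obtain ⟨-, -, h1, h2, -⟩ := (hrelV t ht).swap hs
      rw [hφw]; exact ⟨h1, h2⟩
    have hc : g.1 1 0 = 0 := by
      by_contra hc
      rw [(SL2.decomp g).2 hc, map_mul, map_mul, hφu, hφu] at hg
      have ht : -(g.1 1 0)⁻¹ ≠ 0 := neg_ne_zero.2 (inv_ne_zero hc)
      have hmem : φ (SL2.w (-(g.1 1 0)⁻¹)) ∈ A := by
        have h1 := eq_inv_of_mul_eq_one_left hg
        rw [← eq_inv_mul_iff_mul_eq] at h1
        rw [h1]
        exact mul_mem (inv_mem (hUe _)) (inv_mem (hUe _))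
      exact hs.pair.ne (((conjBy_of_mem hmem).symm.trans (hwfix _ ht).1))
    obtain ⟨ha0, hg'⟩ := (SL2.decomp g).1 hc
    have hb : g.1 0 1 = 0 := by
      by_contra hb
      have h1 := hg
      rw [hg', map_mul, hφu] at h1
      apply hne _ (mul_ne_zero ha0 hb)
      refine eq_one_of_normalizes hs.pair (hUe _) ?_
      have h2 : conjBy B (φ (SL2.h (g.1 0 0))) = B := by
        rw [SL2.h, map_mul, ← conjBy_conjBy, (hwfix (-1) (neg_ne_zero.2 one_ne_zero)).2,
          (hwfix _ ha0).1]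
      rw [eq_inv_of_mul_eq_one_left h1]
      exact (conjBy_eq_iff.1 h2).symm
    have hd : g.1 1 1 = (g.1 0 0)⁻¹ := by
      have hdet := g.2
      rw [Matrix.det_fin_two, hc, mul_zero, sub_zero] at hdet
      exact eq_inv_of_mul_eq_one_right hdet
    have hsq : g.1 0 0 = g.1 1 1 := by
      have h1 : g * SL2.u 1 = SL2.u (g.1 0 0 ^ 2) * g := by
        apply SL2.ext2 <;> simp [Matrix.mul_apply, Fin.sum_univ_two, hc, hb, hd]
        field_simp
      have h2 := congrArg φ h1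
      rw [map_mul, map_mul, hg, one_mul, mul_one, hφu, hφu] at h2
      by_contra hne2
      apply hne (g.1 0 0 ^ 2 - 1)
      · intro e
        rw [sub_eq_zero, pow_two] at e
        exact hne2 (by rw [hd]; exact eq_inv_of_mul_eq_one_left e)
      · have h3 : U (g.1 0 0 ^ 2) = U (g.1 0 0 ^ 2 - 1) * U 1 := by
          change a ^ _ = a ^ _ * a ^ _
          rw [← hpow (hA a h.1), sub_add_cancel]
        rw [← h2] at h3
        exact right_eq_mul.1 h3
    rw [Subgroup.mem_center_iff]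
    intro y
    apply SL2.ext2 <;> simp [Matrix.mul_apply, Fin.sum_univ_two, hc, hb, ← hsq] <;> ring
  · apply le_antisymm
    · rw [MonoidHom.range_eq_map, ← SL2.top_eq_sup, Subgroup.map_sup]
      refine sup_le ?_ ?_ <;> rintro _ ⟨y, hy, rfl⟩
      · obtain ⟨x, rfl⟩ := SL2.mem_lower.1 hy
        rw [hφv]
        have hm : c ∈ Subgroup.closure {a, c} :=
          Subgroup.subset_closure (Set.mem_insert_of_mem a (Set.mem_singleton c))
        exact pow_mem hm _
      · obtain ⟨x, rfl⟩ := SL2.mem_upper.1 hy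
        rw [hφu]
        have hm : a ∈ Subgroup.closure {a, c} := Subgroup.subset_closure (Set.mem_insert a _)
        exact pow_mem hm _
    · rw [Subgroup.closure_le]
      rintro x (rfl | rfl)
      · exact ⟨SL2.u 1, by rw [hφu]; change x ^ _ = x; rw [hval1, pow_one]⟩
      · exact ⟨SL2.v (-1), by rw [hφv]; change x ^ _ = x; rw [neg_neg, hval1, pow_one]⟩

/-- A central-kernel image of `SL₂(p)` is `SL₂(p)` or `PSL₂(p)`. -/
theorem sl2_or_psl2 {p : ℕ} [Fact p.Prime]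
    (φ : Matrix.SpecialLinearGroup (Fin 2) (ZMod p) →* G) (hker : φ.ker ≤ Subgroup.center _) :
    Nonempty (↥φ.range ≃* Matrix.SpecialLinearGroup (Fin 2) (ZMod p)) ∨
    (p ≠ 2 ∧ Nonempty (↥φ.range ≃* Matrix.ProjectiveSpecialLinearGroup (Fin 2) (ZMod p))) := by
  by_cases h : φ.ker = ⊥
  · exact Or.inl ⟨(MonoidHom.ofInjective ((MonoidHom.ker_eq_bot_iff φ).1 h)).symm⟩
  obtain ⟨g, hg, hg1⟩ := φ.ker.bot_or_exists_ne_one.resolve_left h
  have hcen : ∀ z ∈ Subgroup.center (Matrix.SpecialLinearGroup (Fin 2) (ZMod p)), z ≠ 1 →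
      z.1 = -1 ∧ p ≠ 2 := by
    intro z hz hz1
    obtain ⟨r, hr, hrz⟩ := Matrix.SpecialLinearGroup.mem_center_iff.1 hz
    rw [Fintype.card_fin, pow_two, mul_self_eq_one_iff] at hr
    rcases hr with rfl | rfl
    · exact absurd (Subtype.ext (by rw [← hrz]; simp)) hz1
    · refine ⟨by rw [← hrz, map_neg, map_one], ?_⟩
      rintro rfl
      exact hz1 (Subtype.ext (by rw [← hrz, ZMod.neg_eq_self_mod_two]; simp))
  obtain ⟨hgv, hp2⟩ := hcen g (hker hg) hg1
  have heq : φ.ker = Subgroup.center _ := by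
    refine le_antisymm hker fun z hz => ?_
    by_cases hz1 : z = 1
    · rw [hz1]; exact one_mem _
    · rw [show z = g from Subtype.ext ((hcen z hz hz1).1.trans hgv.symm)]; exact hg
  exact Or.inr ⟨hp2, ⟨(QuotientGroup.quotientKerEquivRange φ).symm.trans
    (QuotientGroup.quotientMulEquivOfEq heq)⟩⟩

theorem isQuasisimple_of_mulEquiv {X Y : Type*} [Group X] [Group Y] (e : X ≃* Y)
    (h : IsQuasisimple X) : IsQuasisimple Y := by
  obtain ⟨h1, h2⟩ := h
  refine ⟨Group.IsPerfect.ofSurjective (f := e.toMonoidHom) e.surjective, ?_⟩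
  have hmap : (Subgroup.center X).map e.toMonoidHom = Subgroup.center Y := by
    ext y
    rw [Subgroup.mem_map_equiv, Subgroup.mem_center_iff, Subgroup.mem_center_iff]
    constructor
    · intro hy z
      have := congrArg e (hy (e.symm z))
      simpa using this
    · intro hy z
      apply e.injective
      simpa using hy (e z)
  exact (QuotientGroup.congr _ _ e hmap).isSimpleGroup_congr.1 h2

end Cfsg.Agent.RootSubgroups
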