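import Cfsg.Agent.Classical10.RootClassGeneric
import Cfsg.Agent.ThreeTrans62.TransvectionTwo
import Cfsg.Agent.Lib.RootSubgroups.Class

/-!
Transvection groups of incident point-hyperplane pairs form a class of abstract root subgroups of `SL_{n+3}`.
-/

set_option autoImplicit false

namespace Cfsg.Agent.RootSubgroups.ClassSL

open Cfsg Matrix

variable {F : Type*} [Field F] {n : ℕ}

local notation "SLn" => Matrix.SpecialLinearGroup (Fin (n + 3)) F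
local notation "Mat" => Matrix (Fin (n + 3)) (Fin (n + 3)) F
local notation "Vect" => (Fin (n + 3) → F)

/-- The transvection `1 + c v wᵀ`. -/
def tv (v w : Fin (n + 3) → F) (h : w ⬝ᵥ v = 0) (c : F) : Matrix.SpecialLinearGroup (Fin (n + 3)) F :=
  ⟨1 + c • vecMulVec v w, by
    rw [← smul_vecMulVec, Matrix.vecMulVec_eq Unit, det_one_add_replicateCol_mul_replicateRow, dotProduct_smul,
      h, smul_zero, add_zero]⟩

theorem tv_mat (v w : Vect) (h : w ⬝ᵥ v = 0) (c : F) : (tv v w h c : Mat) = 1 + c • vecMulVec v w := rfl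

theorem vmv_sq {v w : Vect} (h : w ⬝ᵥ v = 0) : vecMulVec v w * vecMulVec v w = 0 := by
  rw [ThreeTrans62.vmv_mul, h, zero_smul]

theorem tv_add {v w : Vect} (h : w ⬝ᵥ v = 0) (a b : F) : tv v w h a * tv v w h b = tv v w h (a + b) := by
  apply Subtype.ext
  rw [Matrix.SpecialLinearGroup.coe_mul, tv_mat, tv_mat, tv_mat]
  simp only [add_mul, mul_add, one_mul, mul_one, smul_mul_smul_comm, vmv_sq h, smul_zero, add_zero, add_smul]
  abel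

theorem tv_zero {v w : Vect} (h : w ⬝ᵥ v = 0) : tv v w h 0 = 1 := by
  apply Subtype.ext
  simp [tv_mat]

theorem tv_inv {v w : Vect} (h : w ⬝ᵥ v = 0) (a : F) : (tv v w h a)⁻¹ = tv v w h (-a) :=
  inv_eq_of_mul_eq_one_right (by rw [tv_add, add_neg_cancel, tv_zero])

/-- The group of transvections with centre `v` and axis `w`. -/
def T (v w : Fin (n + 3) → F) (h : w ⬝ᵥ v = 0) : Subgroup (Matrix.SpecialLinearGroup (Fin (n + 3)) F) where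
  carrier := Set.range (tv v w h)
  mul_mem' := by rintro _ _ ⟨a, rfl⟩ ⟨b, rfl⟩; exact ⟨a + b, (tv_add h a b).symm⟩
  one_mem' := ⟨0, tv_zero h⟩
  inv_mem' := by rintro _ ⟨a, rfl⟩; exact ⟨-a, (tv_inv h a).symm⟩

theorem mem_T {v w : Vect} {h : w ⬝ᵥ v = 0} {g : SLn} : g ∈ T v w h ↔ ∃ c : F, g = tv v w h c :=
  ⟨fun ⟨c, hc⟩ => ⟨c, hc.symm⟩, fun ⟨c, hc⟩ => ⟨c, hc.symm⟩⟩

theorem vmv_ne_zero {v w : Vect} (hv : v ≠ 0) (hw : w ≠ 0) : vecMulVec v w ≠ 0 := by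
  obtain ⟨i, hi⟩ := Function.ne_iff.1 hv
  obtain ⟨j, hj⟩ := Function.ne_iff.1 hw
  exact fun e => mul_ne_zero hi hj (by simpa [vecMulVec_apply] using congrFun (congrFun e i) j)

theorem conj_tv (g : SLn) {v w : Vect} (h : w ⬝ᵥ v = 0) :
    ∃ h' : (w ᵥ* ((g⁻¹ : SLn) : Mat)) ⬝ᵥ ((g : Mat) *ᵥ v) = 0,
      ∀ c, g * tv v w h c * g⁻¹ = tv ((g : Mat) *ᵥ v) (w ᵥ* ((g⁻¹ : SLn) : Mat)) h' c := by
  have h1 : (g : Mat) * ((g⁻¹ : SLn) : Mat) = 1 := by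
    rw [← Matrix.SpecialLinearGroup.coe_mul, mul_inv_cancel, Matrix.SpecialLinearGroup.coe_one]
  have h2 : ((g⁻¹ : SLn) : Mat) * (g : Mat) = 1 := by
    rw [← Matrix.SpecialLinearGroup.coe_mul, inv_mul_cancel, Matrix.SpecialLinearGroup.coe_one]
  refine ⟨by rw [dotProduct_mulVec, vecMul_vecMul, h2, vecMul_one, h], fun c => Subtype.ext ?_⟩
  rw [Matrix.SpecialLinearGroup.coe_mul, Matrix.SpecialLinearGroup.coe_mul, tv_mat, tv_mat, mul_add, add_mul,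
    mul_one, h1, mul_smul_comm, smul_mul_assoc, mul_vecMulVec, vecMulVec_mul]

/-- Membership in the family. -/
def Mem (A : Subgroup (Matrix.SpecialLinearGroup (Fin (n + 3)) F)) : Prop :=
  ∃ (v w : Fin (n + 3) → F) (h : w ⬝ᵥ v = 0), v ≠ 0 ∧ w ≠ 0 ∧ A = T v w h

theorem conj_T (g : SLn) {v w : Vect} (h : w ⬝ᵥ v = 0) :
    ∃ h' : (w ᵥ* ((g⁻¹ : SLn) : Mat)) ⬝ᵥ ((g : Mat) *ᵥ v) = 0,
      conjBy (T v w h) g = T ((g : Mat) *ᵥ v) (w ᵥ* ((g⁻¹ : SLn) : Mat)) h' := by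
  obtain ⟨h', e⟩ := conj_tv g h
  refine ⟨h', ?_⟩
  ext x
  rw [mem_T]
  constructor
  · rintro ⟨y, hy, rfl⟩
    obtain ⟨c, rfl⟩ := mem_T.1 hy
    exact ⟨c, e c⟩
  · rintro ⟨c, rfl⟩
    exact ⟨tv v w h c, mem_T.2 ⟨c, rfl⟩, e c⟩

theorem mem_conj {A : Subgroup SLn} (hA : Mem A) (g : SLn) : Mem (conjBy A g) := by
  obtain ⟨v, w, h, hv, hw, rfl⟩ := hA
  obtain ⟨h', e⟩ := conj_T g h
  refine ⟨_, _, h', fun z => hv ?_, fun z => hw ?_, e⟩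
  · rw [← one_mulVec v, ← show ((g⁻¹ : SLn) : Mat) * g = 1 by
      rw [← Matrix.SpecialLinearGroup.coe_mul, inv_mul_cancel, Matrix.SpecialLinearGroup.coe_one],
      ← mulVec_mulVec, z, mulVec_zero]
  · rw [← vecMul_one w, ← show ((g⁻¹ : SLn) : Mat) * g = 1 by
      rw [← Matrix.SpecialLinearGroup.coe_mul, inv_mul_cancel, Matrix.SpecialLinearGroup.coe_one],
      ← vecMul_vecMul, z, zero_vecMul]

theorem T_commutative {v w : Vect} (h : w ⬝ᵥ v = 0) : IsMulCommutative (T v w h) :=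
  isMulCommutative_of_forall fun a ha b hb => by
    obtain ⟨x, rfl⟩ := mem_T.1 ha
    obtain ⟨y, rfl⟩ := mem_T.1 hb
    rw [tv_add, tv_add, add_comm x y]

theorem T_ne_bot {v w : Vect} (h : w ⬝ᵥ v = 0) (hv : v ≠ 0) (hw : w ≠ 0) : T v w h ≠ ⊥ := fun e => by
  have h1 : tv v w h 1 = 1 := Subgroup.mem_bot.1 (e ▸ mem_T.2 ⟨1, rfl⟩)
  have h2 := congrArg Subtype.val h1
  rw [tv_mat, Matrix.SpecialLinearGroup.coe_one, add_eq_left, one_smul] at h2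
  exact vmv_ne_zero hv hw h2

variable {v₁ w₁ v₂ w₂ : Fin (n + 3) → F} {h₁ : w₁ ⬝ᵥ v₁ = 0} {h₂ : w₂ ⬝ᵥ v₂ = 0}

theorem mat_mul (a b : F) : ((tv v₁ w₁ h₁ a * tv v₂ w₂ h₂ b : SLn) : Mat) =
    1 + (a • vecMulVec v₁ w₁ + b • vecMulVec v₂ w₂) + (a * b * (w₁ ⬝ᵥ v₂)) • vecMulVec v₁ w₂ := by
  rw [Matrix.SpecialLinearGroup.coe_mul, tv_mat, tv_mat]
  simp only [add_mul, mul_add, one_mul, mul_one, smul_mul_smul_comm, ThreeTrans62.vmv_mul, smul_smul]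
  abel

theorem commute_case (hα : w₁ ⬝ᵥ v₂ = 0) (hβ : w₂ ⬝ᵥ v₁ = 0) : ⁅T v₁ w₁ h₁, T v₂ w₂ h₂⁆ = ⊥ := by
  refine commutator_eq_bot_of_commute fun a ha b hb => ?_
  obtain ⟨x, rfl⟩ := mem_T.1 ha
  obtain ⟨y, rfl⟩ := mem_T.1 hb
  apply Subtype.ext
  rw [mat_mul, mat_mul, hα, hβ, mul_zero, mul_zero, zero_smul, zero_smul, add_comm (x • vecMulVec v₁ w₁)]

theorem commutator_tv (hβ : w₂ ⬝ᵥ v₁ = 0) (a b : F) :
    tv v₁ w₁ h₁ a * tv v₂ w₂ h₂ b * (tv v₁ w₁ h₁ a)⁻¹ * (tv v₂ w₂ h₂ b)⁻¹ =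
      tv v₁ w₂ hβ (a * b * (w₁ ⬝ᵥ v₂)) := by
  rw [mul_inv_eq_iff_eq_mul, mul_inv_eq_iff_eq_mul, mul_assoc]
  apply Subtype.ext
  conv_lhs => rw [mat_mul]
  rw [Matrix.SpecialLinearGroup.coe_mul, mat_mul, tv_mat]
  simp only [add_mul, mul_add, one_mul, mul_one, smul_mul_smul_comm, ThreeTrans62.vmv_mul, hβ, h₂, zero_smul,
    smul_zero, mul_zero, add_zero]
  abel

theorem cc_case (S : Set (Subgroup SLn)) (hS : ∀ A, Mem A → A ∈ S) (hα : w₁ ⬝ᵥ v₂ ≠ 0) (hβ : w₂ ⬝ᵥ v₁ = 0)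
    (hv : v₁ ≠ 0) (hw : w₂ ≠ 0) :
    ⁅T v₁ w₁ h₁, T v₂ w₂ h₂⁆ = T v₁ w₂ hβ ∧ RootCommutatorCase S (T v₁ w₁ h₁) (T v₂ w₂ h₂) := by
  have cl1 : ∀ a ∈ T v₁ w₁ h₁, a ≠ 1 → Subgroup.closure
      ((fun b : SLn => a * b * a⁻¹ * b⁻¹) '' (T v₂ w₂ h₂ : Set SLn)) = T v₁ w₂ hβ := by
    intro a ha ha1
    obtain ⟨x, rfl⟩ := mem_T.1 ha
    refine le_antisymm ((Subgroup.closure_le _).2 ?_) fun g hg => ?_
    · rintro _ ⟨b, hb, rfl⟩
      obtain ⟨y, rfl⟩ := mem_T.1 hb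
      exact mem_T.2 ⟨_, commutator_tv hβ x y⟩
    · obtain ⟨c, rfl⟩ := mem_T.1 hg
      have hx : x ≠ 0 := fun e => ha1 (by rw [e, tv_zero])
      refine Subgroup.subset_closure ⟨tv v₂ w₂ h₂ (c / (x * (w₁ ⬝ᵥ v₂))), mem_T.2 ⟨_, rfl⟩, ?_⟩
      show _ * _ * _⁻¹ * _⁻¹ = _
      rw [commutator_tv hβ]; congr 1; field_simp
  have cl2 : ∀ b ∈ T v₂ w₂ h₂, b ≠ 1 → Subgroup.closure
      ((fun a : SLn => a * b * a⁻¹ * b⁻¹) '' (T v₁ w₁ h₁ : Set SLn)) = T v₁ w₂ hβ := by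
    intro b hb hb1
    obtain ⟨y, rfl⟩ := mem_T.1 hb
    refine le_antisymm ((Subgroup.closure_le _).2 ?_) fun g hg => ?_
    · rintro _ ⟨a, ha, rfl⟩
      obtain ⟨x, rfl⟩ := mem_T.1 ha
      exact mem_T.2 ⟨_, commutator_tv hβ x y⟩
    · obtain ⟨c, rfl⟩ := mem_T.1 hg
      have hy : y ≠ 0 := fun e => hb1 (by rw [e, tv_zero])
      refine Subgroup.subset_closure ⟨tv v₁ w₁ h₁ (c / (y * (w₁ ⬝ᵥ v₂))), mem_T.2 ⟨_, rfl⟩, ?_⟩
      show _ * _ * _⁻¹ * _⁻¹ = _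
      rw [commutator_tv hβ]; congr 1; field_simp
  have e : ⁅T v₁ w₁ h₁, T v₂ w₂ h₂⁆ = T v₁ w₂ hβ := by
    refine le_antisymm (Subgroup.commutator_le.2 fun a ha b hb => ?_) fun g hg => ?_
    · obtain ⟨x, rfl⟩ := mem_T.1 ha
      obtain ⟨y, rfl⟩ := mem_T.1 hb
      exact mem_T.2 ⟨_, commutator_tv hβ x y⟩
    · obtain ⟨c, rfl⟩ := mem_T.1 hg
      have h := commutator_mem (mem_T.2 ⟨1, rfl⟩ : tv v₁ w₁ h₁ 1 ∈ T v₁ w₁ h₁)
        (mem_T.2 ⟨c / (w₁ ⬝ᵥ v₂), rfl⟩ : tv v₂ w₂ h₂ (c / (w₁ ⬝ᵥ v₂)) ∈ T v₂ w₂ h₂)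
      rwa [commutator_tv hβ, one_mul, div_mul_cancel₀ _ hα] at h
  refine ⟨e, e ▸ hS _ ⟨v₁, w₂, hβ, hv, hw, rfl⟩, fun c hc x hx => ?_, e ▸ cl1, e ▸ cl2⟩
  rw [e] at hc
  have hle : T v₁ w₁ h₁ ⊔ T v₂ w₂ h₂ ≤ Subgroup.centralizer {c} := by
    refine sup_le (fun z hz => ?_) (fun z hz => ?_) <;>
      refine Subgroup.mem_centralizer_iff.2 fun u hu => ?_ <;>
      rw [Set.mem_singleton_iff.1 hu]
    · exact (commute_of_commutator_eq_bot (commute_case (h₁ := h₁) (h₂ := hβ) h₁ hβ) hz hc).symm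
    · exact (commute_of_commutator_eq_bot (commute_case (h₁ := h₂) (h₂ := hβ) hβ h₂) hz hc).symm
  exact Subgroup.mem_centralizer_iff.1 (hle hx) c rfl

/-- The action on column vectors. -/
@[reducible] def colAction (n : ℕ) (F : Type*) [Field F] :
    MulAction (Matrix.SpecialLinearGroup (Fin (n + 3)) F) (Fin (n + 3) → F) where
  smul g x := (g : Matrix (Fin (n + 3)) (Fin (n + 3)) F) *ᵥ x
  one_smul x := by
    show ((1 : Matrix.SpecialLinearGroup (Fin (n + 3)) F) : Matrix (Fin (n + 3)) (Fin (n + 3)) F) *ᵥ x = x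
    rw [Matrix.SpecialLinearGroup.coe_one, one_mulVec]
  mul_smul a b x := by
    show ((a * b : Matrix.SpecialLinearGroup (Fin (n + 3)) F) : Matrix (Fin (n + 3)) (Fin (n + 3)) F) *ᵥ x = _
    rw [Matrix.SpecialLinearGroup.coe_mul, ← mulVec_mulVec]
    rfl

theorem sl2_case (hα : w₁ ⬝ᵥ v₂ ≠ 0) (hβ : w₂ ⬝ᵥ v₁ ≠ 0) :
    ∃ φ : Matrix.SpecialLinearGroup (Fin 2) F →* SLn, Function.Injective φ ∧
      (upperUnipotentSL2 F).map φ = T v₁ w₁ h₁ ∧ (lowerUnipotentSL2 F).map φ = T v₂ w₂ h₂ := by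
  letI := colAction n F
  have hsmul : ∀ (g : SLn) (x : Vect), g • x = (g : Mat) *ᵥ x := fun _ _ => rfl
  have ext_smul : ∀ g h : SLn, (∀ x : Vect, g • x = h • x) → g = h := fun g h e =>
    Subtype.ext (Matrix.ext_iff_mulVec.2 e)
  have act : ∀ {v w : Vect} (h : w ⬝ᵥ v = 0) (c : F) (x : Vect),
      tv v w h c • x = x + (c * (w ⬝ᵥ x)) • v := fun h c x => by
    rw [hsmul, tv_mat, add_mulVec, one_mulVec, smul_mulVec, vecMulVec_mulVec]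
    simp [smul_smul]
  obtain ⟨a, ha⟩ : ∃ a, a = w₁ ⬝ᵥ v₂ := ⟨_, rfl⟩
  obtain ⟨b, hb⟩ : ∃ b, b = w₂ ⬝ᵥ v₁ := ⟨_, rfl⟩
  have ha0 : a ≠ 0 := ha ▸ hα
  have hb0 : b ≠ 0 := hb ▸ hβ
  obtain ⟨φ, hφ, hu, hv⟩ := RootClass10.exists_sl2_hom (RingHom.id F) ext_smul v₁ (a⁻¹ • v₂)
    (b⁻¹ • dotProductBilin F F w₂) (dotProductBilin F F w₁)
    (by simp [← hb, hb0]) (by simp [h₂]) (by simp [h₁]) (by simp [← ha, ha0])
    (fun c => ⟨tv v₁ w₁ h₁ c, fun x => by rw [act]; simp⟩)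
    (fun c => ⟨tv v₂ w₂ h₂ (c * b⁻¹ * a⁻¹), fun x => by
      rw [act]; simp only [RingHom.id_apply, LinearMap.smul_apply, dotProductBilin_apply_apply, smul_eq_mul,
        smul_smul]
      congr 2; ring⟩)
  have eu : ∀ c, φ (SL2.u c) = tv v₁ w₁ h₁ c := fun c => ext_smul _ _ fun x => by
    rw [hu, act]; simp
  have ev : ∀ c, φ (SL2.v c) = tv v₂ w₂ h₂ (c * b⁻¹ * a⁻¹) := fun c => ext_smul _ _ fun x => by
    rw [hv, act]; simp only [RingHom.id_apply, LinearMap.smul_apply, dotProductBilin_apply_apply, smul_eq_mul,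
      smul_smul]
    congr 2; ring
  refine ⟨φ, hφ, ?_, ?_⟩ <;> ext g <;> rw [mem_T] <;> constructor
  · rintro ⟨y, hy, rfl⟩
    obtain ⟨x, rfl⟩ := SL2.mem_upper.1 hy
    exact ⟨x, eu x⟩
  · rintro ⟨c, rfl⟩
    exact ⟨SL2.u c, SL2.mem_upper.2 ⟨c, rfl⟩, eu c⟩
  · rintro ⟨y, hy, rfl⟩
    obtain ⟨x, rfl⟩ := SL2.mem_lower.1 hy
    exact ⟨_, ev x⟩
  · rintro ⟨c, rfl⟩
    refine ⟨SL2.v (c * b * a), SL2.mem_lower.2 ⟨_, rfl⟩, ?_⟩
    rw [ev]; congr 1; field_simp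

/-- The family of the transvection groups. -/
def fam (F : Type*) [Field F] (n : ℕ) : Set (Subgroup (Matrix.SpecialLinearGroup (Fin (n + 3)) F)) := {A | Mem A}

theorem main (F : Type*) [Field F] (n : ℕ) :
    IsRootSubgroupClass (fam F n) ∧ IsNondegenerateRootSet (fam F n) ∧ IsKRootSubgroupSet F (fam F n) ∧
      IsConnectedFamily (FAdj (fam F n)) (fam F n) := by
  have std : ∀ i : Fin (n + 3), (Pi.single i (1 : F) : Fin (n + 3) → F) ≠ 0 := fun i => by simp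
  have orth : ∀ i j : Fin (n + 3), i ≠ j → (Pi.single i (1 : F) : Fin (n + 3) → F) ⬝ᵥ Pi.single j 1 = 0 :=
    fun i j h => by simp [Pi.single_eq_of_ne h, Pi.single_eq_of_ne (Ne.symm h)]
  have one : ∀ i : Fin (n + 3), (Pi.single i (1 : F) : Fin (n + 3) → F) ⬝ᵥ Pi.single i 1 ≠ 0 := fun i => by simp
  have n01 : (0 : Fin (n + 3)) ≠ 1 := by simp [Fin.ext_iff]
  have n12 : (1 : Fin (n + 3)) ≠ 2 := by
    simp [Fin.ext_iff, Fin.val_two, Nat.mod_eq_of_lt (show 2 < n + 3 by omega)]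
  have n02 : (0 : Fin (n + 3)) ≠ 2 := by
    simp [Fin.ext_iff, Fin.val_two, Nat.mod_eq_of_lt (show 2 < n + 3 by omega)]
  let E : ∀ i j : Fin (n + 3), i ≠ j → Subgroup (Matrix.SpecialLinearGroup (Fin (n + 3)) F) := fun i j h =>
    T (Pi.single i (1 : F)) (Pi.single j 1) (orth j i (Ne.symm h))
  have hE : ∀ i j h, E i j h ∈ fam F n := fun i j h => ⟨_, _, _, std i, std j, rfl⟩
  have hpair : ∀ A ∈ fam F n, ∀ B ∈ fam F n, ⁅A, B⁆ = ⊥ ∨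
      RootCommutatorCase (fam F n) A B ∨
      ∃ φ : Matrix.SpecialLinearGroup (Fin 2) F →* Matrix.SpecialLinearGroup (Fin (n + 3)) F,
        Function.Injective φ ∧ (upperUnipotentSL2 F).map φ = A ∧ (lowerUnipotentSL2 F).map φ = B := by
    rintro A ⟨v₁, w₁, h₁, hv₁, hw₁, rfl⟩ B ⟨v₂, w₂, h₂, hv₂, hw₂, rfl⟩
    by_cases hα : w₁ ⬝ᵥ v₂ = 0 <;> by_cases hβ : w₂ ⬝ᵥ v₁ = 0
    · exact Or.inl (commute_case hα hβ)
    · exact Or.inr (Or.inl (cc_symm (cc_case (fam F n) (fun _ h => h) hβ hα hv₂ hw₁).2))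
    · exact Or.inr (Or.inl (cc_case (fam F n) (fun _ h => h) hα hβ hv₁ hw₂).2)
    · exact Or.inr (Or.inr (sl2_case hα hβ))
  have hgen : (⨆ A ∈ fam F n, A) = ⊤ := by
    refine Cfsg.Agent.LinearGroup.eq_top_of_transvection_mem fun i j hij c => ?_
    refine (le_iSup₂ (f := fun (B : Subgroup _) (_ : B ∈ fam F n) => B) _ (hE i j hij)) (mem_T.2 ⟨c, ?_⟩)
    apply Subtype.ext
    rw [tv_mat, ← smul_vecMulVec]
    show Matrix.transvection i j c = _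
    rw [ThreeTrans62.transvection_eq]
    congr 2
    simp [← Pi.single_smul]
  have hS : IsRootSubgroupSet (fam F n) := by
    refine ⟨?_, ?_, hgen, fun A hA g => mem_conj hA g, fun A hA B hB => ?_⟩
    · rintro A ⟨v, w, h, -, -, rfl⟩; exact T_commutative h
    · rintro A ⟨v, w, h, hv, hw, rfl⟩; exact T_ne_bot h hv hw
    · rcases hpair A hA B hB with h | h | ⟨φ, hφ, rfl, rfl⟩
      · exact Or.inl h
      · exact Or.inr (Or.inr h)
      · exact Or.inr (Or.inl (RootClass10.isRankOnePair_map φ hφ))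
  have hcl : IsConjClassOfSubgroups (fam F n) := by
    have key : ∀ A ∈ fam F n, ∃ g, A = conjBy (E 0 1 n01) g := by
      rintro A ⟨v, w, h, hv, hw, rfl⟩
      have ht : ThreeTrans62.IsTv (tv v w h 1) := ⟨v, w, hv, hw, h, by rw [tv_mat, one_smul]⟩
      obtain ⟨g, hg⟩ := ThreeTrans62.exists_conj ht
      refine ⟨g, ?_⟩
      obtain ⟨h', e⟩ := conj_tv g⁻¹ h
      have e1 := e 1
      have key : vecMulVec (((g⁻¹ : Matrix.SpecialLinearGroup (Fin (n + 3)) F) : Matrix (Fin (n + 3)) (Fin (n + 3)) F) *ᵥ v)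
          (w ᵥ* ((g : Matrix.SpecialLinearGroup (Fin (n + 3)) F) : Matrix (Fin (n + 3)) (Fin (n + 3)) F)) =
          vecMulVec (Pi.single 0 (1 : F)) (Pi.single 1 1) := by
        have := congrArg Subtype.val e1
        rw [tv_mat, one_smul] at this
        simp only [inv_inv] at this
        rw [hg, ThreeTrans62.transvection_eq] at this
        exact (add_left_cancel this).symm
      have hT : conjBy (T v w h) g⁻¹ = E 0 1 n01 := by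
        ext x
        constructor
        · rintro ⟨y, hy, rfl⟩
          obtain ⟨c, rfl⟩ := mem_T.1 hy
          refine mem_T.2 ⟨c, (e c).trans (Subtype.ext ?_)⟩
          rw [tv_mat, tv_mat, inv_inv, key]
        · intro hx
          obtain ⟨c, rfl⟩ := mem_T.1 hx
          refine ⟨tv v w h c, mem_T.2 ⟨c, rfl⟩, (e c).trans (Subtype.ext ?_)⟩
          rw [tv_mat, tv_mat, inv_inv, key]
      rw [← hT, conjBy_conjBy, mul_inv_cancel, conjBy_one]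
    refine ⟨⟨_, hE 0 1 n01⟩, fun A hA B hB => ?_⟩
    obtain ⟨g, rfl⟩ := key A hA
    obtain ⟨g', rfl⟩ := key B hB
    exact ⟨g' * g⁻¹, by rw [conjBy_conjBy, inv_mul_cancel_right]⟩
  obtain ⟨ψ, hψ, hψu, hψv⟩ := sl2_case (h₁ := orth 1 0 (Ne.symm n01)) (h₂ := orth 0 1 n01) (one 1) (one 0)
  have hP : IsRankOnePair (E 0 1 n01) (E 1 0 (Ne.symm n01)) := by
    have := RootClass10.isRankOnePair_map ψ hψ
    rwa [hψu, hψv] at this
  refine ⟨⟨hS, hcl⟩, ⟨⟨E 0 1 n01, hE 0 1 n01, E 0 2 n02, hE 0 2 n02, fun e => ?_, ?_⟩,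
    ⟨_, hE 0 1 n01, _, hE 1 0 (Ne.symm n01), hP⟩, ⟨E 0 1 n01, hE 0 1 n01, E 1 2 n12, hE 1 2 n12, ?_⟩⟩, ⟨hS, ?_⟩,
    connected_of_class hS hcl (hE 0 1 n01) (hE 1 0 (Ne.symm n01)) hP⟩
  · have h : tv _ _ (orth 1 0 (Ne.symm n01)) (1 : F) ∈ E 0 2 n02 := e ▸ mem_T.2 ⟨1, rfl⟩
    obtain ⟨c, hc⟩ := mem_T.1 h
    have := congrArg (fun g : Matrix.SpecialLinearGroup (Fin (n + 3)) F =>
      (g : Matrix (Fin (n + 3)) (Fin (n + 3)) F) 0 1) hc
    simp [tv_mat, vecMulVec_apply, n12, n01] at this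
  · exact commute_case (orth 1 0 (Ne.symm n01)) (orth 2 0 (Ne.symm n02))
  · exact (cc_case (fam F n) (fun _ h => h) (one 1) (orth 2 0 (Ne.symm n02)) (std 0) (std 2)).2
  · intro A hA B hB hp
    rcases hpair A hA B hB with h | h | ⟨φ, hφ, rfl, rfl⟩
    · exact absurd hp (comm_of_pair_bot h)
    · exact absurd hp (not_pair_of_cc' hS hA h)
    · exact RootClass10.isPSL2PairOver_map φ hφ

theorem fam_eq (F : Type*) [Field F] (n : ℕ) :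
    {A : Subgroup (Matrix.SpecialLinearGroup (Fin (n + 3)) F) |
        ∃ g : Matrix.SpecialLinearGroup (Fin (n + 3)) F,
          A = Cfsg.conjBy (Subgroup.closure {t : Matrix.SpecialLinearGroup (Fin (n + 3)) F |
            ∃ c : F, (t : Matrix (Fin (n + 3)) (Fin (n + 3)) F) = Matrix.transvection 0 1 c}) g} = fam F n := by
  have n01 : (0 : Fin (n + 3)) ≠ 1 := by simp [Fin.ext_iff]
  have h01 : (Pi.single 1 (1 : F) : Fin (n + 3) → F) ⬝ᵥ Pi.single 0 1 = 0 := by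
    simp [Pi.single_eq_of_ne n01, Pi.single_eq_of_ne (Ne.symm n01)]
  have htr : ∀ c : F, Matrix.transvection (0 : Fin (n + 3)) 1 c =
      ((tv _ _ h01 c : Matrix.SpecialLinearGroup (Fin (n + 3)) F) : Matrix (Fin (n + 3)) (Fin (n + 3)) F) := by
    intro c
    rw [tv_mat, ← smul_vecMulVec, ThreeTrans62.transvection_eq]
    congr 2
    simp [← Pi.single_smul]
  have e : Subgroup.closure {t : Matrix.SpecialLinearGroup (Fin (n + 3)) F |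
      ∃ c : F, (t : Matrix (Fin (n + 3)) (Fin (n + 3)) F) = Matrix.transvection 0 1 c} =
      T (Pi.single 0 (1 : F)) (Pi.single 1 1) h01 := by
    refine le_antisymm ((Subgroup.closure_le _).2 ?_) fun g hg => ?_
    · rintro t ⟨c, hc⟩
      exact mem_T.2 ⟨c, Subtype.ext (hc.trans (htr c))⟩
    · obtain ⟨c, rfl⟩ := mem_T.1 hg
      exact Subgroup.subset_closure ⟨c, (htr c).symm⟩
  have hmem : T (Pi.single 0 (1 : F)) (Pi.single 1 1) h01 ∈ fam F n := ⟨_, _, h01, by simp, by simp, rfl⟩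
  ext A
  rw [e]
  constructor
  · rintro ⟨g, rfl⟩
    exact mem_conj hmem g
  · intro hA
    exact (main F n).1.2.2 _ hmem A hA

end Cfsg.Agent.RootSubgroups.ClassSL
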