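import Cfsg.Agent.Lib.RootSubgroups.RootSet

/-!
Commutators of joins, central series given by a chain, and the commutator case seen from one
non-identity element.
-/

set_option autoImplicit false
open Cfsg

namespace Cfsg.Agent.RootSubgroups

variable {G : Type*} [Group G]

/-- `⁅L₁ ⊔ L₂, R⁆ ≤ K` follows from the two parts when `R` and the `Lᵢ` normalise `K`. -/
theorem commutator_sup_le {L₁ L₂ R K : Subgroup G} (h1 : ⁅L₁, R⁆ ≤ K) (h2 : ⁅L₂, R⁆ ≤ K)
    (hn1 : L₁ ≤ Subgroup.normalizer (K : Set G)) (hn2 : L₂ ≤ Subgroup.normalizer (K : Set G)) :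
    ⁅L₁ ⊔ L₂, R⁆ ≤ K := by
  rw [Subgroup.commutator_le]
  intro g hg x hx
  let H : Subgroup G :=
    { carrier := {g | g ∈ Subgroup.normalizer (K : Set G) ∧ g * x * g⁻¹ * x⁻¹ ∈ K}
      one_mem' := ⟨one_mem _, by simp⟩
      mul_mem' := by
        rintro g g' ⟨hn, hm⟩ ⟨hn', hm'⟩
        refine ⟨mul_mem hn hn', ?_⟩
        rw [show g * g' * x * (g * g')⁻¹ * x⁻¹ =
          g * (g' * x * g'⁻¹ * x⁻¹) * g⁻¹ * (g * x * g⁻¹ * x⁻¹) by group]
        exact mul_mem ((Subgroup.mem_normalizer_iff.1 hn _).1 hm') hm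
      inv_mem' := by
        rintro g ⟨hn, hm⟩
        refine ⟨inv_mem hn, ?_⟩
        rw [show g⁻¹ * x * g⁻¹⁻¹ * x⁻¹ = g⁻¹ * (g * x * g⁻¹ * x⁻¹)⁻¹ * g⁻¹⁻¹ by group]
        exact (Subgroup.mem_normalizer_iff.1 (inv_mem hn) _).1 (inv_mem hm) }
  exact (sup_le (a := L₁) (b := L₂) (c := H) (fun y hy => ⟨hn1 hy, Subgroup.commutator_le.1 h1 y hy x hx⟩)
    (fun y hy => ⟨hn2 hy, Subgroup.commutator_le.1 h2 y hy x hx⟩) hg).2

theorem commutator_sup_le_right {L R₁ R₂ K : Subgroup G} (h1 : ⁅L, R₁⁆ ≤ K) (h2 : ⁅L, R₂⁆ ≤ K)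
    (hn1 : R₁ ≤ Subgroup.normalizer (K : Set G)) (hn2 : R₂ ≤ Subgroup.normalizer (K : Set G)) :
    ⁅L, R₁ ⊔ R₂⁆ ≤ K := by
  rw [Subgroup.commutator_comm] at h1 h2 ⊢
  exact commutator_sup_le h1 h2 hn1 hn2

theorem le_normalizer_of_commutator_le {R K : Subgroup G} (h : ⁅K, R⁆ ≤ K) :
    R ≤ Subgroup.normalizer (K : Set G) := by
  have key : ∀ r ∈ R, ∀ x ∈ K, r * x * r⁻¹ ∈ K := fun r hr x hx => by
    rw [show r * x * r⁻¹ = (x * r * x⁻¹ * r⁻¹)⁻¹ * x by group]
    exact mul_mem (inv_mem (h (commutator_mem hx hr))) hx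
  intro r hr
  rw [Subgroup.mem_normalizer_iff]
  exact fun x => ⟨key r hr x, fun hx => by simpa [mul_assoc] using key r⁻¹ (inv_mem hr) _ hx⟩

/-- A step of a central chain. -/
theorem chain_step {K L R : Subgroup G} (hK : ⁅K, R⁆ ≤ K) (hLn : L ≤ R) (hKn : K ≤ R)
    (hL : ⁅L, R⁆ ≤ K) : ⁅K ⊔ L, R⁆ ≤ K :=
  commutator_sup_le hK hL (hKn.trans (le_normalizer_of_commutator_le hK))
    (hLn.trans (le_normalizer_of_commutator_le hK))

/-- A group with a central chain is nilpotent. -/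
theorem isNilpotent_of_chain {R : Subgroup G} (n : ℕ) (K : ℕ → Subgroup G) (h0 : K 0 = ⊥)
    (hn : R ≤ K n) (hstep : ∀ i, i < n → ⁅K (i + 1), R⁆ ≤ K i) : Group.IsNilpotent ↥R := by
  rw [Subgroup.nilpotent_iff_lowerCentralSeries]
  refine ⟨n, ?_⟩
  have key : ∀ i, i ≤ n → R.lowerCentralSeries i ≤ K (n - i) := by
    intro i
    induction i with
    | zero => intro _; simpa using hn
    | succ i ih =>
      intro hi
      rw [Subgroup.lowerCentralSeries_succ]
      refine (Subgroup.commutator_mono (ih (by omega)) le_rfl).trans ?_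
      have h := hstep (n - (i + 1)) (by omega)
      rwa [show n - (i + 1) + 1 = n - i by omega] at h
  rw [← Subgroup.map_subtype_inj, Subgroup.map_bot, Subgroup.top_subtype_lowerCentralSeries,
    eq_bot_iff]
  simpa [h0] using key n le_rfl

variable {A B : Subgroup G} {S : Set (Subgroup G)}

theorem conjBy_le_sup_commutator {b : G} (hb : b ∈ B) : conjBy A b ≤ A ⊔ ⁅A, B⁆ := by
  rintro _ ⟨a, ha, rfl⟩
  change b * a * b⁻¹ ∈ _
  rw [show b * a * b⁻¹ = (a * b * a⁻¹ * b⁻¹)⁻¹ * a by group]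
  exact mul_mem (Subgroup.mem_sup_right (inv_mem (commutator_mem ha hb))) (Subgroup.mem_sup_left ha)

theorem commutator_le_sup_conjBy (h : RootCommutatorCase S A B) {b : G} (hb : b ∈ B) (hb1 : b ≠ 1) :
    ⁅A, B⁆ ≤ A ⊔ conjBy A b := by
  intro x hx
  obtain ⟨a, ha, rfl⟩ := cc_exists_comm' h hb hb1 hx
  rw [show a * b * a⁻¹ * b⁻¹ = a * (b * a⁻¹ * b⁻¹) by group]
  exact mul_mem (Subgroup.mem_sup_left ha) (Subgroup.mem_sup_right (conj_mem_conjBy (inv_mem ha)))

theorem isMulCommutative_sup (hA : IsMulCommutative A) (hB : IsMulCommutative B) (h : ⁅A, B⁆ = ⊥) :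
    IsMulCommutative ↥(A ⊔ B) := by
  have hle : A ⊔ B ≤ Subgroup.centralizer ((A ⊔ B : Subgroup G) : Set G) := by
    have hA' : ∀ a ∈ A, ∀ x ∈ A ⊔ B, a * x = x * a := fun a ha x hx => by
      have : A ⊔ B ≤ Subgroup.centralizer {a} := sup_le
        (fun y hy => Subgroup.mem_centralizer_iff.2 fun v hv => by
          rw [Set.mem_singleton_iff.1 hv]; exact comm_of_comm hA ha hy)
        (fun y hy => Subgroup.mem_centralizer_iff.2 fun v hv => by
          rw [Set.mem_singleton_iff.1 hv]; exact commute_of_commutator_eq_bot h ha hy)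
      exact Subgroup.mem_centralizer_iff.1 (this hx) a rfl
    have hB' : ∀ b ∈ B, ∀ x ∈ A ⊔ B, b * x = x * b := fun b hb x hx => by
      have : A ⊔ B ≤ Subgroup.centralizer {b} := sup_le
        (fun y hy => Subgroup.mem_centralizer_iff.2 fun v hv => by
          rw [Set.mem_singleton_iff.1 hv]; exact (commute_of_commutator_eq_bot h hy hb).symm)
        (fun y hy => Subgroup.mem_centralizer_iff.2 fun v hv => by
          rw [Set.mem_singleton_iff.1 hv]; exact comm_of_comm hB hb hy)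
      exact Subgroup.mem_centralizer_iff.1 (this hx) b rfl
    exact sup_le (fun a ha => Subgroup.mem_centralizer_iff.2 fun x hx => (hA' a ha x hx).symm)
      (fun b hb => Subgroup.mem_centralizer_iff.2 fun x hx => (hB' b hb x hx).symm)
  exact isMulCommutative_of_forall fun x hx y hy => (Subgroup.mem_centralizer_iff.1 (hle hx) y hy).symm

end Cfsg.Agent.RootSubgroups
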