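import Cfsg.Agent.Lib.RootSubgroups.SiegelPlus

/-!
Pairs of Siegel transvection groups.
-/

set_option autoImplicit false

namespace Cfsg.Agent.RootSubgroups.SiegelPlus

open Cfsg Matrix
open Cfsg.Agent.OPlusTwo (Vec bil bil_apply bil_comm quad_add quad_smul exists_bil_one)

variable {F : Type*} [Field F] {n : ℕ} {p₁ r₁ p₂ r₂ : Vec F n}

/-- The family of the Siegel transvection groups. -/
def Fam (F : Type*) [Field F] (n : ℕ) : Set (Subgroup (O F n)) := {A | ∃ p r, IsLn p r ∧ A = T p r}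

theorem T_commutative {p r : Vec F n} (h : Sg p r) : IsMulCommutative (T p r) :=
  isMulCommutative_of_forall fun a ha b hb => by
    obtain ⟨x, rfl⟩ := (mem_T h).1 ha
    obtain ⟨y, rfl⟩ := (mem_T h).1 hb
    rw [sg_add, sg_add, add_comm x y]

theorem commute_case (h₁ : Sg p₁ r₁) (h₂ : Sg p₂ r₂) (a : bil n F p₁ p₂ = 0) (b : bil n F p₁ r₂ = 0)
    (c : bil n F r₁ p₂ = 0) (d : bil n F r₁ r₂ = 0) : ⁅T p₁ r₁, T p₂ r₂⁆ = ⊥ := by
  refine commutator_eq_bot_of_commute fun g hg k hk => ?_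
  obtain ⟨x, rfl⟩ := (mem_T h₁).1 hg
  obtain ⟨y, rfl⟩ := (mem_T h₂).1 hk
  refine ext_act fun v => ?_
  simp only [act_mul, act_sg, D_add, D_smul]
  simp only [D, map_sub, map_smul, LinearMap.sub_apply, LinearMap.smul_apply, smul_eq_mul, a, b, c, d,
    bil_comm p₂ p₁, bil_comm r₂ p₁, bil_comm p₂ r₁, bil_comm r₂ r₁]
  module

theorem commutator_sg (h₁ : Sg p₁ r₁) (h₂ : Sg p₂ r₂) (h₃ : Sg r₁ r₂) (a : bil n F p₁ p₂ = 1)
    (b : bil n F p₁ r₂ = 0) (c : bil n F r₁ p₂ = 0) (u v : F) :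
    sg h₁ u * sg h₂ v * (sg h₁ u)⁻¹ * (sg h₂ v)⁻¹ = sg h₃ (-(u * v)) := by
  rw [mul_inv_eq_iff_eq_mul, mul_inv_eq_iff_eq_mul, mul_assoc]
  refine ext_act fun x => ?_
  simp only [act_mul, act_sg, D_add, D_smul]
  simp only [D, map_sub, map_add, map_smul, LinearMap.sub_apply, LinearMap.add_apply, LinearMap.smul_apply,
    smul_eq_mul, a, b, c, h₃.pr, h₁.rr, h₂.rr, h₁.pr, h₁.rp, h₂.pr, h₂.rp, bil_comm p₂ p₁, bil_comm r₂ p₁,
    bil_comm p₂ r₁, bil_comm r₂ r₁]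
  module

/-- The rank one case: two lines with pairing of rank one. -/
theorem cc_case (h₁ : IsLn p₁ r₁) (h₂ : IsLn p₂ r₂) (a : bil n F p₁ p₂ = 1) (b : bil n F p₁ r₂ = 0)
    (c : bil n F r₁ p₂ = 0) (d : bil n F r₁ r₂ = 0) :
    ⁅T p₁ r₁, T p₂ r₂⁆ = ⊥ ∨ RootCommutatorCase (Fam F n) (T p₁ r₁) (T p₂ r₂) := by
  have h₃ : Sg r₁ r₂ := ⟨h₁.2.2.1, h₂.2.2.1, d⟩
  have hc := commutator_sg h₁.2 h₂.2 h₃ a b c
  by_cases hind : ∀ s t : F, s • r₁ + t • r₂ = 0 → s = 0 ∧ t = 0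
  swap
  · left
    push Not at hind
    obtain ⟨s, t, hst, hne⟩ := hind
    refine commutator_eq_bot_of_commute fun g hg k hk => ?_
    obtain ⟨x, rfl⟩ := (mem_T h₁.2).1 hg
    obtain ⟨y, rfl⟩ := (mem_T h₂.2).1 hk
    have h0 : sg h₃ (-(x * y)) = 1 := by
      refine ext_act fun v => ?_
      rw [act_sg, act_one, add_eq_left]
      by_cases hs : s = 0
      · exfalso
        have ht : t ≠ 0 := hne hs
        rw [hs, zero_smul, zero_add, smul_eq_zero] at hst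
        exact one_ne_zero (h₂.1 0 1 (by simp [hst.resolve_left ht])).2
      · have e : r₁ = (-(t / s)) • r₂ := by
          have e1 : r₁ = s⁻¹ • (s • r₁) := by rw [smul_smul, inv_mul_cancel₀ hs, one_smul]
          rw [e1, eq_neg_of_add_eq_zero_left hst, smul_neg, smul_smul, neg_smul, inv_mul_eq_div]
        simp only [D, e, map_smul, smul_eq_mul]
        module
    have := hc x y
    rw [h0, mul_inv_eq_iff_eq_mul, mul_inv_eq_iff_eq_mul, one_mul] at this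
    exact this
  right
  have h₃' : IsLn r₁ r₂ := ⟨hind, h₃⟩
  have e : ⁅T p₁ r₁, T p₂ r₂⁆ = T r₁ r₂ := by
    refine le_antisymm (Subgroup.commutator_le.2 fun g hg k hk => ?_) fun g hg => ?_
    · obtain ⟨x, rfl⟩ := (mem_T h₁.2).1 hg
      obtain ⟨y, rfl⟩ := (mem_T h₂.2).1 hk
      exact (mem_T h₃).2 ⟨_, hc x y⟩
    · obtain ⟨z, rfl⟩ := (mem_T h₃).1 hg
      have h := commutator_mem ((mem_T h₁.2).2 ⟨1, rfl⟩ : sg h₁.2 1 ∈ T p₁ r₁)
        ((mem_T h₂.2).2 ⟨-z, rfl⟩ : sg h₂.2 (-z) ∈ T p₂ r₂)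
      rwa [hc, one_mul, neg_neg] at h
  rw [RootCommutatorCase, e]
  refine ⟨⟨_, _, h₃', rfl⟩, fun g hg x hx => ?_, fun g hg hg1 => ?_, fun k hk hk1 => ?_⟩
  · have hle : T p₁ r₁ ⊔ T p₂ r₂ ≤ Subgroup.centralizer {g} := by
      refine sup_le (fun z hz => ?_) (fun z hz => ?_) <;>
        refine Subgroup.mem_centralizer_iff.2 fun u hu => ?_ <;>
        rw [Set.mem_singleton_iff.1 hu]
      · exact (commute_of_commutator_eq_bot (commute_case h₁.2 h₃ (bil_comm p₁ r₁ ▸ h₁.2.rp) b h₁.2.rr d)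
          hz hg).symm
      · exact (commute_of_commutator_eq_bot (commute_case h₂.2 h₃ (by rw [bil_comm]; exact c) h₂.2.pr
          (by rw [bil_comm]; exact d) h₂.2.rr) hz hg).symm
    exact Subgroup.mem_centralizer_iff.1 (hle hx) g rfl
  · obtain ⟨x, rfl⟩ := (mem_T h₁.2).1 hg
    have hx : x ≠ 0 := fun e => hg1 ((sg_eq_one h₁).2 e)
    refine le_antisymm ((Subgroup.closure_le _).2 ?_) fun z hz => ?_
    · rintro _ ⟨k, hk, rfl⟩
      obtain ⟨y, rfl⟩ := (mem_T h₂.2).1 hk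
      exact (mem_T h₃).2 ⟨_, hc x y⟩
    · obtain ⟨w, rfl⟩ := (mem_T h₃).1 hz
      refine Subgroup.subset_closure ⟨sg h₂.2 (-w / x), (mem_T h₂.2).2 ⟨_, rfl⟩, ?_⟩
      show _ * _ * _⁻¹ * _⁻¹ = _
      rw [hc]; congr 1; field_simp
  · obtain ⟨y, rfl⟩ := (mem_T h₂.2).1 hk
    have hy : y ≠ 0 := fun e => hk1 ((sg_eq_one h₂).2 e)
    refine le_antisymm ((Subgroup.closure_le _).2 ?_) fun z hz => ?_
    · rintro _ ⟨g, hg, rfl⟩
      obtain ⟨x, rfl⟩ := (mem_T h₁.2).1 hg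
      exact (mem_T h₃).2 ⟨_, hc x y⟩
    · obtain ⟨w, rfl⟩ := (mem_T h₃).1 hz
      refine Subgroup.subset_closure ⟨sg h₁.2 (-w / y), (mem_T h₁.2).2 ⟨_, rfl⟩, ?_⟩
      show _ * _ * _⁻¹ * _⁻¹ = _
      rw [hc]; congr 1; field_simp

/-- The map of a matrix acting on two natural modules. -/
def Φ (p₁ r₁ p₂ r₂ : Vec F n) (g : Matrix (Fin 2) (Fin 2) F) : Vec F n →ₗ[F] Vec F n where
  toFun x := x + ((g 0 0 - 1) * bil n F x p₂ + g 0 1 * bil n F x r₁) • p₁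
    + (g 1 0 * bil n F x p₂ + (g 1 1 - 1) * bil n F x r₁) • r₂
    + ((g 0 0 - 1) * bil n F x r₂ - g 0 1 * bil n F x p₁) • r₁
    - (g 1 0 * bil n F x r₂ - (g 1 1 - 1) * bil n F x p₁) • p₂
  map_add' x y := by simp only [map_add, LinearMap.add_apply]; module
  map_smul' a x := by simp only [map_smul, LinearMap.smul_apply, smul_eq_mul, RingHom.id_apply]; module

theorem Φ_apply (g : Matrix (Fin 2) (Fin 2) F) (x : Vec F n) : Φ p₁ r₁ p₂ r₂ g x =
    x + ((g 0 0 - 1) * bil n F x p₂ + g 0 1 * bil n F x r₁) • p₁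
    + (g 1 0 * bil n F x p₂ + (g 1 1 - 1) * bil n F x r₁) • r₂
    + ((g 0 0 - 1) * bil n F x r₂ - g 0 1 * bil n F x p₁) • r₁
    - (g 1 0 * bil n F x r₂ - (g 1 1 - 1) * bil n F x p₁) • p₂ := rfl

/-- Normalised opposite lines give a copy of `SL₂`. -/
theorem sl2_case (h₁ : IsLn p₁ r₁) (h₂ : IsLn p₂ r₂) (a : bil n F p₁ p₂ = 1) (b : bil n F p₁ r₂ = 0)
    (c : bil n F r₁ p₂ = 0) (d : bil n F r₁ r₂ = 1) :
    ∃ φ : Matrix.SpecialLinearGroup (Fin 2) F →* O F n, Function.Injective φ ∧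
      (upperUnipotentSL2 F).map φ = T p₁ r₁ ∧ (lowerUnipotentSL2 F).map φ = T p₂ r₂ := by
  have hP : ∀ x y, bil n F x y = bil n F y x := bil_comm
  have P : bil n F p₁ p₁ = 0 ∧ bil n F r₁ r₁ = 0 ∧ bil n F p₂ p₂ = 0 ∧ bil n F r₂ r₂ = 0 ∧
      bil n F p₁ r₁ = 0 ∧ bil n F r₁ p₁ = 0 ∧ bil n F p₂ r₂ = 0 ∧ bil n F r₂ p₂ = 0 ∧
      bil n F p₂ p₁ = 1 ∧ bil n F r₂ p₁ = 0 ∧ bil n F p₂ r₁ = 0 ∧ bil n F r₂ r₁ = 1 :=
    ⟨h₁.2.pp, h₁.2.rr, h₂.2.pp, h₂.2.rr, h₁.2.pr, h₁.2.rp, h₂.2.pr, h₂.2.rp,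
      by rw [hP, a], by rw [hP, b], by rw [hP, c], by rw [hP, d]⟩
  obtain ⟨q1, q2, q3, q4, q5, q6, q7, q8, q9, q10, q11, q12⟩ := P
  have hmul : ∀ g h : Matrix (Fin 2) (Fin 2) F, ∀ x,
      Φ p₁ r₁ p₂ r₂ g (Φ p₁ r₁ p₂ r₂ h x) = Φ p₁ r₁ p₂ r₂ (g * h) x := by
    intro g h x
    simp only [Φ_apply, map_sub, map_add, map_smul, LinearMap.sub_apply, LinearMap.add_apply,
      LinearMap.smul_apply, smul_eq_mul, a, b, c, d, q1, q2, q3, q4, q5, q6, q7, q8, q9, q10, q11, q12,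
      Matrix.mul_apply, Fin.sum_univ_two]
    module
  have hone : Φ p₁ r₁ p₂ r₂ 1 = LinearMap.id := LinearMap.ext fun x => by simp [Φ_apply]
  let M : Matrix.SpecialLinearGroup (Fin 2) F →* Matrix (Fin n ⊕ Fin n) (Fin n ⊕ Fin n) F :=
    { toFun := fun g => LinearMap.toMatrix' (Φ p₁ r₁ p₂ r₂ (g : Matrix (Fin 2) (Fin 2) F))
      map_one' := by rw [Matrix.SpecialLinearGroup.coe_one, hone, LinearMap.toMatrix'_id]
      map_mul' := fun g h => by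
        rw [← LinearMap.toMatrix'_comp]
        exact congrArg _ (LinearMap.ext fun x => (hmul g h x).symm) }
  have eu : ∀ t, M.toHomUnits (SL2.u t) = ((sg h₁.2 t : O F n) : GL (Fin n ⊕ Fin n) F) := fun t => by
    refine Units.ext (Matrix.ext_iff_mulVec.2 fun x => ?_)
    rw [MonoidHom.coe_toHomUnits]
    refine (LinearMap.toMatrix'_mulVec _ _).trans (Eq.trans ?_ (act_sg h₁.2 t x).symm)
    simp [Φ_apply, D]
    module
  have ev : ∀ t, M.toHomUnits (SL2.v t) = ((sg h₂.2 (-t) : O F n) : GL (Fin n ⊕ Fin n) F) := fun t => by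
    refine Units.ext (Matrix.ext_iff_mulVec.2 fun x => ?_)
    rw [MonoidHom.coe_toHomUnits]
    refine (LinearMap.toMatrix'_mulVec _ _).trans (Eq.trans ?_ (act_sg h₂.2 (-t) x).symm)
    simp [Φ_apply, D]
    module
  have hr : ∀ g, M.toHomUnits g ∈ isometryGroup F (quadFormPlus n F) := by
    intro g
    have hle : lowerUnipotentSL2 F ⊔ upperUnipotentSL2 F ≤
        (isometryGroup F (quadFormPlus n F)).comap M.toHomUnits := by
      refine sup_le (fun y hy => ?_) (fun y hy => ?_)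
      · obtain ⟨t, rfl⟩ := SL2.mem_lower.1 hy
        rw [Subgroup.mem_comap, ev]; exact Subtype.coe_prop _
      · obtain ⟨t, rfl⟩ := SL2.mem_upper.1 hy
        rw [Subgroup.mem_comap, eu]; exact Subtype.coe_prop _
    exact hle (by rw [SL2.top_eq_sup]; exact Subgroup.mem_top g)
  refine ⟨M.toHomUnits.codRestrict _ hr, ?_, ?_, ?_⟩
  · refine (injective_iff_map_eq_one _).2 fun g hg => ?_
    have h0 : ∀ x, Φ p₁ r₁ p₂ r₂ (g : Matrix (Fin 2) (Fin 2) F) x = x := fun x => by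
      have := congrArg (fun k : O F n => act k x) hg
      rw [act_one] at this
      exact (LinearMap.toMatrix'_mulVec _ _).symm.trans this
    have e1 := congrArg (fun y => bil n F y p₂) (h0 p₁)
    have e2 := congrArg (fun y => bil n F y r₁) (h0 p₁)
    have e3 := congrArg (fun y => bil n F y p₂) (h0 r₂)
    have e4 := congrArg (fun y => bil n F y r₁) (h0 r₂)
    simp [Φ_apply, a, b, c, d, q1, q2, q3, q4, q5, q6, q7, q8, q9, q10, q11, q12] at e1 e2 e3 e4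
    apply SL2.ext2 <;> simp <;> first | assumption | linear_combination e1 | linear_combination e4
  · ext g
    rw [mem_T h₁.2]
    constructor
    · rintro ⟨y, hy, rfl⟩
      obtain ⟨t, rfl⟩ := SL2.mem_upper.1 hy
      exact ⟨t, Subtype.ext (eu t)⟩
    · rintro ⟨t, rfl⟩
      exact ⟨SL2.u t, SL2.mem_upper.2 ⟨t, rfl⟩, Subtype.ext (eu t)⟩
  · ext g
    rw [mem_T h₂.2]
    constructor
    · rintro ⟨y, hy, rfl⟩
      obtain ⟨t, rfl⟩ := SL2.mem_lower.1 hy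
      exact ⟨-t, Subtype.ext (ev t)⟩
    · rintro ⟨t, rfl⟩
      exact ⟨SL2.v (-t), SL2.mem_lower.2 ⟨_, rfl⟩, Subtype.ext (by rw [← neg_neg t]; simpa using ev (-t))⟩

/-- Opposite lines give a copy of `SL₂`. -/
theorem sl2_of_det (h₁ : IsLn p₁ r₁) (h₂ : IsLn p₂ r₂)
    (hdet : bil n F p₁ p₂ * bil n F r₁ r₂ - bil n F p₁ r₂ * bil n F r₁ p₂ ≠ 0) :
    ∃ φ : Matrix.SpecialLinearGroup (Fin 2) F →* O F n, Function.Injective φ ∧
      (upperUnipotentSL2 F).map φ = T p₁ r₁ ∧ (lowerUnipotentSL2 F).map φ = T p₂ r₂ := by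
  obtain ⟨Δ, hΔ⟩ : ∃ Δ, Δ = bil n F p₁ p₂ * bil n F r₁ r₂ - bil n F p₁ r₂ * bil n F r₁ p₂ := ⟨_, rfl⟩
  have h0 : Δ ≠ 0 := hΔ ▸ hdet
  obtain ⟨hl, hT⟩ := h₂.change (a := bil n F r₁ r₂ / Δ) (b := -bil n F r₁ p₂ / Δ)
    (e := -bil n F p₁ r₂ / Δ) (d := bil n F p₁ p₂ / Δ) (by
      intro e
      rw [div_mul_div_comm, div_mul_div_comm, ← sub_div, div_eq_zero_iff] at e
      rcases e with e | e
      · exact hdet (by linear_combination e)
      · exact mul_ne_zero h0 h0 e)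
  rw [← hT]
  refine sl2_case h₁ hl ?_ ?_ ?_ ?_
  all_goals simp only [map_add, map_smul, smul_eq_mul]
  all_goals rw [div_mul_eq_mul_div, div_mul_eq_mul_div, ← add_div, div_eq_iff h0, hΔ]
  all_goals ring

/-- The trichotomy. -/
theorem pair_cases (h₁ : IsLn p₁ r₁) (h₂ : IsLn p₂ r₂) :
    ⁅T p₁ r₁, T p₂ r₂⁆ = ⊥ ∨ RootCommutatorCase (Fam F n) (T p₁ r₁) (T p₂ r₂) ∨
      ∃ φ : Matrix.SpecialLinearGroup (Fin 2) F →* O F n, Function.Injective φ ∧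
        (upperUnipotentSL2 F).map φ = T p₁ r₁ ∧ (lowerUnipotentSL2 F).map φ = T p₂ r₂ := by
  by_cases hdet : bil n F p₁ p₂ * bil n F r₁ r₂ - bil n F p₁ r₂ * bil n F r₁ p₂ ≠ 0
  · exact Or.inr (Or.inr (sl2_of_det h₁ h₂ hdet))
  rw [not_not] at hdet
  have norm : ∀ {p r q s : Vec F n}, IsLn p r → IsLn q s → bil n F p q ≠ 0 →
      bil n F p q * bil n F r s - bil n F p s * bil n F r q = 0 →
      ⁅T p r, T q s⁆ = ⊥ ∨ RootCommutatorCase (Fam F n) (T p r) (T q s) := by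
    intro p r q s hl hm hα hd
    obtain ⟨α, hα'⟩ : ∃ α, α = bil n F p q := ⟨_, rfl⟩
    have hα0 : α ≠ 0 := hα' ▸ hα
    obtain ⟨hl', hlT⟩ := hl.change (a := (1 : F)) (b := 0) (e := -bil n F r q / α) (d := 1) (by simp)
    obtain ⟨hm', hmT⟩ := hm.change (a := α⁻¹) (b := 0) (e := -bil n F p s / α) (d := 1) (by simp [hα0])
    rw [← hlT, ← hmT]
    refine cc_case hl' hm' ?_ ?_ ?_ ?_
    all_goals simp only [map_add, map_smul, LinearMap.add_apply, LinearMap.smul_apply, smul_eq_mul, ← hα']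
    · field_simp; ring
    · field_simp; ring
    · field_simp; ring
    · rw [← hα'] at hd; field_simp; linear_combination hd
  by_cases a : bil n F p₁ p₂ = 0
  swap
  · exact (norm h₁ h₂ a hdet).imp_right Or.inl
  by_cases b : bil n F p₁ r₂ = 0
  swap
  · obtain ⟨hs, hT⟩ := T_swap h₂
    rw [← hT]
    exact (norm h₁ hs b (by linear_combination -hdet)).imp_right Or.inl
  by_cases c : bil n F r₁ p₂ = 0
  swap
  · obtain ⟨hs, hT⟩ := T_swap h₁
    rw [← hT]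
    exact (norm hs h₂ c (by linear_combination -hdet)).imp_right Or.inl
  by_cases d : bil n F r₁ r₂ = 0
  swap
  · obtain ⟨hs, hT⟩ := T_swap h₁
    obtain ⟨hs', hT'⟩ := T_swap h₂
    rw [← hT, ← hT']
    exact (norm hs hs' d (by linear_combination hdet)).imp_right Or.inl
  exact Or.inl (commute_case h₁.2 h₂.2 a b c d)

end Cfsg.Agent.RootSubgroups.SiegelPlus
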