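import Cfsg.Agent.OPlusTwo.Form
import Cfsg.Agent.Classical10.RootClassGeneric

/-!
Siegel transvection groups of singular lines of the hyperbolic quadratic form.
-/

set_option autoImplicit false

namespace Cfsg.Agent.RootSubgroups.SiegelPlus

open Cfsg Matrix
open Cfsg.Agent.OPlusTwo (Vec bil bil_apply bil_comm quad_add quad_smul exists_bil_one)

variable {F : Type*} [Field F] {n : ℕ}

/-- The isometry group of the hyperbolic form. -/
abbrev O (F : Type*) [Field F] (n : ℕ) := ↥(isometryGroup F (quadFormPlus n F))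

/-- The action on vectors. -/
def act (g : O F n) (x : Vec F n) : Vec F n :=
  ((g : GL (Fin n ⊕ Fin n) F) : Matrix (Fin n ⊕ Fin n) (Fin n ⊕ Fin n) F) *ᵥ x

theorem act_one (x : Vec F n) : act (1 : O F n) x = x := by simp [act]

theorem act_mul (g h : O F n) (x : Vec F n) : act (g * h) x = act g (act h x) := by
  simp [act, mulVec_mulVec]

theorem act_add (g : O F n) (x y : Vec F n) : act g (x + y) = act g x + act g y := mulVec_add _ _ _

theorem act_sub (g : O F n) (x y : Vec F n) : act g (x - y) = act g x - act g y := mulVec_sub _ _ _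

theorem act_smul (g : O F n) (c : F) (x : Vec F n) : act g (c • x) = c • act g x := mulVec_smul _ _ _

theorem act_inv (g : O F n) (x : Vec F n) : act g (act g⁻¹ x) = x := by
  rw [← act_mul, mul_inv_cancel, act_one]

theorem act_inv' (g : O F n) (x : Vec F n) : act g⁻¹ (act g x) = x := by
  rw [← act_mul, inv_mul_cancel, act_one]

theorem ext_act {g h : O F n} (e : ∀ x, act g x = act h x) : g = h :=
  Subtype.ext (Units.ext (Matrix.ext_iff_mulVec.2 e))

theorem quad_act (g : O F n) (x : Vec F n) : quadFormPlus n F (act g x) = quadFormPlus n F x :=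
  g.2 x x

theorem bil_act (g : O F n) (x y : Vec F n) : bil n F (act g x) (act g y) = bil n F x y := by
  have h := quad_act g (x + y)
  rw [act_add, quad_add, quad_add, quad_act, quad_act] at h
  exact add_left_cancel h

theorem bil_act_left (g : O F n) (x y : Vec F n) : bil n F (act g x) y = bil n F x (act g⁻¹ y) := by
  conv_lhs => rw [← act_inv g y]
  rw [bil_act]

theorem bil_self (x : Vec F n) : bil n F x x = 2 * quadFormPlus n F x := by
  have h := quad_add x x
  rw [← two_smul F x, quad_smul] at h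
  linear_combination -h

/-- A singular pair. -/
def Sg (p r : Vec F n) : Prop := quadFormPlus n F p = 0 ∧ quadFormPlus n F r = 0 ∧ bil n F p r = 0

variable {p r : Vec F n}

theorem Sg.pp (h : Sg p r) : bil n F p p = 0 := by rw [bil_self, h.1, mul_zero]
theorem Sg.rr (h : Sg p r) : bil n F r r = 0 := by rw [bil_self, h.2.1, mul_zero]
theorem Sg.pr (h : Sg p r) : bil n F p r = 0 := h.2.2
theorem Sg.rp (h : Sg p r) : bil n F r p = 0 := by rw [bil_comm, h.2.2]

/-- The map `x ↦ B(x, r) p - B(x, p) r`. -/
def D (p r x : Vec F n) : Vec F n := bil n F x r • p - bil n F x p • r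

theorem D_add (p r x y : Vec F n) : D p r (x + y) = D p r x + D p r y := by
  simp only [D, map_add, LinearMap.add_apply]; module

theorem D_smul (p r : Vec F n) (c : F) (x : Vec F n) : D p r (c • x) = c • D p r x := by
  simp only [D, map_smul, LinearMap.smul_apply, smul_eq_mul]; module

theorem D_change (p r : Vec F n) (a b e d : F) (x : Vec F n) :
    D (a • p + b • r) (e • p + d • r) x = (a * d - b * e) • D p r x := by
  simp only [D, map_add, map_smul, smul_eq_mul]; module

/-- A linear isometry with a given inverse as an element of the isometry group. -/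
def mk (L L' : Vec F n →ₗ[F] Vec F n) (h : ∀ x, L (L' x) = x) (h' : ∀ x, L' (L x) = x)
    (hQ : ∀ x, quadFormPlus n F (L x) = quadFormPlus n F x) : O F n :=
  ⟨⟨LinearMap.toMatrix' L, LinearMap.toMatrix' L',
    by rw [← LinearMap.toMatrix'_comp, show L ∘ₗ L' = LinearMap.id from LinearMap.ext h, LinearMap.toMatrix'_id],
    by rw [← LinearMap.toMatrix'_comp, show L' ∘ₗ L = LinearMap.id from LinearMap.ext h',
      LinearMap.toMatrix'_id]⟩,
    fun u _ => by
      show quadFormPlus n F (LinearMap.toMatrix' L *ᵥ u) = _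
      rw [LinearMap.toMatrix'_mulVec]; exact hQ u⟩

theorem act_mk (L L' : Vec F n →ₗ[F] Vec F n) (h : ∀ x, L (L' x) = x) (h' : ∀ x, L' (L x) = x)
    (hQ : ∀ x, quadFormPlus n F (L x) = quadFormPlus n F x) (x : Vec F n) :
    act (mk L L' h h' hQ) x = L x := LinearMap.toMatrix'_mulVec _ _

/-- The Siegel map as a linear map. -/
def lin (p r : Vec F n) (c : F) : Vec F n →ₗ[F] Vec F n where
  toFun x := x + c • D p r x
  map_add' x y := by simp only [D_add]; module
  map_smul' a x := by simp only [D_smul, RingHom.id_apply]; module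

theorem lin_apply (p r : Vec F n) (c : F) (x : Vec F n) : lin p r c x = x + c • D p r x := rfl

theorem D_left (h : Sg p r) : D p r p = 0 := by simp [D, h.pr, h.pp]

theorem D_right (h : Sg p r) : D p r r = 0 := by simp [D, h.rr, h.rp]

theorem lin_neg (h : Sg p r) (c : F) (x : Vec F n) : lin p r c (lin p r (-c) x) = x := by
  have e : D p r (D p r x) = 0 := by
    rw [show D p r x = bil n F x r • p + (-bil n F x p) • r by simp [D, sub_eq_add_neg], D_add, D_smul, D_smul,
      D_left h, D_right h, smul_zero, smul_zero, add_zero]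
  simp only [lin_apply, D_add, D_smul, e]; module

theorem lin_quad (h : Sg p r) (c : F) (x : Vec F n) :
    quadFormPlus n F (lin p r c x) = quadFormPlus n F x := by
  rw [lin_apply, quad_add, quad_smul, D, sub_eq_add_neg, ← neg_smul, quad_add, quad_smul, quad_smul, h.1, h.2.1]
  simp only [map_add, map_smul, LinearMap.smul_apply, smul_eq_mul, h.pr]
  ring

/-- The Siegel transvection. -/
def sg (h : Sg p r) (c : F) : O F n :=
  mk (lin p r c) (lin p r (-c)) (lin_neg h c) (fun x => by simpa using lin_neg h (-c) x) (lin_quad h c)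

theorem act_sg (h : Sg p r) (c : F) (x : Vec F n) : act (sg h c) x = x + c • D p r x :=
  act_mk _ _ _ _ _ x

theorem sg_add (h : Sg p r) (a b : F) : sg h a * sg h b = sg h (a + b) := by
  refine ext_act fun x => ?_
  have e : D p r (D p r x) = 0 := by
    rw [show D p r x = bil n F x r • p + (-bil n F x p) • r by simp [D, sub_eq_add_neg], D_add, D_smul, D_smul,
      D_left h, D_right h, smul_zero, smul_zero, add_zero]
  simp only [act_mul, act_sg, D_add, D_smul, e]; module

theorem sg_zero (h : Sg p r) : sg h 0 = 1 := ext_act fun x => by simp [act_sg, act_one]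

theorem sg_inv (h : Sg p r) (a : F) : (sg h a)⁻¹ = sg h (-a) :=
  inv_eq_of_mul_eq_one_right (by rw [sg_add, add_neg_cancel, sg_zero])

/-- The Siegel transvection group. -/
def T (p r : Vec F n) : Subgroup (O F n) :=
  Subgroup.closure {σ | ∃ c : F, ∀ x, act σ x = x + c • D p r x}

theorem mem_T (h : Sg p r) {g : O F n} : g ∈ T p r ↔ ∃ c, g = sg h c := by
  constructor
  · intro hg
    induction hg using Subgroup.closure_induction with
    | mem x hx =>
      obtain ⟨c, hc⟩ := hx
      exact ⟨c, ext_act fun y => by rw [hc, act_sg]⟩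
    | one => exact ⟨0, (sg_zero h).symm⟩
    | mul x y _ _ hx hy =>
      obtain ⟨a, rfl⟩ := hx
      obtain ⟨b, rfl⟩ := hy
      exact ⟨a + b, sg_add h a b⟩
    | inv x _ hx =>
      obtain ⟨a, rfl⟩ := hx
      exact ⟨-a, sg_inv h a⟩
  · rintro ⟨c, rfl⟩
    exact Subgroup.subset_closure ⟨c, act_sg h c⟩

/-- A singular line with its basis. -/
def IsLn (p r : Vec F n) : Prop := (∀ s t : F, s • p + t • r = 0 → s = 0 ∧ t = 0) ∧ Sg p r

theorem Sg.change (h : Sg p r) (a b e d : F) : Sg (a • p + b • r) (e • p + d • r) := by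
  refine ⟨?_, ?_, ?_⟩
  · rw [quad_add, quad_smul, quad_smul, h.1, h.2.1]
    simp [map_smul, LinearMap.smul_apply, h.pr]
  · rw [quad_add, quad_smul, quad_smul, h.1, h.2.1]
    simp [map_smul, LinearMap.smul_apply, h.pr]
  · simp [map_smul, LinearMap.smul_apply, map_add, LinearMap.add_apply, h.pr, h.rp, h.pp, h.rr]

theorem IsLn.change (h : IsLn p r) {a b e d : F} (hΔ : a * d - b * e ≠ 0) :
    IsLn (a • p + b • r) (e • p + d • r) ∧ T (a • p + b • r) (e • p + d • r) = T p r := by
  refine ⟨⟨fun s t hst => ?_, h.2.change a b e d⟩, ?_⟩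
  · have h0 := h.1 (s * a + t * e) (s * b + t * d) (by rw [← hst]; module)
    have hs : (a * d - b * e) * s = 0 := by linear_combination d * h0.1 - e * h0.2
    have ht : (a * d - b * e) * t = 0 := by linear_combination a * h0.2 - b * h0.1
    exact ⟨(mul_eq_zero.1 hs).resolve_left hΔ, (mul_eq_zero.1 ht).resolve_left hΔ⟩
  · refine congrArg Subgroup.closure (Set.ext fun σ => ⟨?_, ?_⟩)
    · rintro ⟨c, hc⟩
      exact ⟨c * (a * d - b * e), fun x => by rw [hc, D_change, smul_smul]⟩
    · rintro ⟨c, hc⟩
      refine ⟨c / (a * d - b * e), fun x => ?_⟩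
      rw [hc, D_change, smul_smul, div_mul_cancel₀ _ hΔ]

theorem T_swap (h : IsLn p r) : IsLn r p ∧ T r p = T p r := by
  simpa using h.change (a := (0 : F)) (b := 1) (e := 1) (d := 0) (by simp)

theorem exists_minor (h : IsLn p r) : ∃ a b, p a * r b - p b * r a ≠ 0 := by
  by_contra hc
  push Not at hc
  have hp : p ≠ 0 := fun e => one_ne_zero (h.1 1 0 (by simp [e])).1
  obtain ⟨a, ha⟩ := Function.ne_iff.1 hp
  refine ha ?_
  have := (h.1 (-(r a)) (p a) (by
    funext b
    simp only [Pi.add_apply, Pi.smul_apply, Pi.zero_apply, smul_eq_mul]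
    linear_combination hc a b)).2
  simpa using this

theorem bil_single (a : Fin n ⊕ Fin n) (x : Vec F n) : bil n F (Pi.single a 1) x = x a.swap := by
  rcases a with i | i <;> simp [bil_apply, Pi.single_apply]

/-- A minor which does not sit in two paired coordinates. -/
theorem exists_minor' (h : IsLn p r) : ∃ a b, p a * r b - p b * r a ≠ 0 ∧ b ≠ a.swap := by
  obtain ⟨a, b, hab⟩ := exists_minor h
  by_contra hc
  push Not at hc
  have hb : b = a.swap := hc a b hab
  subst hb
  have hsupp : ∀ c, c ≠ a → c ≠ a.swap → p c = 0 ∧ r c = 0 := by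
    intro c h1 h2
    have e1 : p a * r c - p c * r a = 0 := by
      by_contra e; exact h2 (hc a c e)
    have e2 : p a.swap * r c - p c * r a.swap = 0 := by
      by_contra e; exact h1 (by simpa using hc a.swap c e)
    exact ⟨(mul_eq_zero.1 (show (p a * r a.swap - p a.swap * r a) * p c = 0 by
        linear_combination p a.swap * e1 - p a * e2)).resolve_left hab,
      (mul_eq_zero.1 (show (p a * r a.swap - p a.swap * r a) * r c = 0 by
        linear_combination r a.swap * e1 - r a * e2)).resolve_left hab⟩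
  obtain ⟨h1, h2, h3⟩ := h.2
  rcases a with i | i
  all_goals
    simp only [Sum.swap_inl, Sum.swap_inr] at hab hsupp
    rw [quadFormPlus, Finset.sum_eq_single i (fun j _ hj => by
      simp [(hsupp (.inl j) (by simp [hj]) (by simp [hj])).1]) (by simp)] at h1
    rw [quadFormPlus, Finset.sum_eq_single i (fun j _ hj => by
      simp [(hsupp (.inl j) (by simp [hj]) (by simp [hj])).2]) (by simp)] at h2
    rw [bil_apply, Finset.sum_eq_single i (fun j _ hj => by
      simp [(hsupp (.inl j) (by simp [hj]) (by simp [hj])).1,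
        (hsupp (.inr j) (by simp [hj]) (by simp [hj])).1]) (by simp)] at h3
    apply hab
    have hsq : (p (.inl i) * r (.inr i) - p (.inr i) * r (.inl i)) ^ 2 = 0 := by
      linear_combination (p (.inl i) * r (.inr i) + p (.inr i) * r (.inl i)) * h3
        - (4 * r (.inl i) * r (.inr i)) * h1
    have := pow_eq_zero_iff (two_ne_zero) |>.1 hsq
    first
    | exact this
    | linear_combination -this

theorem exists_dual (h : IsLn p r) : ∃ p' r' : Vec F n, bil n F p' p = 1 ∧ bil n F p' r = 0 ∧
    bil n F r' p = 0 ∧ bil n F r' r = 1 := by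
  obtain ⟨a, b, hab⟩ := exists_minor h
  obtain ⟨Δ, hΔ⟩ : ∃ Δ, Δ = p a * r b - p b * r a := ⟨_, rfl⟩
  have hΔ0 : Δ ≠ 0 := hΔ ▸ hab
  refine ⟨(r b / Δ) • Pi.single a.swap 1 + (-r a / Δ) • Pi.single b.swap 1,
    (-p b / Δ) • Pi.single a.swap 1 + (p a / Δ) • Pi.single b.swap 1, ?_, ?_, ?_, ?_⟩
  all_goals simp only [map_add, map_smul, LinearMap.add_apply, LinearMap.smul_apply, bil_single, Sum.swap_swap,
    smul_eq_mul]
  all_goals rw [div_mul_eq_mul_div, div_mul_eq_mul_div, ← add_div, div_eq_iff hΔ0, hΔ]
  all_goals ring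

theorem sg_eq_one (h : IsLn p r) {c : F} : sg h.2 c = 1 ↔ c = 0 := by
  refine ⟨fun e => ?_, fun e => e ▸ sg_zero h.2⟩
  obtain ⟨p', r', -, -, h3, h4⟩ := exists_dual h
  have := congrArg (fun g => act g r') e
  simp only [act_sg, act_one, add_eq_left, D, h3, h4, one_smul, zero_smul, sub_zero] at this
  exact (h.1 c 0 (by simpa using this)).1

theorem T_ne_bot (h : IsLn p r) : T p r ≠ ⊥ := fun e => by
  have h1 : sg h.2 1 = 1 := Subgroup.mem_bot.1 (e ▸ (mem_T h.2).2 ⟨1, rfl⟩)
  exact one_ne_zero ((sg_eq_one h).1 h1)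

/-- An isometry fixing the orthogonal complement of a singular line pointwise is a Siegel transvection. -/
theorem eq_sg_of_fixes (h : IsLn p r) {σ : O F n}
    (hσ : ∀ v, bil n F v p = 0 → bil n F v r = 0 → act σ v = v) : ∃ c, σ = sg h.2 c := by
  obtain ⟨p', r', h1, h2, h3, h4⟩ := exists_dual h
  obtain ⟨dl, hdl⟩ : ∃ dl : Vec F n → Vec F n, ∀ x, dl x = act σ x - x := ⟨_, fun _ => rfl⟩
  have hsm : ∀ (c : F) x, dl (c • x) = c • dl x := fun c x => by rw [hdl, hdl, act_smul, smul_sub]
  have hadd : ∀ x y, dl (x + y) = dl x + dl y := fun x y => by rw [hdl, hdl, hdl, act_add]; abel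
  have hact : ∀ x, act σ x = x + dl x := fun x => by rw [hdl]; abel
  have dec : ∀ x, dl x = bil n F x p • dl p' + bil n F x r • dl r' := by
    intro x
    obtain ⟨w, hw⟩ : ∃ w, w = x - bil n F x p • p' - bil n F x r • r' := ⟨_, rfl⟩
    have hwp : bil n F w p = 0 := by simp [hw, h1, h3]
    have hwr : bil n F w r = 0 := by simp [hw, h2, h4]
    have h0 : dl w = 0 := by rw [hdl, hσ w hwp hwr, sub_self]
    have hx : x = w + bil n F x p • p' + bil n F x r • r' := by rw [hw]; abel
    conv_lhs => rw [hx]
    rw [hadd, hadd, hsm, hsm, h0, zero_add]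
  have hperp : ∀ x w, bil n F w p = 0 → bil n F w r = 0 → bil n F (dl x) w = 0 := by
    intro x w hwp hwr
    have := bil_act σ x w
    rw [hσ w hwp hwr, hact, map_add, LinearMap.add_apply] at this
    linear_combination this
  have inspan : ∀ x, dl x = bil n F (dl x) p' • p + bil n F (dl x) r' • r := by
    intro x
    by_contra hne
    obtain ⟨v, hv⟩ := exists_bil_one (sub_ne_zero.2 hne)
    apply hv
    have h0 := hperp x (v - bil n F v p • p' - bil n F v r • r') (by simp [h1, h3]) (by simp [h2, h4])
    simp only [map_sub, map_smul, smul_eq_mul] at h0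
    simp only [map_sub, map_add, map_smul, LinearMap.sub_apply, LinearMap.add_apply, LinearMap.smul_apply,
      smul_eq_mul, bil_comm p v, bil_comm r v]
    linear_combination h0
  obtain ⟨a, ha⟩ : ∃ a, a = bil n F (dl p') p' := ⟨_, rfl⟩
  obtain ⟨b, hb⟩ : ∃ b, b = bil n F (dl p') r' := ⟨_, rfl⟩
  obtain ⟨c, hc⟩ : ∃ c, c = bil n F (dl r') p' := ⟨_, rfl⟩
  obtain ⟨d, hd⟩ : ∃ d, d = bil n F (dl r') r' := ⟨_, rfl⟩
  have ep : dl p' = a • p + b • r := by rw [inspan p', ha, hb]
  have er : dl r' = c • p + d • r := by rw [inspan r', hc, hd]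
  have iso : ∀ x, bil n F x (dl x) = 0 := by
    intro x
    have h0 : quadFormPlus n F (dl x) = 0 := by
      rw [inspan x, quad_add, quad_smul, quad_smul, h.2.1, h.2.2.1]
      simp [h.2.pr]
    have := quad_act σ x
    rw [hact, quad_add, h0] at this
    linear_combination this
  have a0 : a = 0 := by
    have := iso p'
    rw [ep] at this
    simpa [h1, h2] using this
  have d0 : d = 0 := by
    have := iso r'
    rw [er] at this
    simpa [h3, h4] using this
  have bc : b + c = 0 := by
    have := iso (p' + r')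
    rw [hadd, ep, er] at this
    simp [h1, h2, h3, h4, a0, d0] at this
    linear_combination this
  refine ⟨c, ext_act fun x => ?_⟩
  rw [act_sg, hact, dec, ep, er, a0, d0, eq_neg_of_add_eq_zero_left bc, D]
  module

theorem Sg.map (g : O F n) (h : Sg p r) : Sg (act g p) (act g r) :=
  ⟨(quad_act g p).trans h.1, (quad_act g r).trans h.2.1, (bil_act g p r).trans h.2.2⟩

theorem conj_sg (g : O F n) (h : Sg p r) :
    ∃ h' : Sg (act g p) (act g r), ∀ c, g * sg h c * g⁻¹ = sg h' c := by
  refine ⟨h.map g, fun c => ext_act fun x => ?_⟩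
  rw [act_sg (h.map g)]
  simp only [act_mul, act_sg, act_add, act_smul, act_inv, D, act_sub]
  rw [← bil_act g (act g⁻¹ x) r, ← bil_act g (act g⁻¹ x) p, act_inv]

end Cfsg.Agent.RootSubgroups.SiegelPlus
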