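import Cfsg.Agent.Lib.RootSubgroups.SiegelPair
import Cfsg.Agent.Lib.RootSubgroups.Components

/-!
The Siegel transvection groups form a connected set of abstract root subgroups.
-/

set_option autoImplicit false

namespace Cfsg.Agent.RootSubgroups.SiegelPlus

open Cfsg Matrix
open Cfsg.Agent.OPlusTwo (Vec bil bil_apply bil_comm quad_add quad_smul exists_bil_one)

variable {F : Type*} [Field F] {m : ℕ}

theorem fam_conj {n : ℕ} {A : Subgroup (O F n)} (hA : A ∈ Fam F n) (g : O F n) : conjBy A g ∈ Fam F n := by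
  obtain ⟨p, r, h, rfl⟩ := hA
  obtain ⟨h', e⟩ := conj_sg g h.2
  refine ⟨act g p, act g r, ⟨fun s t hst => ?_, h'⟩, ?_⟩
  · refine h.1 s t ?_
    have := congrArg (act g⁻¹) hst
    simpa [act_add, act_smul, act_inv', show act g⁻¹ (0 : Vec F n) = 0 from mulVec_zero _] using this
  · ext x
    rw [mem_T h']
    constructor
    · rintro ⟨y, hy, rfl⟩
      obtain ⟨c, rfl⟩ := (mem_T h.2).1 hy
      exact ⟨c, e c⟩
    · rintro ⟨c, rfl⟩
      exact ⟨sg h.2 c, (mem_T h.2).2 ⟨c, rfl⟩, e c⟩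

/-- The family seen inside the subgroup it generates. -/
abbrev Fam' (F : Type*) [Field F] (n : ℕ) : Set (Subgroup ↥(⨆ B ∈ Fam F n, B)) :=
  (fun A : Subgroup (O F n) => A.subgroupOf (⨆ B ∈ Fam F n, B)) '' Fam F n

theorem fam_rootSet (F : Type*) [Field F] (n : ℕ) : IsRootSubgroupSet (Fam' F n) := by
  refine Restrict.isRootSubgroupSet ?_ ?_ (fun A hA g _ => fam_conj hA g) ?_
  · rintro A ⟨p, r, h, rfl⟩; exact T_commutative h.2
  · rintro A ⟨p, r, h, rfl⟩; exact T_ne_bot h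
  · rintro A ⟨p₁, r₁, h₁, rfl⟩ B ⟨p₂, r₂, h₂, rfl⟩
    rcases pair_cases h₁ h₂ with h | h | ⟨φ, hφ, hu, hv⟩
    · exact Or.inl h
    · exact Or.inr (Or.inr h)
    · refine Or.inr (Or.inl ?_)
      rw [← hu, ← hv]
      exact RootClass10.isRankOnePair_map φ hφ

theorem fam_kSet (F : Type*) [Field F] (n : ℕ) : IsKRootSubgroupSet F (Fam' F n) := by
  refine ⟨fam_rootSet F n, ?_⟩
  rintro _ ⟨A, hA, rfl⟩ _ ⟨B, hB, rfl⟩ hp
  have hAH := Restrict.le_iSup_mem hA
  have hBH := Restrict.le_iSup_mem hB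
  obtain ⟨p₁, r₁, h₁, rfl⟩ := id hA
  obtain ⟨p₂, r₂, h₂, rfl⟩ := id hB
  rcases pair_cases h₁ h₂ with h | h | ⟨φ, hφ, hu, hv⟩
  · exact absurd hp (comm_of_pair_bot (by rw [Restrict.commutator_eq hAH hBH, h, Subgroup.bot_subgroupOf]))
  · exact absurd hp (not_pair_of_cc' (fam_rootSet F n) ⟨_, hA, rfl⟩ (Restrict.cc hAH hBH h))
  · have hr : ∀ g, φ g ∈ ⨆ B ∈ Fam F n, B := by
      intro g
      have hg : g ∈ lowerUnipotentSL2 F ⊔ upperUnipotentSL2 F := by
        rw [SL2.top_eq_sup]; exact Subgroup.mem_top g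
      have := Subgroup.mem_map_of_mem φ hg
      rw [Subgroup.map_sup, hu, hv] at this
      exact sup_le hBH hAH this
    have e1 : (upperUnipotentSL2 F).map (φ.codRestrict _ hr) = (T p₁ r₁).subgroupOf _ := by
      apply Restrict.map_inj
      rw [Subgroup.map_map, Restrict.map_eq hAH]
      exact hu
    have e2 : (lowerUnipotentSL2 F).map (φ.codRestrict _ hr) = (T p₂ r₂).subgroupOf _ := by
      apply Restrict.map_inj
      rw [Subgroup.map_map, Restrict.map_eq hBH]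
      exact hv
    have := RootClass10.isPSL2PairOver_map (φ.codRestrict _ hr) (fun a b e => hφ (congrArg Subtype.val e))
    rwa [e1, e2] at this

/-- A coordinate line. -/
abbrev Cl (F : Type*) [Field F] {n : ℕ} (a b : Fin n ⊕ Fin n) : Subgroup (O F n) :=
  T (Pi.single a (1 : F)) (Pi.single b 1)

theorem cl_isLn {n : ℕ} {a b : Fin n ⊕ Fin n} (h : b ≠ a) (h' : b ≠ a.swap) :
    IsLn (Pi.single a (1 : F) : Vec F n) (Pi.single b 1) := by
  refine ⟨fun s t e => ⟨?_, ?_⟩, ?_, ?_, ?_⟩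
  · simpa [Pi.single_eq_of_ne (Ne.symm h)] using congrFun e a
  · simpa [Pi.single_eq_of_ne h] using congrFun e b
  · rcases a with i | i <;> simp [quadFormPlus, Pi.single_apply]
  · rcases b with i | i <;> simp [quadFormPlus, Pi.single_apply]
  · rw [bil_single, Pi.single_eq_of_ne (fun e => h' e.symm)]

theorem fam_connected (F : Type*) [Field F] (m : ℕ) :
    IsConnectedFamily (FAdj (Fam F (m + 3))) (Fam F (m + 3)) := by
  have hS := fam_rootSet F (m + 3)
  have sw : ∀ {a b : Fin (m + 3) ⊕ Fin (m + 3)}, b ≠ a → b ≠ a.swap →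
      b.swap ≠ a.swap ∧ b.swap ≠ a.swap.swap := fun {a b} h1 h2 =>
    ⟨fun e => h1 (by simpa using congrArg Sum.swap e), fun e => h2 (by simpa using congrArg Sum.swap e)⟩
  have pair_of_det : ∀ {p₁ r₁ p₂ r₂ : Vec F (m + 3)}, IsLn p₁ r₁ → IsLn p₂ r₂ →
      bil (m + 3) F p₁ p₂ * bil (m + 3) F r₁ r₂ - bil (m + 3) F p₁ r₂ * bil (m + 3) F r₁ p₂ ≠ 0 →
      IsRankOnePair (T p₁ r₁) (T p₂ r₂) := by
    intro p₁ r₁ p₂ r₂ h₁ h₂ hd
    obtain ⟨φ, hφ, hu, hv⟩ := sl2_of_det h₁ h₂ hd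
    rw [← hu, ← hv]
    exact RootClass10.isRankOnePair_map φ hφ
  have partner : ∀ {a b : Fin (m + 3) ⊕ Fin (m + 3)}, b ≠ a → b ≠ a.swap →
      IsRankOnePair (Cl F a b) (Cl F a.swap b.swap) := by
    intro a b h h'
    refine pair_of_det (cl_isLn h h') (cl_isLn (sw h h').1 (sw h h').2) ?_
    simp [bil_single, Pi.single_eq_of_ne h', Pi.single_eq_of_ne (sw h h').1,
      Pi.single_eq_of_ne (Ne.symm (sw h h').1), Pi.single_eq_of_ne (Ne.symm h')]
  have up : ∀ {A B : Subgroup (O F (m + 3))}, A ∈ Fam F (m + 3) → B ∈ Fam F (m + 3) →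
      Linked (Fam' F (m + 3)) (A.subgroupOf _) (B.subgroupOf _) → Linked (Fam F (m + 3)) A B := by
    intro A B hA hB h
    have := h.lift (fun X => X.map (⨆ B ∈ Fam F (m + 3), B).subtype) (p := FAdj (Fam F (m + 3))) (by
      rintro _ _ ⟨⟨X, hX, rfl⟩, ⟨Y, hY, rfl⟩, hp⟩
      refine ⟨?_, ?_, pair_map (Subgroup.subtype_injective _) hp⟩
      · dsimp only; rw [Restrict.map_eq (Restrict.le_iSup_mem hX)]; exact hX
      · dsimp only; rw [Restrict.map_eq (Restrict.le_iSup_mem hY)]; exact hY)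
    simp only [Function.onFun] at this
    rw [Restrict.map_eq (Restrict.le_iSup_mem hA), Restrict.map_eq (Restrict.le_iSup_mem hB)] at this
    exact this
  have mem : ∀ {a b : Fin (m + 3) ⊕ Fin (m + 3)}, b ≠ a → b ≠ a.swap → Cl F a b ∈ Fam F (m + 3) :=
    fun h h' => ⟨_, _, cl_isLn h h', rfl⟩
  have step : ∀ {a b c : Fin (m + 3) ⊕ Fin (m + 3)}, b ≠ a → b ≠ a.swap → c ≠ a → c ≠ a.swap →
      c ≠ b.swap → Linked (Fam F (m + 3)) (Cl F a b) (Cl F a c) := by
    intro a b c hb hb' hc hc' hcb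
    by_cases hbc : c = b
    · rw [hbc]; exact Linked.refl _
    have hl := cl_isLn (F := F) hb hb'
    have hm := cl_isLn (F := F) hc hc'
    have hbr : bil (m + 3) F (Pi.single b 1) (Pi.single c 1) = 0 := by
      rw [bil_single, Pi.single_eq_of_ne (Ne.symm hcb)]
    have hbr' : bil (m + 3) F (Pi.single c 1) (Pi.single b 1) = 0 := by rw [bil_comm]; exact hbr
    have hle := fun {X : Subgroup (O F (m + 3))} (hX : X ∈ Fam F (m + 3)) => Restrict.le_iSup_mem hX
    have hcom : ⁅Cl F a b, Cl F a c⁆ = ⊥ :=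
      commute_case hl.2 hm.2 hl.2.pp hm.2.pr hl.2.rp hbr
    refine up (mem hb hb') (mem hc hc') (linked_of_line hS ⟨_, mem hb hb', rfl⟩
      ⟨_, mem (sw hb hb').1 (sw hb hb').2, rfl⟩
      (Restrict.pair (hle (mem hb hb')) (hle (mem (sw hb hb').1 (sw hb hb').2)) (partner hb hb'))
      ⟨_, mem hc hc', rfl⟩ ⟨_, mem (sw hc hc').1 (sw hc hc').2, rfl⟩
      (Restrict.pair (hle (mem hc hc')) (hle (mem (sw hc hc').1 (sw hc hc').2)) (partner hc hc')) ?_ ?_)
    · rw [Restrict.commutator_eq (hle (mem hb hb')) (hle (mem hc hc')), hcom, Subgroup.bot_subgroupOf]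
    · intro x hx y hy hne
      obtain ⟨u, hu⟩ := (mem_T hl.2).1 (Subgroup.mem_subgroupOf.1 hx)
      obtain ⟨v, hv⟩ := (mem_T hm.2).1 (Subgroup.mem_subgroupOf.1 hy)
      obtain ⟨w, hw⟩ : ∃ w : Vec F (m + 3), w = u • Pi.single b 1 + v • Pi.single c 1 := ⟨_, rfl⟩
      have hsg : Sg (Pi.single a (1 : F)) w := by
        refine ⟨hl.2.1, ?_, ?_⟩
        · rw [hw, quad_add, quad_smul, quad_smul, hl.2.2.1, hm.2.2.1]
          simp [hbr]
        · rw [hw]; simp [hl.2.pr, hm.2.pr]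
      have hxy : ((x * y : ↥(⨆ B ∈ Fam F (m + 3), B)) : O F (m + 3)) = sg hsg 1 := by
        rw [Subgroup.coe_mul, hu, hv]
        refine ext_act fun z => ?_
        simp only [act_mul, act_sg, D_add, D_smul]
        simp only [D, hw, map_add, map_sub, map_smul, LinearMap.sub_apply, LinearMap.smul_apply, smul_eq_mul,
          hm.2.pr, hm.2.pp, hl.2.pr, hl.2.pp, hl.2.rp, hm.2.rp, hbr, hbr']
        module
      by_cases huv : u = 0 ∧ v = 0
      · refine absurd (Subtype.ext ?_) hne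
        rw [Subgroup.coe_mul, hu, hv, huv.1, huv.2, sg_zero, sg_zero, mul_one, Subgroup.coe_one]
      refine ⟨hne, _, ⟨T (Pi.single a 1) w, ⟨_, _, ⟨fun s t e => ?_, hsg⟩, rfl⟩, rfl⟩, ?_⟩
      · have ea := congrFun e a
        have eb := congrFun e b
        have ec := congrFun e c
        simp [hw, Pi.single_eq_of_ne (Ne.symm hb), Pi.single_eq_of_ne (Ne.symm hc)] at ea
        simp [hw, Pi.single_eq_of_ne hb, Pi.single_eq_of_ne (Ne.symm hbc)] at eb
        simp [hw, Pi.single_eq_of_ne hc, Pi.single_eq_of_ne hbc] at ec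
        refine ⟨ea, by_contra fun ht => huv ⟨?_, ?_⟩⟩
        · exact eb.resolve_left ht
        · exact ec.resolve_left ht
      · exact Subgroup.mem_subgroupOf.2 ((mem_T hsg).2 ⟨1, hxy⟩)
  have swp : ∀ {a b : Fin (m + 3) ⊕ Fin (m + 3)}, b ≠ a → b ≠ a.swap → Cl F b a = Cl F a b :=
    fun h h' => (T_swap (cl_isLn h h')).2
  have third : ∀ a b : Fin (m + 3) ⊕ Fin (m + 3), ∃ d, d ≠ a ∧ d ≠ a.swap ∧ d ≠ b ∧ d ≠ b.swap := by
    intro a b
    obtain ⟨i, hi⟩ : ∃ i : Fin (m + 3), i ≠ Sum.elim id id a ∧ i ≠ Sum.elim id id b :=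
      Fin.exists_ne_and_ne_of_two_lt _ _ (by omega)
    refine ⟨.inl i, ?_, ?_, ?_, ?_⟩
    all_goals rcases a with a | a <;> rcases b with b | b <;> simp at hi ⊢ <;> tauto
  have star : ∀ {a b c : Fin (m + 3) ⊕ Fin (m + 3)}, b ≠ a → b ≠ a.swap → c ≠ a → c ≠ a.swap →
      Linked (Fam F (m + 3)) (Cl F a b) (Cl F a c) := by
    intro a b c hb hb' hc hc'
    by_cases hcb : c = b.swap
    · obtain ⟨d, h1, h2, h3, h4⟩ := third a b
      refine (step hb hb' h1 h2 h4).trans (step h1 h2 hc hc' ?_)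
      rw [hcb]
      exact fun e => h3 (by simpa using (congrArg Sum.swap e).symm)
    · exact step hb hb' hc hc' hcb
  have coord : ∀ {a b c d : Fin (m + 3) ⊕ Fin (m + 3)}, b ≠ a → b ≠ a.swap → d ≠ c → d ≠ c.swap →
      Linked (Fam F (m + 3)) (Cl F a b) (Cl F c d) := by
    intro a b c d hb hb' hd hd'
    obtain ⟨x, h1, h2, h3, h4⟩ := third a c
    have hax : a ≠ x := Ne.symm h1
    have hax' : a ≠ x.swap := fun e => h2 (by simpa using (congrArg Sum.swap e).symm)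
    have hcx : c ≠ x := Ne.symm h3
    have hcx' : c ≠ x.swap := fun e => h4 (by simpa using (congrArg Sum.swap e).symm)
    refine (star hb hb' h1 h2).trans (Linked.trans ?_ (star h3 h4 hd hd'))
    rw [← swp h1 h2, ← swp h3 h4]
    exact star hax hax' hcx hcx'
  have toCoord : ∀ A ∈ Fam F (m + 3), ∃ a b, b ≠ a ∧ b ≠ a.swap ∧ Linked (Fam F (m + 3)) A (Cl F a b) := by
    rintro A ⟨p, r, h, rfl⟩
    obtain ⟨a, b, hab, hba⟩ := exists_minor' h
    have hne : b ≠ a := fun e => hab (by rw [e, sub_self])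
    refine ⟨a.swap, b.swap, (sw hne hba).1, (sw hne hba).2, Linked.of_adj ⟨p, r, h, rfl⟩
      (mem (sw hne hba).1 (sw hne hba).2) (pair_of_det h (cl_isLn (sw hne hba).1 (sw hne hba).2) ?_)⟩
    rw [bil_comm p, bil_comm r, bil_comm p, bil_comm r]
    simpa [bil_single] using hab
  intro A hA B hB
  obtain ⟨a, b, hb, hb', h1⟩ := toCoord A hA
  obtain ⟨c, d, hd, hd', h2⟩ := toCoord B hB
  exact h1.trans ((coord hb hb' hd hd').trans (h2.symm))

theorem fam_set (F : Type*) [Field F] (n : ℕ) :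
    {A : Subgroup (O F n) | ∃ p r : Fin n ⊕ Fin n → F, LinearIndependent F ![p, r] ∧
      quadFormPlus n F p = 0 ∧ quadFormPlus n F r = 0 ∧ quadFormPlus n F (p + r) = 0 ∧
      A = Subgroup.closure {σ : O F n | ∀ v : Fin n ⊕ Fin n → F,
        quadFormPlus n F (v + p) - quadFormPlus n F v - quadFormPlus n F p = 0 →
        quadFormPlus n F (v + r) - quadFormPlus n F v - quadFormPlus n F r = 0 →
          ((σ : GL (Fin n ⊕ Fin n) F) : Matrix (Fin n ⊕ Fin n) (Fin n ⊕ Fin n) F) *ᵥ v = v}} = Fam F n := by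
  have hpol : ∀ v p : Vec F n,
      quadFormPlus n F (v + p) - quadFormPlus n F v - quadFormPlus n F p = bil n F v p := fun v p => by
    rw [quad_add]; ring
  have hclo : ∀ {p r : Vec F n}, IsLn p r → Subgroup.closure {σ : O F n | ∀ v : Fin n ⊕ Fin n → F,
      quadFormPlus n F (v + p) - quadFormPlus n F v - quadFormPlus n F p = 0 →
      quadFormPlus n F (v + r) - quadFormPlus n F v - quadFormPlus n F r = 0 →
        ((σ : GL (Fin n ⊕ Fin n) F) : Matrix (Fin n ⊕ Fin n) (Fin n ⊕ Fin n) F) *ᵥ v = v} = T p r := by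
    intro p r h
    refine congrArg Subgroup.closure (Set.ext fun σ => ⟨fun hσ => ?_, fun ⟨c, hc⟩ v hp hr => ?_⟩)
    · obtain ⟨c, rfl⟩ := eq_sg_of_fixes h (σ := σ) fun v hp hr =>
        hσ v ((hpol v p).trans hp) ((hpol v r).trans hr)
      exact ⟨c, act_sg h.2 c⟩
    · rw [hpol] at hp hr
      refine (hc v).trans ?_
      simp [D, hp, hr]
  ext A
  constructor
  · rintro ⟨p, r, hli, hp, hr, hpr, rfl⟩
    have h : IsLn p r := ⟨LinearIndependent.pair_iff.1 hli, hp, hr, by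
      rwa [quad_add, hp, hr, zero_add, zero_add] at hpr⟩
    exact ⟨p, r, h, hclo h⟩
  · rintro ⟨p, r, h, rfl⟩
    exact ⟨p, r, LinearIndependent.pair_iff.2 h.1, h.2.1, h.2.2.1,
      by rw [quad_add, h.2.1, h.2.2.1, h.2.pr, zero_add, zero_add], (hclo h).symm⟩

end Cfsg.Agent.RootSubgroups.SiegelPlus
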