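import Cfsg.Agent.Lib.RootSubgroups.Lines

/-!
A rank one pair acting on a line is special.
-/

set_option autoImplicit false
set_option linter.unusedSectionVars false
open Cfsg

namespace Cfsg.Agent.RootSubgroups

variable {G : Type*} [Group G] {A A' C : Subgroup G} {S : Set (Subgroup G)}

theorem special_of_line (hS : IsRootSubgroupSet S) (hA : A ∈ S) (hA' : A' ∈ S)
    (hp : IsRankOnePair A A') (hC : C ∈ S) (hF : ⁅C, A'⁆ ∈ S) (hback : ⁅A, ⁅C, A'⁆⁆ = C) :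
    IsSpecialRankOnePair A A' := by
  refine ⟨hp, fun a ha ha1 b hb hb1 heq => ?_⟩
  obtain ⟨F, hFdef⟩ : ∃ F, F = ⁅C, A'⁆ := ⟨_, rfl⟩
  rw [← hFdef] at hF hback
  have hcc1 : RootCommutatorCase S C A' := cc_of_mem hS hC hA' (hFdef ▸ hF)
  have hcc2 : RootCommutatorCase S A F := cc_of_mem hS hA hF (hback.symm ▸ hC)
  have hCA : ∀ c ∈ C, ∀ x ∈ A, x * c = c * x := fun c hc x hx =>
    (cc_central hcc2 (hback.symm ▸ hc) (Subgroup.mem_sup_left hx)).symm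
  have hCF : ∀ c ∈ C, ∀ f ∈ F, c * f = f * c := fun c hc f hf =>
    cc_central hcc2 (hback.symm ▸ hc) (Subgroup.mem_sup_right hf)
  have hFA' : ∀ f ∈ F, ∀ x ∈ A', f * x = x * f := fun f hf x hx =>
    cc_central hcc1 (hFdef ▸ hf) (Subgroup.mem_sup_right hx)
  have R : ∀ c ∈ C, b⁻¹ * c * b * c⁻¹ ∈ F ∧
      a * (b⁻¹ * c * b * c⁻¹) * a⁻¹ = c⁻¹ * (b⁻¹ * c * b * c⁻¹) := by
    intro c hc
    obtain ⟨f, hfdef⟩ : ∃ f, f = b⁻¹ * c * b * c⁻¹ := ⟨_, rfl⟩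
    rw [← hfdef]
    have hf : f ∈ F := by
      have h1 := commutator_mem (inv_mem hb) hc
      rw [inv_inv, Subgroup.commutator_comm, ← hFdef] at h1
      exact hfdef ▸ h1
    refine ⟨hf, ?_⟩
    obtain ⟨k, hk⟩ : ∃ k, k = a * f * a⁻¹ * f⁻¹ := ⟨_, rfl⟩
    have hkC : k ∈ C := hk ▸ hback ▸ commutator_mem ha hf
    have himage : a * (b⁻¹ * c * b) * a⁻¹ = k * f * c := by
      have h1 : a * c * a⁻¹ = c := by rw [hCA c hc a ha, mul_inv_cancel_right]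
      calc a * (b⁻¹ * c * b) * a⁻¹ = (a * f * a⁻¹) * (a * c * a⁻¹) := by rw [hfdef]; group
        _ = _ := by rw [h1, hk]; group
    have hcom : ∀ x ∈ A', k * c * x = x * (k * c) := by
      intro x hx
      obtain ⟨u, hu, hueq⟩ : a⁻¹ * x * a ∈ conjBy A b⁻¹ :=
        heq.symm ▸ (by simpa using conj_mem_conjBy (g := a⁻¹) hx)
      have h1 : (k * f * c) * x = x * (k * f * c) := by
        have hux : x = a * b⁻¹ * u * b * a⁻¹ := by
          have h2 : b⁻¹ * u * b = a⁻¹ * x * a := by simpa [MulAut.conj_apply] using hueq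
          calc x = a * (a⁻¹ * x * a) * a⁻¹ := by group
            _ = _ := by rw [← h2]; group
        rw [← himage, hux]
        calc a * (b⁻¹ * c * b) * a⁻¹ * (a * b⁻¹ * u * b * a⁻¹)
            = a * b⁻¹ * (c * u) * b * a⁻¹ := by group
          _ = a * b⁻¹ * (u * c) * b * a⁻¹ := by rw [hCA c hc u hu]
          _ = _ := by group
      rw [← hCF k hkC f hf |>.symm, mul_assoc f k c, mul_assoc f, ← mul_assoc x f,
        ← hFA' f hf x hx, mul_assoc f x] at h1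
      exact mul_left_cancel h1
    have hkc : k * c = 1 := by
      by_contra hne
      obtain ⟨x, hx, hxne⟩ := cc_not_commute hS hcc1 (mul_mem hkC hc) hne
      exact hxne (by rw [hcom x hx]; group)
    calc a * f * a⁻¹ = k * f := by rw [hk]; group
      _ = _ := by rw [eq_inv_of_mul_eq_one_left hkc]
  obtain ⟨g, hgdef⟩ : ∃ g, g = (a⁻¹ * b⁻¹ * a)⁻¹ * (b⁻¹ * a * b) := ⟨_, rfl⟩
  have hg : g ∈ conjBy A b⁻¹ := by
    rw [hgdef]
    refine mul_mem (inv_mem ?_) (by simpa using conj_mem_conjBy (g := b⁻¹) ha)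
    rw [heq]
    simpa using conj_mem_conjBy (g := a⁻¹) (inv_mem hb)
  have hfix : ∀ c ∈ C, (b⁻¹ * a * b) * c * (b⁻¹ * a * b)⁻¹ =
        (a⁻¹ * b⁻¹ * a) * c * (a⁻¹ * b⁻¹ * a)⁻¹ ∧
      (b⁻¹ * a * b) * (b⁻¹ * c * b * c⁻¹) * (b⁻¹ * a * b)⁻¹ =
        (a⁻¹ * b⁻¹ * a) * (b⁻¹ * c * b * c⁻¹) * (a⁻¹ * b⁻¹ * a)⁻¹ := by
    intro c hc
    obtain ⟨hf, hR⟩ := R c hc
    obtain ⟨f, hfdef⟩ : ∃ f, f = b⁻¹ * c * b * c⁻¹ := ⟨_, rfl⟩
    rw [← hfdef] at hf hR ⊢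
    have e1 : a * c * a⁻¹ = c := by rw [hCA c hc a ha, mul_inv_cancel_right]
    have e2 : b * f * b⁻¹ = f := by rw [← hFA' f hf b hb, mul_inv_cancel_right]
    have e3 : b⁻¹ * c * b = f * c := by rw [hfdef]; group
    have e4 : b * c * b⁻¹ = f⁻¹ * c := by
      have h2 : c = (b * f * b⁻¹) * (b * c * b⁻¹) := by rw [hfdef]; group
      rw [e2] at h2
      rw [eq_inv_mul_iff_mul_eq]
      exact h2.symm
    have e5 : a⁻¹ * f * a = c * f := by
      calc a⁻¹ * f * a = a⁻¹ * (c * (a * f * a⁻¹)) * a := by rw [hR, mul_inv_cancel_left]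
        _ = (a⁻¹ * c * a) * f := by group
        _ = c * f := by rw [mul_assoc a⁻¹, ← hCA c hc a ha]; group
    have e6 : b⁻¹ * f * b = f := by rw [mul_assoc, hFA' f hf b hb, inv_mul_cancel_left]
    have e7 : a⁻¹ * c * a = c := by rw [mul_assoc, ← hCA c hc a ha, inv_mul_cancel_left]
    have hcf : c * f = f * c := hCF c hc f hf
    constructor
    · calc b⁻¹ * a * b * c * (b⁻¹ * a * b)⁻¹
          = b⁻¹ * a * (b * c * b⁻¹) * a⁻¹ * b := by group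
        _ = b⁻¹ * ((a * f * a⁻¹)⁻¹ * (a * c * a⁻¹)) * b := by rw [e4]; group
        _ = (b⁻¹ * f * b)⁻¹ * (b⁻¹ * c * b) * (b⁻¹ * c * b) := by rw [hR, e1]; group
        _ = c * (f * c) := by rw [e6, e3]; group
        _ = (a⁻¹ * f * a) * (a⁻¹ * c * a) := by rw [e5, e7]; group
        _ = a⁻¹ * (f * c) * a := by group
        _ = a⁻¹ * (b⁻¹ * c * b) * a := by rw [e3]
        _ = a⁻¹ * (b⁻¹ * (a * c * a⁻¹) * b) * a := by rw [e1]
        _ = _ := by group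
    · calc b⁻¹ * a * b * f * (b⁻¹ * a * b)⁻¹
          = b⁻¹ * a * (b * f * b⁻¹) * a⁻¹ * b := by group
        _ = b⁻¹ * (a * f * a⁻¹) * b := by rw [e2]; group
        _ = (b⁻¹ * c * b)⁻¹ * (b⁻¹ * f * b) := by rw [hR]; group
        _ = c⁻¹ := by rw [e6, e3]; group
        _ = a⁻¹ * c⁻¹ * a := by
          calc c⁻¹ = (a⁻¹ * c * a)⁻¹ := by rw [e7]
            _ = _ := by group
        _ = a⁻¹ * ((b⁻¹ * c * b)⁻¹ * (b⁻¹ * f * b)) * a := by rw [e6, e3]; group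
        _ = a⁻¹ * (b⁻¹ * (c⁻¹ * f) * b) * a := by group
        _ = a⁻¹ * (b⁻¹ * (a * f * a⁻¹) * b) * a := by rw [hR]
        _ = _ := by group
  have hgF : ∀ f ∈ F, g * f * g⁻¹ = f := by
    intro f hf
    obtain ⟨c, hc, hcf⟩ := cc_exists_comm' hcc1 (inv_mem hb) (inv_ne_one.2 hb1)
      (show f⁻¹ ∈ ⁅C, A'⁆ by rw [← hFdef]; exact inv_mem hf)
    have hfc : f = b⁻¹ * c * b * c⁻¹ := by rw [← inv_inv f, ← hcf]; group
    have h1 := (hfix c hc).2
    rw [← hfc] at h1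
    calc g * f * g⁻¹
        = (a⁻¹ * b⁻¹ * a)⁻¹ * ((b⁻¹ * a * b) * f * (b⁻¹ * a * b)⁻¹) * (a⁻¹ * b⁻¹ * a) := by
          rw [hgdef]; group
      _ = f := by rw [h1]; group
  obtain ⟨u, hu, hug⟩ := hg
  have hug' : g = b⁻¹ * u * b := by simpa [MulAut.conj_apply] using hug.symm
  have hu1 : u = 1 := by
    by_contra hne
    obtain ⟨f, hf, hfne⟩ := cc_not_commute hS hcc2 hu hne
    apply hfne
    have h1 := hgF f hf
    have e6 : b⁻¹ * f * b = f := by rw [mul_assoc, hFA' f hf b hb, inv_mul_cancel_left]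
    have e2 : b * f * b⁻¹ = f := by rw [← hFA' f hf b hb, mul_inv_cancel_right]
    rw [hug'] at h1
    have h2 : u * f * u⁻¹ = f := by
      calc u * f * u⁻¹ = b * ((b⁻¹ * u * b) * (b⁻¹ * f * b) * (b⁻¹ * u * b)⁻¹) * b⁻¹ := by group
        _ = f := by rw [e6, h1, e2]
    rw [h2]; group
  rw [hu1, mul_one, inv_mul_cancel, hgdef, inv_mul_eq_one] at hug'
  exact hug'.symm

end Cfsg.Agent.RootSubgroups
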