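import Cfsg.Agent.Lib.RootSubgroups.Class
import Cfsg.Agent.Lib.RootSubgroups.RankSpecial
import Cfsg.Agent.Lib.RootSubgroups.Braid

/-!
Abstract transvection groups: rank one pairs are special, except for the configuration of twins
(members with the same commuting partners), where elements have order at most three.
-/

set_option autoImplicit false
set_option linter.unusedSectionVars false
open Cfsg
open scoped commutatorElement

namespace Cfsg.Agent.RootSubgroups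

variable {G : Type*} [Group G] {A B C D P Q R : Subgroup G} {S : Set (Subgroup G)}

/-- Members with the same commuting partners. -/
def Twin (S : Set (Subgroup G)) (P Q : Subgroup G) : Prop :=
  commutingPartners S P = commutingPartners S Q

theorem special_of_inv (hp : IsRankOnePair A B)
    (h : ∀ a ∈ A, a ≠ 1 → ∀ b ∈ B, b ≠ 1 → conjBy A b⁻¹ = conjBy B a⁻¹ → conjBy A b = conjBy B a) :
    IsSpecialRankOnePair A B := by
  refine ⟨hp, fun a ha ha1 b hb hb1 he => ?_⟩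
  have he' := h a ha ha1 b hb hb1 he
  have hBa : conjBy B a = conjBy A b := he'.symm
  have e1 : conjBy B (b⁻¹ * a * b) = A := by
    rw [← conjBy_conjBy, conjBy_of_mem hb, ← conjBy_conjBy, hBa, conjBy_inv_cancel]
  have e2 : conjBy B (a⁻¹ * b⁻¹ * a) = A := by
    rw [← conjBy_conjBy, hBa, conjBy_conjBy, mul_assoc, inv_mul_cancel, mul_one,
      conjBy_of_mem (inv_mem ha)]
  obtain ⟨g, hg⟩ : ∃ g, g = (a⁻¹ * b⁻¹ * a)⁻¹ * (b⁻¹ * a * b) := ⟨_, rfl⟩
  have hfix : conjBy B g = B := by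
    rw [hg, ← conjBy_conjBy, e1]
    calc conjBy A (a⁻¹ * b⁻¹ * a)⁻¹
        = conjBy (conjBy B (a⁻¹ * b⁻¹ * a)) (a⁻¹ * b⁻¹ * a)⁻¹ := by rw [e2]
      _ = B := conjBy_inv_cancel _ _
  have hne : conjBy A b⁻¹ ≠ B := by
    intro e
    rw [conjBy_eq_iff, inv_inv, conjBy_of_mem hb] at e
    exact hp.ne e
  have hpair : IsRankOnePair (conjBy A b⁻¹) B := (pair_of_mem hp
    (conjBy_mem_unipotent (left_mem A B) (Subgroup.mem_sup_right (inv_mem hb)))
    (right_mem hp) hne).1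
  have hgD : g ∈ conjBy A b⁻¹ := by
    rw [hg]
    refine mul_mem (inv_mem ?_) (by simpa using conj_mem_conjBy (g := b⁻¹) ha)
    rw [he]
    simpa using conj_mem_conjBy (g := a⁻¹) (inv_mem hb)
  have h1 := eq_one_of_normalizes hpair hgD hfix
  rw [hg, inv_mul_eq_one] at h1
  exact h1.symm

theorem mem_partners_conj (hS : IsRootSubgroupSet S) (g : G) :
    conjBy Q g ∈ commutingPartners S (conjBy P g) ↔ Q ∈ commutingPartners S P := by
  have key : ∀ {P Q : Subgroup G} (g : G), Q ∈ commutingPartners S P →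
      conjBy Q g ∈ commutingPartners S (conjBy P g) := fun g h =>
    ⟨hS.conj_mem _ h.1 g, fun e => h.2.1 (conjBy_inj e),
      by rw [← conjBy_commutator, h.2.2, conjBy_bot]⟩
  exact ⟨fun h => by simpa only [conjBy_inv_cancel] using key g⁻¹ h, key g⟩

theorem Twin.conj (hS : IsRootSubgroupSet S) (h : Twin S P Q) (g : G) :
    Twin S (conjBy P g) (conjBy Q g) := by
  ext X
  obtain ⟨Y, rfl⟩ : ∃ Y, X = conjBy Y g := ⟨conjBy X g⁻¹, (conjBy_cancel_inv X g).symm⟩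
  rw [mem_partners_conj hS, mem_partners_conj hS, h]

section
variable (hS : IsRootSubgroupSet S) (hdeg : IsDegenerateRootSet S)
include hS hdeg

theorem pair_or_commute (hP : P ∈ S) (hQ : Q ∈ S) : ⁅P, Q⁆ = ⊥ ∨ IsRankOnePair P Q := by
  rcases hS.pair P hP Q hQ with h | h | h
  · exact Or.inl h
  · exact Or.inr h
  · exact absurd h (hdeg P hP Q hQ)

theorem twin_not_commute (hP : P ∈ S) (hQ : Q ∈ S) (h : Twin S P Q) (hc : ⁅P, Q⁆ = ⊥) : P = Q := by
  by_contra hne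
  have h1 : Q ∈ commutingPartners S P := ⟨hQ, Ne.symm hne, hc⟩
  rw [h] at h1
  exact h1.2.1 rfl

theorem twin_pair (hP : P ∈ S) (hQ : Q ∈ S) (hR : R ∈ S) (h : Twin S P Q) (hp : IsRankOnePair P R)
    (hne : R ≠ Q) : IsRankOnePair Q R := by
  rcases pair_or_commute hS hdeg hQ hR with h1 | h1
  · have h2 : R ∈ commutingPartners S Q := ⟨hR, hne, h1⟩
    rw [← h] at h2
    exact absurd hp (comm_of_pair_bot h2.2.2)
  · exact h1

/-- Only one conjugate of `D` under `A` commutes with a given conjugate under `C`. -/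
theorem commute_unique (hA : A ∈ S) (hD : D ∈ S) (hpA : IsRankOnePair A D)
    (hpC : IsRankOnePair C D) {α β γ : G} (hα : α ∈ A) (hβ : β ∈ A) (hγ : γ ∈ C) (hγ1 : γ ≠ 1)
    (h1 : ⁅conjBy D γ, conjBy D α⁆ = ⊥) (h2 : ⁅conjBy D γ, conjBy D β⁆ = ⊥) : α = β := by
  by_contra hne
  have hne' : conjBy D α ≠ conjBy D β := by
    intro e
    have h3 : conjBy D (β⁻¹ * α) = D := by rw [← conjBy_conjBy, e, conjBy_inv_cancel]
    exact hne (inv_mul_eq_one.1 (eq_one_of_normalizes hpA (mul_mem (inv_mem hβ) hα) h3)).symm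
  obtain ⟨-, hsup⟩ := pair_of_mem hpA
    (conjBy_mem_unipotent (right_mem hpA) (Subgroup.mem_sup_left hα))
    (conjBy_mem_unipotent (right_mem hpA) (Subgroup.mem_sup_left hβ)) hne'
  have hcen : A ⊔ D ≤ Subgroup.centralizer ((conjBy D γ : Subgroup G) : Set G) := by
    rw [← hsup]
    exact sup_le (Subgroup.commutator_eq_bot_iff_le_centralizer.1 (bot_symm h1))
      (Subgroup.commutator_eq_bot_iff_le_centralizer.1 (bot_symm h2))
  have h3 : ⁅D, conjBy D γ⁆ = ⊥ :=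
    Subgroup.commutator_eq_bot_iff_le_centralizer.2 (le_sup_right.trans hcen)
  obtain ⟨d, hd, hd1⟩ := exists_ne_one (pair_symm hpA)
  have h4 := eq_of_fixed (pair_symm hpC)
    (conjBy_mem_unipotent (left_mem D C) (Subgroup.mem_sup_right hγ)) hd hd1
    (conjBy_of_commute fun x hx => commute_of_commutator_eq_bot h3 hd hx)
    (hS.commutative _ hD)
  exact hγ1 (eq_one_of_normalizes hpC hγ h4)

/-- Two commuting members with a common partner `D`. -/
theorem cross_data (hA : A ∈ S) (hC : C ∈ S) (hD : D ∈ S) (hAC : ⁅A, C⁆ = ⊥) (hne : A ≠ C)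
    (hpA : IsRankOnePair A D) (hpC : IsRankOnePair C D) {d a : G} (hd : d ∈ D) (hd1 : d ≠ 1)
    (ha : a ∈ A) (ha1 : a ≠ 1) (he : conjBy A d = conjBy D a) :
    conjBy A d⁻¹ = conjBy D a⁻¹ ∧ ∃ c ∈ C, c ≠ 1 ∧ conjBy C d = conjBy D c ∧
      ⁅conjBy D c, conjBy D a⁆ = ⊥ ∧
      ∃ E ∈ S, E ≠ D ∧ ⁅D, E⁆ = ⊥ ∧ IsRankOnePair A E ∧ ∃ η ∈ E, conjBy C η = conjBy D a⁻¹ := by
  obtain ⟨c, hc, hc1, hce⟩ := conj_left_by_right hpC hd hd1
  have hcom : ⁅conjBy D c, conjBy D a⁆ = ⊥ := by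
    rw [← he, ← hce, ← conjBy_commutator, bot_symm hAC, conjBy_bot]
  have hac : a * c = c * a := commute_of_commutator_eq_bot hAC ha hc
  obtain ⟨x, hx⟩ : ∃ x, x = a⁻¹ * c := ⟨_, rfl⟩
  have hxA : conjBy A x = A := by
    rw [hx, ← conjBy_conjBy,
      conjBy_of_commute fun u hu => (commute_of_commutator_eq_bot hAC hu hc).symm,
      conjBy_of_mem (inv_mem ha)]
  have hxC : conjBy C x = C := by
    rw [hx, ← conjBy_conjBy, conjBy_of_mem hc,
      conjBy_of_commute fun u hu => commute_of_commutator_eq_bot hAC (inv_mem ha) hu]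
  have hES : conjBy D x ∈ S := hS.conj_mem D hD x
  have hDE : ⁅D, conjBy D x⁆ = ⊥ := by
    have h1 := congrArg (fun X => conjBy X a⁻¹) hcom
    simp only [conjBy_commutator, conjBy_bot, conjBy_inv_cancel] at h1
    rw [hx, ← conjBy_conjBy]
    exact bot_symm h1
  have hEne : conjBy D x ≠ D := by
    intro e
    have h1 : conjBy D c = conjBy D a := by
      calc conjBy D c = conjBy (conjBy D x) a := by
            rw [hx, conjBy_conjBy, mul_inv_cancel_left]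
        _ = _ := by rw [e]
    rw [← hce, ← he] at h1
    exact hne (conjBy_inj h1).symm
  have hpAE : IsRankOnePair A (conjBy D x) := by
    have h1 := pair_conj hpA x; rwa [hxA] at h1
  obtain ⟨e, hedef⟩ : ∃ e, e = x * d * x⁻¹ := ⟨_, rfl⟩
  have heE : e ∈ conjBy D x := hedef ▸ conj_mem_conjBy hd
  have hxa : x * a = a * x := by
    rw [hx, mul_assoc, ← hac, inv_mul_cancel_left, mul_inv_cancel_left]
  -- `A·e = C·d`
  have hAe : conjBy A e = conjBy C d := by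
    have h1 := congrArg (fun X => conjBy X x) he
    simp only [conjBy_conjBy] at h1
    have h2 : conjBy A e = conjBy D (x * a) := by
      rw [← h1, hedef, show x * d * x⁻¹ = (x * d) * x⁻¹ from rfl, ← conjBy_conjBy,
        (conjBy_eq_iff.1 hxA).symm]
    rw [h2, hce, hxa, hx, mul_inv_cancel_left]
  obtain ⟨d₂, hd₂, hd₂1, hd₂e⟩ :=
    conj_left_by_right (pair_symm hpA) (inv_mem ha) (inv_ne_one.2 ha1)
  obtain ⟨d₃, hd₃, hd₃1, hd₃e⟩ :=
    conj_left_by_right (pair_symm hpC) (inv_mem hc) (inv_ne_one.2 hc1)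
  have hd23 : d₂ = d₃ := by
    obtain ⟨a₃, ha₃, -, ha₃e⟩ := conj_left_by_right hpA hd₃ hd₃1
    have h1 : ⁅conjBy D c⁻¹, conjBy D a₃⁆ = ⊥ := by
      rw [hd₃e, ← ha₃e, ← conjBy_commutator, bot_symm hAC, conjBy_bot]
    have h2 : ⁅conjBy D c⁻¹, conjBy D a⁻¹⁆ = ⊥ := by
      have h := congrArg (fun X => conjBy X (c⁻¹ * a⁻¹)) hcom
      simp only [conjBy_commutator, conjBy_bot, conjBy_conjBy] at h
      rw [show c⁻¹ * a⁻¹ * a = c⁻¹ by group, show c⁻¹ * a⁻¹ * c = a⁻¹ by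
        calc c⁻¹ * a⁻¹ * c = c⁻¹ * a⁻¹ * (c * a) * a⁻¹ := by group
          _ = _ := by rw [← hac]; group] at h
      exact bot_symm h
    have h3 := commute_unique hS hdeg hA hD hpA hpC ha₃ (inv_mem ha) (inv_mem hc)
      (inv_ne_one.2 hc1) h1 h2
    rw [h3] at ha₃e
    have h4 : conjBy A d₂ = conjBy A d₃ := hd₂e.symm.trans ha₃e.symm
    exact inv_injective (partner_unique (pair_symm (pair_symm hpA)) (inv_mem hd₂) (inv_mem hd₃)
      (by simpa using h4))
  obtain ⟨η, hηdef⟩ : ∃ η, η = x * d₂ * x⁻¹ := ⟨_, rfl⟩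
  have hηE : η ∈ conjBy D x := hηdef ▸ conj_mem_conjBy hd₂
  have hCη : conjBy C η = conjBy A d₂ := by
    have h1 := congrArg (fun X => conjBy X x) hd₃e
    simp only [conjBy_conjBy] at h1
    have h2 : conjBy C η = conjBy D (x * c⁻¹) := by
      rw [h1, ← hd23, hηdef, show x * d₂ * x⁻¹ = (x * d₂) * x⁻¹ from rfl, ← conjBy_conjBy,
        (conjBy_eq_iff.1 hxC).symm]
    rw [h2, ← hd₂e, hx, mul_inv_cancel_right]
  have hd2inv : d₂ = d⁻¹ := by
    by_contra hne2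
    obtain ⟨β₀, hβ₀⟩ : ∃ β, β = d₂⁻¹ * d⁻¹ := ⟨_, rfl⟩
    have hβ₀1 : β₀ ≠ 1 := fun e => hne2 (by
      rw [hβ₀, ← mul_inv_rev, inv_eq_one] at e
      exact eq_inv_of_mul_eq_one_right e)
    have hcomm : ∀ u ∈ D, ∀ v ∈ conjBy D x, u * v = v * u :=
      fun u hu v hv => commute_of_commutator_eq_bot hDE hu hv
    have hz : conjBy A (β₀ * (η * e)) = A := by
      have e1 : β₀ * (η * e) = d₂⁻¹ * η * (d⁻¹ * e) := by
        rw [hβ₀, mul_assoc d₂⁻¹, mul_assoc d₂⁻¹, ← mul_assoc d⁻¹, hcomm _ (inv_mem hd) _ hηE,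
          mul_assoc η]
      have e2 : conjBy A (d⁻¹ * e) = C := by rw [← conjBy_conjBy, hAe, conjBy_inv_cancel]
      have e3 : conjBy C (d₂⁻¹ * η) = A := by rw [← conjBy_conjBy, hCη, conjBy_inv_cancel]
      rw [e1, ← conjBy_conjBy, e2, e3]
    rw [← conjBy_conjBy, conjBy_eq_iff] at hz
    have hβD : β₀ ∈ D := hβ₀ ▸ mul_mem (inv_mem hd₂) (inv_mem hd)
    have hM1 : conjBy A β₀⁻¹ ∈ unipotentSubgroups A D :=
      conjBy_mem_unipotent (left_mem A D) (Subgroup.mem_sup_right (inv_mem hβD))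
    have hMne : conjBy A β₀⁻¹ ≠ A := fun e =>
      inv_ne_one.2 hβ₀1 (eq_one_of_normalizes (pair_symm hpA) (inv_mem hβD) e)
    have hM2 : conjBy A β₀⁻¹ ∈ unipotentSubgroups A (conjBy D x) :=
      hz ▸ conjBy_mem_unipotent (left_mem A _) (Subgroup.mem_sup_right (mul_mem hηE heE))
    obtain ⟨-, hs1⟩ := pair_of_mem hpA (left_mem A D) hM1 (Ne.symm hMne)
    obtain ⟨-, hs2⟩ := pair_of_mem hpAE (left_mem A _) hM2 (Ne.symm hMne)
    have hEmem : conjBy D x ∈ unipotentSubgroups A D := by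
      obtain ⟨g, hg, hge⟩ := right_mem hpAE
      exact ⟨g, hs1 ▸ hs2.symm ▸ hg, hge⟩
    exact hEne (eq_of_fixed (pair_symm hpA) (unipotent_symm hpA ▸ hEmem) hd hd1
      (conjBy_of_commute fun u hu => hcomm d hd u hu) (hS.commutative _ hD))
  exact ⟨hd2inv ▸ hd₂e.symm, c, hc, hc1, hce, hcom, _, hES, hEne, hDE, hpAE, η, hηE,
    hCη.trans hd₂e.symm⟩

theorem special_of_common (hA : A ∈ S) (hC : C ∈ S) (hD : D ∈ S) (hAC : ⁅A, C⁆ = ⊥) (hne : A ≠ C)
    (hpA : IsRankOnePair A D) (hpC : IsRankOnePair C D) : IsSpecialRankOnePair A D := by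
  refine special_of_inv hpA fun a ha ha1 b hb hb1 he => ?_
  simpa using (cross_data hS hdeg hA hC hD hAC hne hpA hpC (inv_mem hb) (inv_ne_one.2 hb1)
    (inv_mem ha) (inv_ne_one.2 ha1) he).1

/-! ### Twins -/

/-- The elements centralizing the partners of `P` and fixing the twin classes of `P` and `Q`. -/
def stab (P Q : Subgroup G) : Subgroup G where
  carrier := {g | (∀ W ∈ commutingPartners S P, ∀ w ∈ W, g * w = w * g) ∧
    Twin S (conjBy P g) P ∧ Twin S (conjBy Q g) Q}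
  one_mem' := ⟨fun _ _ w _ => by simp, by simp [Twin, conjBy_one], by simp [Twin, conjBy_one]⟩
  mul_mem' := by
    rintro g g' ⟨h1, h2, h3⟩ ⟨h1', h2', h3'⟩
    refine ⟨fun W hW w hw => ?_, ?_, ?_⟩
    · rw [mul_assoc, h1' W hW w hw, ← mul_assoc, h1 W hW w hw, mul_assoc]
    · rw [← conjBy_conjBy]; exact (h2'.conj hS g).trans h2
    · rw [← conjBy_conjBy]; exact (h3'.conj hS g).trans h3
  inv_mem' := by
    rintro g ⟨h1, h2, h3⟩
    refine ⟨fun W hW w hw => ?_, ?_, ?_⟩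
    · exact (Commute.inv_left (h1 W hW w hw : Commute g w)).eq
    · have := h2.conj hS g⁻¹; rw [conjBy_inv_cancel] at this; exact this.symm
    · have := h3.conj hS g⁻¹; rw [conjBy_inv_cancel] at this; exact this.symm

theorem stab_conj (P Q : Subgroup G) (x : G) {g : G} (hg : g ∈ stab hS P Q) :
    x * g * x⁻¹ ∈ stab hS (conjBy P x) (conjBy Q x) := by
  obtain ⟨h1, h2, h3⟩ := hg
  have e : ∀ R : Subgroup G, conjBy (conjBy R x) (x * g * x⁻¹) = conjBy (conjBy R g) x := by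
    intro R; rw [conjBy_conjBy, conjBy_conjBy, inv_mul_cancel_right]
  refine ⟨fun W hW w hw => ?_, by rw [e]; exact h2.conj hS x, by rw [e]; exact h3.conj hS x⟩
  have hW' := (mem_partners_conj hS x⁻¹).2 hW
  rw [conjBy_inv_cancel] at hW'
  have h4 : g * (x⁻¹ * w * x) = (x⁻¹ * w * x) * g := h1 _ hW' _ (by simpa using conj_mem_conjBy (g := x⁻¹) hw)
  calc x * g * x⁻¹ * w = x * (g * (x⁻¹ * w * x)) * x⁻¹ := by group
    _ = _ := by rw [h4]; group

theorem stab_congr_left (h : Twin S P R) : stab hS P Q = stab hS R Q := by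
  ext g
  constructor <;> rintro ⟨h1, h2, h3⟩
  · exact ⟨h.symm ▸ h1, ((h.conj hS g).symm.trans h2).trans h, h3⟩
  · exact ⟨h ▸ h1, ((h.conj hS g).trans h2).trans h.symm, h3⟩

theorem stab_congr_right (h : Twin S Q R) : stab hS P Q = stab hS P R := by
  ext g
  constructor <;> rintro ⟨h1, h2, h3⟩
  · exact ⟨h1, h2, ((h.conj hS g).symm.trans h3).trans h⟩
  · exact ⟨h1, h2, ((h.conj hS g).trans h3).trans h.symm⟩

theorem partner_eq_of_distinct (hA : A ∈ S) (hD : D ∈ S) (hpA : IsRankOnePair A D)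
    (hpC : IsRankOnePair C D) {α γ : G} (hα : α ∈ A) (hγ : γ ∈ C) (hAC : ⁅A, C⁆ = ⊥) (hne : A ≠ C)
    (he : conjBy D α = conjBy D γ) : α = 1 := by
  by_contra hα1
  have hmem : conjBy D α ∈ unipotentSubgroups A D :=
    conjBy_mem_unipotent (right_mem hpA) (Subgroup.mem_sup_left hα)
  have hmem' : conjBy D α ∈ unipotentSubgroups C D :=
    he ▸ conjBy_mem_unipotent (right_mem hpC) (Subgroup.mem_sup_left hγ)
  have hne' : D ≠ conjBy D α := fun e => hα1 (eq_one_of_normalizes hpA hα e.symm)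
  obtain ⟨-, hs1⟩ := pair_of_mem hpA (right_mem hpA) hmem hne'
  obtain ⟨-, hs2⟩ := pair_of_mem hpC (right_mem hpC) hmem' hne'
  have hCmem : C ∈ unipotentSubgroups A D := by
    rw [← unipotent_symm hpA]
    obtain ⟨g, hg, hge⟩ := exists_conj_right (pair_symm hpC)
    refine ⟨g, ?_, hge.symm⟩
    rw [sup_comm D A, ← hs1, hs2, sup_comm C D]
    exact hg
  obtain ⟨a, ha, ha1⟩ := exists_ne_one hpA
  exact hne (eq_of_fixed hpA hCmem ha ha1
    (conjBy_of_commute fun u hu => commute_of_commutator_eq_bot hAC ha hu)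
    (hS.commutative _ hA)).symm

theorem stab_conj_le (hA : A ∈ S) (hD : D ∈ S) (hC : C ∈ commutingPartners S A)
    (hpA : IsRankOnePair A D) (hpC : IsRankOnePair C D) {α : G} (hα : α ∈ A) :
    stab hS A D ≤ stab hS A (conjBy D α) := by
  rintro g ⟨h1, h2, h3⟩
  refine ⟨h1, h2, ?_⟩
  by_cases hα1 : α = 1
  · rw [hα1, conjBy_one]; exact h3
  obtain ⟨d, hd, hd1, hde⟩ := conj_left_by_right (pair_symm hpA) hα hα1
  obtain ⟨-, c, hc, hc1, -, hcom, -⟩ :=
    cross_data hS hdeg hA hC.1 hD hC.2.2 (Ne.symm hC.2.1) hpA hpC hd hd1 hα hα1 hde.symm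
  obtain ⟨α₂, hα₂⟩ : ∃ u, u = g * α * g⁻¹ := ⟨_, rfl⟩
  have hα₂1 : α₂ ≠ 1 := fun e => hα1 (by rw [hα₂] at e; exact conj_eq_one_iff.1 e)
  have hα₂A : α₂ ∈ conjBy A g := hα₂ ▸ conj_mem_conjBy hα
  have hA₂ : conjBy A g ∈ S := hS.conj_mem A hA g
  have hA₂D : IsRankOnePair (conjBy A g) D := by
    refine twin_pair hS hdeg hA hA₂ hD h2.symm hpA fun e => ?_
    have hAD : Twin S A D := e ▸ h2.symm
    have h' : C ∈ commutingPartners S D := hAD ▸ hC
    exact comm_of_pair_bot (bot_symm h'.2.2) hpC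
  obtain ⟨d', hd', hd'1, hd'e⟩ := conj_left_by_right (pair_symm hA₂D) hα₂A hα₂1
  obtain ⟨β, hβ, -, hβe⟩ := conj_left_by_right hpA hd' hd'1
  have hQ : Twin S (conjBy (conjBy D α) g) (conjBy D β) := by
    have e1 : conjBy (conjBy D α) g = conjBy (conjBy D g) α₂ := by
      rw [hα₂, conjBy_conjBy, conjBy_conjBy]; congr 1; group
    have e2 : Twin S (conjBy D α₂) (conjBy D β) := by
      rw [hd'e, ← hβe]; exact h2.conj hS d'
    rw [e1]
    exact (h3.conj hS α₂).trans e2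
  have hαβ : α = β := by
    refine commute_unique hS hdeg hA hD hpA hpC hα hβ hc hc1 hcom ?_
    have hgc : conjBy (conjBy D c) g = conjBy (conjBy D g) c := by
      rw [conjBy_conjBy, conjBy_conjBy, h1 C hC c hc]
    have hT : Twin S (conjBy (conjBy D c) g) (conjBy D c) := hgc ▸ h3.conj hS c
    by_cases heq : conjBy D β = conjBy D c
    · rw [heq]
      exact commutator_eq_bot_of_commute fun u hu v hv => comm hS (hS.conj_mem D hD c) hu hv
    have hmem : conjBy (conjBy D α) g ∈ commutingPartners S (conjBy (conjBy D c) g) := by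
      rw [mem_partners_conj hS]
      exact ⟨hS.conj_mem D hD α, fun e => hα1
        (partner_eq_of_distinct hS hdeg hA hD hpA hpC hα hc hC.2.2 (Ne.symm hC.2.1) e), hcom⟩
    rw [hT] at hmem
    have h6 : conjBy D c ∈ commutingPartners S (conjBy (conjBy D α) g) :=
      ⟨hS.conj_mem D hD c, Ne.symm hmem.2.1, bot_symm hmem.2.2⟩
    rw [hQ] at h6
    exact bot_symm h6.2.2
  rw [← hαβ] at hQ
  exact hQ

theorem inter_stab (hA : A ∈ S) (hD : D ∈ S) (hC : C ∈ commutingPartners S A)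
    (hpA : IsRankOnePair A D) (hpC : IsRankOnePair C D) {α : G} (hα : α ∈ A)
    (hαs : α ∈ stab hS A D) : α = 1 := by
  by_contra hα1
  obtain ⟨d, hd, hd1, hde⟩ := conj_left_by_right (pair_symm hpA) hα hα1
  obtain ⟨-, c, hc, hc1, -, hcom, -⟩ :=
    cross_data hS hdeg hA hC.1 hD hC.2.2 (Ne.symm hC.2.1) hpA hpC hd hd1 hα hα1 hde.symm
  have hne : conjBy D c ≠ conjBy D α := fun e =>
    hα1 (partner_eq_of_distinct hS hdeg hA hD hpA hpC hα hc hC.2.2 (Ne.symm hC.2.1) e.symm)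
  have h1 : conjBy D c ∈ commutingPartners S (conjBy D α) :=
    ⟨hS.conj_mem D hD c, hne, bot_symm hcom⟩
  rw [hαs.2.2] at h1
  exact hα1 (commute_unique hS hdeg hA hD hpA hpC hα (one_mem A) hc hc1 hcom
    (by rw [conjBy_one]; exact bot_symm h1.2.2))

theorem stab_normal (hA : A ∈ S) (hD : D ∈ S) (hC : C ∈ commutingPartners S A)
    (hpA : IsRankOnePair A D) (hpC : IsRankOnePair C D) :
    A ≤ Subgroup.normalizer (stab hS A D : Set G) := by
  have key : ∀ a ∈ A, ∀ g ∈ stab hS A D, a * g * a⁻¹ ∈ stab hS A D := by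
    intro a ha g hg
    have h1 := stab_conj hS hdeg A D a hg
    rw [conjBy_of_mem ha] at h1
    have hp' : IsRankOnePair A (conjBy D a) := by
      have := pair_conj hpA a; rwa [conjBy_of_mem ha] at this
    have hpC' : IsRankOnePair C (conjBy D a) := by
      have := pair_conj hpC a
      rwa [conjBy_of_commute fun u hu => commute_of_commutator_eq_bot hC.2.2 ha hu] at this
    have h2 := stab_conj_le hS hdeg hA (hS.conj_mem D hD a) hC hp' hpC' (inv_mem ha) h1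
    rwa [conjBy_inv_cancel] at h2
  intro a ha
  rw [Subgroup.mem_normalizer_iff]
  exact fun g => ⟨key a ha g, fun h => by simpa [mul_assoc] using key a⁻¹ (inv_mem ha) _ h⟩

theorem twin_prod_mem (hA : A ∈ S) (hB : B ∈ S) (hD : D ∈ S) (htw : Twin S A B)
    {a b : G} (ha : a ∈ A) (hb : b ∈ B) (he : Twin S (conjBy D a) (conjBy D b)) :
    b⁻¹ * a ∈ stab hS A D := by
  refine ⟨fun W hW w hw => ?_, ?_, ?_⟩
  · have h1 : Commute a w := commute_of_commutator_eq_bot hW.2.2 ha hw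
    have hW' : W ∈ commutingPartners S B := htw ▸ hW
    have h2 : Commute b⁻¹ w := commute_of_commutator_eq_bot hW'.2.2 (inv_mem hb) hw
    exact (h2.mul_left h1).eq
  · rw [← conjBy_conjBy, conjBy_of_mem ha]
    have h := htw.conj hS b⁻¹
    rw [conjBy_of_mem (inv_mem hb)] at h
    exact h.trans htw.symm
  · rw [← conjBy_conjBy]
    have := he.conj hS b⁻¹
    rwa [conjBy_inv_cancel] at this

/-- An element fixing the twin classes of `P` and `Q` normalises `stab P Q`. -/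
theorem stab_conj_mem {g x : G} (h2 : Twin S (conjBy P g) P) (h3 : Twin S (conjBy Q g) Q)
    (hx : x ∈ stab hS P Q) : g * x * g⁻¹ ∈ stab hS P Q := by
  have h := stab_conj hS hdeg P Q g hx
  rwa [stab_congr_left hS hdeg h2, stab_congr_right hS hdeg h3] at h

theorem comm_mem_stab (hA : A ∈ S) (hD : D ∈ S) {E : Subgroup G} (hE : E ∈ commutingPartners S D)
    (hpA : IsRankOnePair A D) (hpE : IsRankOnePair E A) {a t : G} (ha : a ∈ A)
    (ht : t ∈ stab hS D A) : ⁅a, t⁆ ∈ stab hS A D := by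
  obtain ⟨h1, h2, h3⟩ := ht
  have hga : Twin S (conjBy A a) A := by rw [conjBy_of_mem ha]; rfl
  have hga' : Twin S (conjBy A a⁻¹) A := by rw [conjBy_of_mem (inv_mem ha)]; rfl
  have hti : ∀ {X : Subgroup G}, Twin S (conjBy X t) X → Twin S (conjBy X t⁻¹) X := by
    intro X hX
    have h := hX.conj hS t⁻¹
    rw [conjBy_inv_cancel] at h
    exact h.symm
  have hDa : Twin S (conjBy (conjBy D a⁻¹) t) (conjBy D a⁻¹) := by
    rcases eq_or_ne a 1 with rfl | ha1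
    · rw [inv_one, conjBy_one]; exact h2
    obtain ⟨δ, hδ, -, hδe⟩ :=
      conj_left_by_right (pair_symm hpA) (inv_mem ha) (inv_ne_one.2 ha1)
    have h := (stab_conj_le hS hdeg hD hA hE (pair_symm hpA) hpE hδ ⟨h1, h2, h3⟩).2.2
    rwa [← hδe] at h
  rw [commutatorElement_def]
  refine ⟨fun W hW w hw => ?_, ?_, ?_⟩
  · obtain ⟨w', hw'⟩ : ∃ w', w' = t⁻¹ * w * t := ⟨_, rfl⟩
    have hW' : conjBy W t⁻¹ ∈ commutingPartners S A := by
      rw [← mem_partners_conj hS t, conjBy_cancel_inv, h3]; exact hW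
    have hw'W : w' ∈ conjBy W t⁻¹ := hw' ▸ by simpa using conj_mem_conjBy (g := t⁻¹) hw
    have c1 : a⁻¹ * w = w * a⁻¹ := commute_of_commutator_eq_bot hW.2.2 (inv_mem ha) hw
    have c2 : a * w' = w' * a := commute_of_commutator_eq_bot hW'.2.2 ha hw'W
    calc a * t * a⁻¹ * t⁻¹ * w = a * t * a⁻¹ * (w' * t⁻¹) := by rw [hw']; group
      _ = a * t * a⁻¹ * (a * w' * a⁻¹) * t⁻¹ := by rw [c2]; group
      _ = a * (t * w' * t⁻¹) * (t * a⁻¹ * t⁻¹) := by group
      _ = a * w * (t * a⁻¹ * t⁻¹) := by rw [hw']; group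
      _ = w * a * (t * a⁻¹ * t⁻¹) := by rw [commute_of_commutator_eq_bot hW.2.2 ha hw]
      _ = _ := by group
  · rw [← conjBy_conjBy, ← conjBy_conjBy, ← conjBy_conjBy]
    have t1 : Twin S (conjBy (conjBy A t⁻¹) a⁻¹) A := ((hti h3).conj hS a⁻¹).trans hga'
    have t2 : Twin S (conjBy (conjBy (conjBy A t⁻¹) a⁻¹) t) A := (t1.conj hS t).trans h3
    exact (t2.conj hS a).trans hga
  · have h4 : Twin S (conjBy D (a * t * a⁻¹)) D := by
      rw [← conjBy_conjBy, ← conjBy_conjBy]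
      have h := hDa.conj hS a
      rwa [conjBy_cancel_inv] at h
    rw [← conjBy_conjBy]
    exact ((hti h2).conj hS (a * t * a⁻¹)).trans h4

/-- Elements centralizing `stab A D ⊓ stab D A` include `A` and `D`. -/
theorem inf_stab_central (hA : A ∈ S) (hD : D ∈ S) (hC : C ∈ commutingPartners S A)
    (hpA : IsRankOnePair A D) (hpC : IsRankOnePair C D) {a : G} (ha : a ∈ A) (ha2 : a * a ≠ 1)
    {z x : G} (hz : z ∈ stab hS A D ⊓ stab hS D A) (hx : x ∈ A ⊔ D) : z * x = x * z := by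
  have ha1 : a ≠ 1 := fun e => ha2 (by rw [e, one_mul])
  have key : ∀ α ∈ A, α ≠ 1 → ∀ y ∈ conjBy D α⁻¹, z * y = y * z := by
    intro α hα hα1 y hy
    obtain ⟨d, hd, hd1, hde⟩ := conj_left_by_right (pair_symm hpA) hα hα1
    obtain ⟨-, c, -, -, -, -, E, hES, hEne, hDE, -, η, hη, he⟩ :=
      cross_data hS hdeg hA hC.1 hD hC.2.2 (Ne.symm hC.2.1) hpA hpC hd hd1 hα hα1 hde.symm
    rw [← he, mem_conjBy] at hy
    have c1 : z * η = η * z := hz.2.1 E ⟨hES, hEne, hDE⟩ η hη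
    have c2 : z * (η⁻¹ * y * η) = (η⁻¹ * y * η) * z := hz.1.1 C hC _ hy
    calc z * y = (z * η) * (η⁻¹ * y * η) * η⁻¹ := by group
      _ = η * (z * (η⁻¹ * y * η)) * η⁻¹ := by rw [c1]; group
      _ = η * (η⁻¹ * y * η) * (z * η⁻¹) := by rw [c2]; group
      _ = η * (η⁻¹ * y * η) * (η⁻¹ * z) := by
          rw [show z * η⁻¹ = η⁻¹ * z from (Commute.inv_right (c1 : Commute z η)).eq]
      _ = _ := by group
  have hne : conjBy D a⁻¹ ≠ conjBy D (a * a)⁻¹ := fun e => by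
    rw [mul_inv_rev, ← conjBy_conjBy] at e
    exact ha1 (inv_eq_one.1 (eq_one_of_normalizes hpA (inv_mem ha) (conjBy_inj e).symm))
  obtain ⟨-, hsup⟩ := pair_of_mem hpA
    (conjBy_mem_unipotent (right_mem hpA) (Subgroup.mem_sup_left (inv_mem ha)))
    (conjBy_mem_unipotent (right_mem hpA) (Subgroup.mem_sup_left (inv_mem (mul_mem ha ha)))) hne
  rw [← hsup] at hx
  have hle : conjBy D a⁻¹ ⊔ conjBy D (a * a)⁻¹ ≤ Subgroup.centralizer {z} :=
    sup_le (fun y hy => Subgroup.mem_centralizer_iff.2 fun v hv => by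
        rw [Set.mem_singleton_iff.1 hv]; exact key a ha ha1 y hy)
      (fun y hy => Subgroup.mem_centralizer_iff.2 fun v hv => by
        rw [Set.mem_singleton_iff.1 hv]; exact key _ (mul_mem ha ha) ha2 y hy)
  exact Subgroup.mem_centralizer_iff.1 (hle hx) z rfl

/-- If some non-identity `k ∈ A` commutes with `g ∈ stab A D` up to the intersection of the two
stabilisers then all of `A` commutes with `g`. -/
theorem fix_of_power (hA : A ∈ S) (hD : D ∈ S) (hC : C ∈ commutingPartners S A)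
    (hpA : IsRankOnePair A D) (hpC : IsRankOnePair C D) {a : G} (ha : a ∈ A) (ha2 : a * a ≠ 1)
    {g k : G} (hg : g ∈ stab hS A D) (hk : k ∈ A) (hk1 : k ≠ 1)
    (h : ⁅k, g⁆ ∈ stab hS A D ⊓ stab hS D A) : ∀ a' ∈ A, a' * g = g * a' := by
  have hcen : ∀ x ∈ A ⊔ D, ⁅k, g⁆ * x = x * ⁅k, g⁆ := fun x hx =>
    inf_stab_central hS hdeg hA hD hC hpA hpC ha ha2 h hx
  have e : ⁅k, g⁆ * k⁻¹ = g * k⁻¹ * g⁻¹ := by
    rw [hcen _ (Subgroup.mem_sup_left (inv_mem hk)), commutatorElement_def]; group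
  have hz : ⁅k, g⁆ = 1 := by
    by_contra hz1
    refine za_not_root hS hA hD hpA (fun x hx => hcen x (Subgroup.mem_sup_left hx))
      (fun x hx => hcen x (Subgroup.mem_sup_right hx)) hz1 (inv_mem hk) (inv_ne_one.2 hk1) ?_
    rw [e]
    exact ⟨fun e1 => inv_ne_one.2 hk1 (conj_eq_one_iff.1 e1), _, hS.conj_mem A hA g,
      conj_mem_conjBy (inv_mem hk)⟩
  rw [hz, one_mul] at e
  have hfix : A = conjBy A g := eq_of_inter hS hA hD hpA (hS.conj_mem A hA g) (inv_mem hk)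
    (by rw [e]; exact conj_mem_conjBy (inv_mem hk)) (inv_ne_one.2 hk1)
  intro a' ha'
  have h1 : a' * g * a'⁻¹ * g⁻¹ ∈ A := by
    have : g * a'⁻¹ * g⁻¹ ∈ A := hfix ▸ conj_mem_conjBy (inv_mem ha')
    rw [show a' * g * a'⁻¹ * g⁻¹ = a' * (g * a'⁻¹ * g⁻¹) by group]
    exact mul_mem ha' this
  have h2 : a' * g * a'⁻¹ * g⁻¹ ∈ stab hS A D :=
    mul_mem ((Subgroup.mem_normalizer_iff.1 (stab_normal hS hdeg hA hD hC hpA hpC ha') g).1 hg)
      (inv_mem hg)
  exact mul_inv_eq_iff_eq_mul.1 (mul_inv_eq_one.1 (inter_stab hS hdeg hA hD hC hpA hpC h1 h2))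

set_option maxHeartbeats 1000000 in
/-- Twins forming a rank one pair have no elements of order above three. -/
theorem twin_absurd (hA : A ∈ S) (hB : B ∈ S) (hD : D ∈ S) (htw : Twin S A B)
    (hpAB : IsRankOnePair A B) (hC : C ∈ commutingPartners S A) (hpA : IsRankOnePair A D)
    (hpC : IsRankOnePair C D) {a a₀ b : G} (ha : a ∈ A) (ha2 : a * a ≠ 1) (ha3 : a * a * a ≠ 1)
    (ha₀ : a₀ ∈ A) (hb : b ∈ B) (hb1 : b ≠ 1) (he : Twin S (conjBy D a₀) (conjBy D b)) :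
    False := by
  have ha1 : a ≠ 1 := fun e => ha2 (by rw [e, one_mul])
  have hs : SAB A D := SAB.of (special_of_common hS hdeg hA hC.1 hD hC.2.2 (Ne.symm hC.2.1) hpA hpC)
    ⟨hS.commutative A hA, hS.commutative D hD⟩
  obtain ⟨d, hd, hd1, hde⟩ := conj_left_by_right (pair_symm hpA) ha ha1
  obtain ⟨-, -, -, -, -, -, E, hES, hEne, hDE, hpAE, -⟩ :=
    cross_data hS hdeg hA hC.1 hD hC.2.2 (Ne.symm hC.2.1) hpA hpC hd hd1 ha ha1 hde.symm
  have hE : E ∈ commutingPartners S D := ⟨hES, hEne, hDE⟩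
  have hpD := pair_symm hpA
  have hpE := pair_symm hpAE
  obtain ⟨Z, hZdef⟩ : ∃ Z, Z = stab hS A D ⊓ stab hS D A := ⟨_, rfl⟩
  have hcen : ∀ x ∈ A ⊔ D, ∀ z ∈ Z, z * x = x * z := fun x hx z hz =>
    inf_stab_central hS hdeg hA hD hC hpA hpC ha ha2 (hZdef ▸ hz) hx
  have hmemZ : ∀ g, g ∈ A ⊔ D → g ∈ Subgroup.normalizer (Z : Set G) := fun g hg =>
    Subgroup.centralizer_le_normalizer _ (Subgroup.mem_centralizer_iff.2 fun z hz => hcen g hg z hz)
  have hfixZ : ∀ g, Twin S (conjBy A g) A → Twin S (conjBy D g) D →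
      g ∈ Subgroup.normalizer (Z : Set G) := by
    intro g h2 h3
    have h2' : Twin S (conjBy A g⁻¹) A := by
      have h := h2.conj hS g⁻¹; rw [conjBy_inv_cancel] at h; exact h.symm
    have h3' : Twin S (conjBy D g⁻¹) D := by
      have h := h3.conj hS g⁻¹; rw [conjBy_inv_cancel] at h; exact h.symm
    rw [Subgroup.mem_normalizer_iff, hZdef]
    refine fun x => ⟨fun hx => ⟨stab_conj_mem hS hdeg h2 h3 hx.1,
      stab_conj_mem hS hdeg h3 h2 hx.2⟩, fun hx => ?_⟩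
    have h5 := stab_conj_mem hS hdeg h2' h3' hx.1
    have h6 := stab_conj_mem hS hdeg h3' h2' hx.2
    rw [show g⁻¹ * (g * x * g⁻¹) * g⁻¹⁻¹ = x by group] at h5 h6
    exact ⟨h5, h6⟩
  obtain ⟨M, hM⟩ : ∃ M, M = Subgroup.normalizer (Z : Set G) := ⟨_, rfl⟩
  have hnorm : (Z.subgroupOf M).Normal := by rw [hM]; exact Subgroup.normal_in_normalizer
  obtain ⟨π, hπ⟩ : ∃ π, π = QuotientGroup.mk' (Z.subgroupOf M) := ⟨_, rfl⟩
  obtain ⟨U, hU⟩ : ∃ U, U = Subgroup.map π ((stab hS A D).subgroupOf M) := ⟨_, rfl⟩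
  obtain ⟨V, hV⟩ : ∃ V, V = Subgroup.map π ((stab hS D A).subgroupOf M) := ⟨_, rfl⟩
  have hone : ∀ x : M, π x = 1 ↔ (x : G) ∈ Z := fun x => by
    rw [hπ]; exact QuotientGroup.eq_one_iff x
  have hcomm : ∀ x y : M, π x * π y = π y * π x ↔ ⁅(x : G), (y : G)⁆ ∈ Z := fun x y => by
    rw [← commutatorElement_eq_one_iff_mul_comm, ← map_commutatorElement π, hone]
    rfl
  have haM : a ∈ M := hM ▸ hmemZ a (Subgroup.mem_sup_left ha)
  have hnA := stab_normal hS hdeg hA hD hC hpA hpC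
  have hnD := stab_normal hS hdeg hD hA hE hpD hpE
  have hSM : stab hS A D ≤ M := fun g hg => hM ▸ hfixZ g hg.2.1 hg.2.2
  have hTM : stab hS D A ≤ M := fun g hg => hM ▸ hfixZ g hg.2.2 hg.2.1
  have mkU : ∀ (g : M), (g : G) ∈ stab hS A D → π g ∈ U := fun g hg =>
    hU ▸ Subgroup.mem_map_of_mem π hg
  have mkV : ∀ (g : M), (g : G) ∈ stab hS D A → π g ∈ V := fun g hg =>
    hV ▸ Subgroup.mem_map_of_mem π hg
  have getU : ∀ x ∈ U, ∃ g : M, (g : G) ∈ stab hS A D ∧ π g = x := fun x hx => by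
    rw [hU] at hx; exact hx
  have getV : ∀ x ∈ V, ∃ g : M, (g : G) ∈ stab hS D A ∧ π g = x := fun x hx => by
    rw [hV] at hx; exact hx
  have mkSwap : ∀ (α γ : M), (α : G) ∈ A → (α : G) ≠ 1 → Rel A D α γ →
      Swap U V (π α) (π γ) := by
    intro α γ hα hα1 hrel
    refine ⟨?_, ?_, ?_, ?_, ?_, ?_, ?_⟩
    · intro u hu v hv
      obtain ⟨g, hg, rfl⟩ := getU u hu
      obtain ⟨t, ht, rfl⟩ := getV v hv
      rw [hcomm, hZdef, commutatorElement_def]
      refine Subgroup.mem_inf.2 ⟨?_, mul_mem (stab_conj_mem hS hdeg hg.2.2 hg.2.1 ht) (inv_mem ht)⟩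
      rw [mul_assoc, mul_assoc, ← mul_assoc (t : G)]
      exact mul_mem hg (stab_conj_mem hS hdeg ht.2.2 ht.2.1 (inv_mem hg))
    · intro x hx hx'
      obtain ⟨g, hg, rfl⟩ := getU x hx
      obtain ⟨t, ht, hte⟩ := getV _ hx'
      have h1 : π (g⁻¹ * t) = 1 := by rw [map_mul, map_inv, hte, inv_mul_cancel]
      rw [hone, hZdef] at h1
      rw [hone, hZdef]
      refine ⟨hg, ?_⟩
      have h2 := mul_mem ht (inv_mem h1.2)
      rwa [show (t : G) * ((g⁻¹ * t : M) : G)⁻¹ = g by push_cast; group] at h2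
    · intro u hu
      obtain ⟨g, hg, rfl⟩ := getU u hu
      rw [← map_inv, ← map_mul, ← map_mul]
      exact mkU _ ((Subgroup.mem_normalizer_iff.1 (hnA hα) g).1 hg)
    · intro v hv
      obtain ⟨g, hg, rfl⟩ := getV v hv
      rw [← map_inv, ← map_mul, ← map_mul]
      exact mkV _ ((Subgroup.mem_normalizer_iff.1 (hnD hrel.2.2.1) g).1 hg)
    · intro v hv
      obtain ⟨g, hg, rfl⟩ := getV v hv
      rw [← map_commutatorElement π]
      exact mkU _ (comm_mem_stab hS hdeg hA hD hE hpA hpE hα hg)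
    · intro u hu
      obtain ⟨g, hg, rfl⟩ := getU u hu
      rw [← map_commutatorElement π]
      exact mkV _ (comm_mem_stab hS hdeg hD hA hC hpD hpC hrel.2.2.1 hg)
    · rw [← map_mul, ← map_mul, ← map_mul, ← map_mul]
      exact congrArg π (Subtype.ext (hrel.braid hs))
  obtain ⟨c, hc⟩ := Rel.exists_right hpA ha ha1
  obtain ⟨c', hc'⟩ := Rel.exists_right hpA (mul_mem ha ha) ha2
  have hcc : c' * c' = c := by
    have h := rel_pow 2 two_ne_zero hs hc (by rw [pow_two]; exact ha2) (e := c')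
      (by rw [pow_two]; exact hc')
    rwa [pow_two] at h
  obtain ⟨α, hα⟩ : ∃ α : M, (α : G) = a := ⟨⟨a, haM⟩, rfl⟩
  obtain ⟨γ, hγ⟩ : ∃ γ : M, (γ : G) = c := ⟨⟨c, hM ▸ hmemZ c (Subgroup.mem_sup_right hc.2.2.1)⟩, rfl⟩
  obtain ⟨γ', hγ'⟩ : ∃ γ' : M, (γ' : G) = c' :=
    ⟨⟨c', hM ▸ hmemZ c' (Subgroup.mem_sup_right hc'.2.2.1)⟩, rfl⟩
  have sw1 := mkSwap α γ (hα ▸ ha) (hα ▸ ha1) (hα ▸ hγ ▸ hc)
  have sw2 := mkSwap (α * α) γ' (by push_cast; rw [hα]; exact mul_mem ha ha)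
    (by push_cast; rw [hα]; exact ha2) (by push_cast; rw [hα, hγ']; exact hc')
  rw [map_mul] at sw2
  have hcc' : π γ' * π γ' = π γ := by
    rw [← map_mul]; exact congrArg π (Subtype.ext (by push_cast; rw [hγ, hγ']; exact hcc))
  have fixed : ∀ (g : M) (k : M), (g : G) ∈ stab hS A D → (k : G) ∈ A → (k : G) ≠ 1 →
      π k * π g * (π k)⁻¹ = π g → π α * π g * (π α)⁻¹ = π g := by
    intro g k hg hk hk1 hfix
    have h := (hcomm k g).1 (mul_inv_eq_iff_eq_mul.1 hfix)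
    have h1 := fix_of_power hS hdeg hA hD hC hpA hpC ha ha2 hg hk hk1 (hZdef ▸ h) a ha
    rw [← map_mul, ← map_inv, ← map_mul]
    refine congrArg π (Subtype.ext ?_)
    push_cast
    rw [hα, h1, mul_inv_cancel_right]
  have st1 : ∀ v ∈ V, π α * ⁅π α * π α, v⁆ * (π α)⁻¹ = ⁅π α * π α, v⁆ := by
    intro v hv
    have h := sw1.cube_fixes sw2 hcc' hv
    obtain ⟨t, ht, rfl⟩ := getV v hv
    rw [← map_mul, ← map_commutatorElement π] at h ⊢
    refine fixed _ (α * α * α) ?_ ?_ ?_ (by simpa only [map_mul] using h)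
    · exact comm_mem_stab hS hdeg hA hD hE hpA hpE
        (show ((α * α : M) : G) ∈ A by push_cast; rw [hα]; exact mul_mem ha ha) ht
    · push_cast; rw [hα]; exact mul_mem (mul_mem ha ha) ha
    · push_cast; rw [hα]; exact ha3
  have st2 : ∀ v ∈ V, π α * ⁅π α, v⁆ * (π α)⁻¹ = ⁅π α, v⁆ := by
    intro v hv
    have h := sw1.square_fixes hv (st1 v hv)
    obtain ⟨t, ht, rfl⟩ := getV v hv
    rw [← map_commutatorElement π] at h ⊢
    refine fixed _ (α * α) (comm_mem_stab hS hdeg hA hD hE hpA hpE (hα.symm ▸ ha) ht) ?_ ?_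
      (by simpa only [map_mul] using h)
    · push_cast; rw [hα]; exact mul_mem ha ha
    · push_cast; rw [hα]; exact ha2
  obtain ⟨g, hg, hgdef⟩ : ∃ g : M, (g : G) ∈ stab hS A D ∧ (g : G) = b⁻¹ * a₀ :=
    ⟨⟨_, hSM (twin_prod_mem hS hdeg hA hB hD htw ha₀ hb he)⟩,
      twin_prod_mem hS hdeg hA hB hD htw ha₀ hb he, rfl⟩
  have h3 := sw1.commutator_fixes st2 (mkU g hg)
  have h4 := (hcomm α (g⁻¹ * (α * g * α⁻¹))).1
    (mul_inv_eq_iff_eq_mul.1 (by simpa only [map_mul, map_inv] using h3))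
  push_cast at h4
  rw [hα] at h4
  obtain ⟨β, hβ⟩ : ∃ β, β = (g : G)⁻¹ * a * g := ⟨_, rfl⟩
  obtain ⟨z, hzdef⟩ : ∃ z, z = a * β * a⁻¹ * β⁻¹ := ⟨_, rfl⟩
  have hzZ : z ∈ Z := by
    convert h4 using 1
    rw [hzdef, hβ, commutatorElement_def]; group
  have hzc := fun x hx => hcen x hx z hzZ
  have e : z * a⁻¹ = β * a⁻¹ * β⁻¹ := by
    rw [hzc _ (Subgroup.mem_sup_left (inv_mem ha)), hzdef]; group
  have hz1 : z = 1 := by
    by_contra hz1
    refine za_not_root hS hA hD hpA (fun x hx => hzc x (Subgroup.mem_sup_left hx))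
      (fun x hx => hzc x (Subgroup.mem_sup_right hx)) hz1 (inv_mem ha) (inv_ne_one.2 ha1) ?_
    rw [e]
    exact ⟨fun e1 => inv_ne_one.2 ha1 (conj_eq_one_iff.1 e1), _, hS.conj_mem A hA β,
      conj_mem_conjBy (inv_mem ha)⟩
  rw [hz1, one_mul] at e
  have hfix : A = conjBy A β := eq_of_inter hS hA hD hpA (hS.conj_mem A hA β) (inv_mem ha)
    (e ▸ conj_mem_conjBy (inv_mem ha)) (inv_ne_one.2 ha1)
  have htwA : Twin S A (conjBy A (g : G)⁻¹) := by
    have h := hg.2.1.conj hS (g : G)⁻¹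
    rwa [conjBy_inv_cancel] at h
  have hβA : β ∈ conjBy A (g : G)⁻¹ := hβ ▸ by simpa using conj_mem_conjBy (g := (g : G)⁻¹) ha
  have hA' := hS.conj_mem A hA (g : G)⁻¹
  rcases pair_or_commute hS hdeg hA hA' with h | h
  · have h' := (twin_not_commute hS hdeg hA hA' htwA h).symm
    rw [hgdef, mul_inv_rev, inv_inv, ← conjBy_conjBy, conjBy_eq_iff, inv_inv, conjBy_of_mem ha₀]
      at h'
    exact hb1 (eq_one_of_normalizes (pair_symm hpAB) hb h')
  · have h1 := eq_one_of_normalizes (pair_symm h) hβA hfix.symm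
    rw [hβ] at h1
    exact ha1 ((conj_eq_one_iff (a := (g : G)⁻¹) (b := a)).1 (by simpa using h1))

theorem exists_matched (hA : A ∈ S) (hD : D ∈ S) (htw : Twin S A B) (hpA : IsRankOnePair A D)
    (hpB : IsRankOnePair B D) {b : G} (hb : b ∈ B) (hb1 : b ≠ 1) :
    ∃ a ∈ A, Twin S (conjBy D a) (conjBy D b) := by
  obtain ⟨d, hd, hd1, hde⟩ := conj_left_by_right (pair_symm hpB) hb hb1
  obtain ⟨a, ha, -, hae⟩ := conj_left_by_right hpA hd hd1
  refine ⟨a, ha, ?_⟩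
  rw [← hae, hde]
  exact htw.conj hS d

theorem no_psl2 (hA : A ∈ S) (hB : B ∈ S) (hD : D ∈ S) (htw : Twin S A B)
    (hC : C ∈ commutingPartners S A) (hpA : IsRankOnePair A D) (hpC : IsRankOnePair C D)
    (hpB : IsRankOnePair B D) {A₀ B₀ : Subgroup G} (hA₀ : A₀ ≤ A) (hB₀ : B₀ ≤ B) {k : Type*}
    [Field k] (hk : 3 < ENat.card k) (h : IsPSL2PairOver k A₀ B₀) : False := by
  obtain ⟨φ, hrange, hker, hU, -⟩ := h
  have hnA := stab_normal hS hdeg hA hD hC hpA hpC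
  have hBle : B ≤ A ⊔ stab hS A D := by
    intro b hb
    rcases eq_or_ne b 1 with rfl | hb1
    · exact one_mem _
    obtain ⟨a, ha, he⟩ := exists_matched hS hdeg hA hD htw hpA hpB hb hb1
    rw [show b = a * (b⁻¹ * a)⁻¹ by group]
    exact mul_mem (Subgroup.mem_sup_left ha)
      (Subgroup.mem_sup_right (inv_mem (twin_prod_mem hS hdeg hA hB hD htw ha hb he)))
  have hφ : ∀ g, ∃ a ∈ A, ∃ t ∈ stab hS A D, φ g = a * t := by
    intro g
    have h1 : φ g ∈ A ⊔ stab hS A D :=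
      sup_le (hA₀.trans le_sup_left) (hB₀.trans hBle) (hrange ▸ ⟨g, rfl⟩)
    rw [← SetLike.mem_coe, Subgroup.coe_mul_of_left_le_normalizer_right _ _ hnA] at h1
    obtain ⟨a, ha, t, ht, he⟩ := h1
    exact ⟨a, ha, t, ht, he.symm⟩
  obtain ⟨l, hl0, hl2⟩ : ∃ l : k, l ≠ 0 ∧ l ^ 2 - 1 ≠ 0 := by
    by_contra hcon
    push Not at hcon
    refine hk.not_ge ?_
    have hsub : (Set.univ : Set k) ⊆ {0, 1, -1} := fun l _ => by
      rcases eq_or_ne l 0 with h0 | h0
      · exact Or.inl h0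
      · exact Or.inr (sq_eq_one_iff.1 (sub_eq_zero.1 (hcon l h0)))
    rw [← Set.encard_univ]
    refine (Set.encard_le_encard hsub).trans ((Set.encard_insert_le _ _).trans ?_)
    refine (add_le_add (Set.encard_insert_le _ _) le_rfl).trans ?_
    rw [Set.encard_singleton]
    decide
  have hu : SL2.h l * SL2.u (l ^ 2 - 1)⁻¹ = SL2.u 1 * SL2.u (l ^ 2 - 1)⁻¹ * SL2.h l := by
    apply SL2.ext2 <;> simp [Matrix.mul_apply, Fin.sum_univ_two, SL2.h_entries hl0] <;>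
      field_simp <;> ring
  have h1 : φ (SL2.u 1) ∈ stab hS A D := by
    rw [show SL2.u (1 : k) = SL2.h l * SL2.u (l ^ 2 - 1)⁻¹ * (SL2.h l)⁻¹ * (SL2.u (l ^ 2 - 1)⁻¹)⁻¹
      by rw [hu]; group]
    obtain ⟨a, ha, t, ht, e1⟩ := hφ (SL2.h l)
    obtain ⟨a', ha', t', ht', e2⟩ := hφ (SL2.u (l ^ 2 - 1)⁻¹)
    simp only [map_mul, map_inv, e1, e2]
    have conj_mem : ∀ x ∈ A, ∀ y ∈ stab hS A D, x * y * x⁻¹ ∈ stab hS A D :=
      fun x hx y hy => (Subgroup.mem_normalizer_iff.1 (hnA hx) y).1 hy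
    rw [show a * t * (a' * t') * (a * t)⁻¹ * (a' * t')⁻¹ = (a * t * a⁻¹) *
      ((a * a') * (t' * t⁻¹) * (a * a')⁻¹) * ((a * a') * a⁻¹ * t'⁻¹ * a'⁻¹) by group,
      show (a * a') * a⁻¹ = a' by rw [comm hS hA ha ha', mul_inv_cancel_right]]
    exact mul_mem (mul_mem (conj_mem a ha t ht)
      (conj_mem _ (mul_mem ha ha') _ (mul_mem ht' (inv_mem ht)))) (conj_mem a' ha' _ (inv_mem ht'))
  have h2 : φ (SL2.u 1) = 1 := inter_stab hS hdeg hA hD hC hpA hpC
    (hA₀ (hU ▸ Subgroup.mem_map_of_mem φ (SL2.mem_upper.2 ⟨1, rfl⟩))) h1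
  have h3 := congrArg (fun g : Matrix.SpecialLinearGroup (Fin 2) k => g.1 0 0)
    (Subgroup.mem_center_iff.1 (hker (MonoidHom.mem_ker.2 h2)) (SL2.v 1))
  simp [Matrix.mul_apply, Fin.sum_univ_two] at h3

end

end Cfsg.Agent.RootSubgroups
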